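import Cfsg.Agent.Mrg.Omega.SQT.Rank
import Cfsg.Agent.Mrg.Omega.HOne.NSSide
import Cfsg.Agent.Omega.HOne.NSClaim
import Cfsg.Agent.Mrg.Omega.Half.Basic

section


/-!
# II.d, `k = 2`, nonsplit (`WrCv`): definitions

`M : NatK F S P V D k`, `V = zl S P`, `D = cv S P`.

* `Fc M i` : the elements of `P` which act on the `i`-th factor of `V / D` only, by an element of `SL₂(F)`, and centralise `D`;
* `Tc M i` : the stabiliser of the `i`-th factor in `S`;
* `Nc M i = [V, Fc M i]`, `Uc M i = Nc M i ∩ D`;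
* `Qc M i = C_{Tc M i}(Nc M i)`, `Ec M i = N_{Fc M i}(Qc M i)`, `Lc M i = ⟨Tc M i, Ec M i⟩`;
* `Base` : the abstract configuration of the pair `(N₁, N₁')`, with `L`, `T`, `A = N₁`, `U = U₁`, ...
-/

set_option autoImplicit false
set_option linter.unusedSectionVars false

namespace Cfsg.Agent.Omega.IId.Ns

open Subgroup Cfsg Cfsg.Agent.ZN Cfsg.Agent.ZN.ChoiceSit Cfsg.Agent.ZN.ChoiceBase Cfsg.Agent.Omega.MinPar
open Cfsg.Agent.Omega.FrameFF Cfsg.Agent.Omega.FFThm Cfsg.Agent.Lib.SL2Mat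
open Cfsg.Agent.Omega.NatPair (ap ap_add ap_mul ap_one ap_inj ext2 ap_zero' ap_one' ap_inv_ap ap_ap_inv)
open Cfsg.Agent.Omega.HOne (cv_le conj_mem_zl conj_mem_cv)
open Cfsg.Agent.Omega.IId.Cv

universe u

variable {G : Type u} [Group G] {F : Type} [Field F]

section fac

variable {S P : Subgroup G} {k : ℕ} (M : NatK F S P (zl S P) (cv S P) k)

/-- The element of `SL₂(F)^k` which is `B` in place `i`. -/
def one1 {k : ℕ} (i : Fin k) (B : Matrix.SpecialLinearGroup (Fin 2) F) :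
    Fin k → Matrix.SpecialLinearGroup (Fin 2) F := Function.update (fun _ => 1) i B

theorem one1_same {k : ℕ} (i : Fin k) (B : Matrix.SpecialLinearGroup (Fin 2) F) : one1 i B i = B :=
  Function.update_self _ _ _

theorem one1_ne {k : ℕ} {i j : Fin k} (h : j ≠ i) (B : Matrix.SpecialLinearGroup (Fin 2) F) : one1 i B j = 1 :=
  Function.update_of_ne h _ _

theorem one1_one {k : ℕ} (i : Fin k) : one1 i (1 : Matrix.SpecialLinearGroup (Fin 2) F) = fun _ => 1 :=
  Function.update_eq_self _ _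

theorem one1_mul {k : ℕ} (i : Fin k) (A B : Matrix.SpecialLinearGroup (Fin 2) F) (j : Fin k) :
    one1 i A j * one1 i B j = one1 i (A * B) j := by
  by_cases h : j = i
  · subst h; rw [one1_same, one1_same, one1_same]
  · rw [one1_ne h, one1_ne h, one1_ne h, one_mul]

theorem acts_one : ActsSL M.e (zl S P) (cv S P) 1 (fun _ => 1) :=
  ⟨fun v _ i => by rw [one_mul, inv_one, mul_one, ap_one], fun d _ => by rw [one_mul, mul_one]⟩

theorem acts_mul {x y : G} (hx : x ∈ P) (hy : y ∈ P) {A B : Fin k → Matrix.SpecialLinearGroup (Fin 2) F}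
    (hA : ActsSL M.e (zl S P) (cv S P) x A) (hB : ActsSL M.e (zl S P) (cv S P) y B) :
    ActsSL M.e (zl S P) (cv S P) (x * y) (fun i => A i * B i) := by
  refine ⟨fun v hv i => ?_, fun d hd => ?_⟩
  · have e : x * y * v * (x * y)⁻¹ = x * (y * v * y⁻¹) * x⁻¹ := by group
    rw [e, hA.1 _ (conj_mem_zl hy hv), hB.1 v hv, ap_mul]
  · rw [mul_assoc, hB.2 d hd, ← mul_assoc, hA.2 d hd, mul_assoc]

theorem acts_inv {x : G} (hx : x ∈ P) {A : Fin k → Matrix.SpecialLinearGroup (Fin 2) F}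
    (hA : ActsSL M.e (zl S P) (cv S P) x A) :
    ActsSL M.e (zl S P) (cv S P) x⁻¹ (fun i => (A i)⁻¹) := by
  refine ⟨fun v hv i => ?_, fun d hd => ?_⟩
  · have h1 := hA.1 _ (conj_mem_zl (inv_mem hx) hv) i
    have e : x * (x⁻¹ * v * x⁻¹⁻¹) * x⁻¹ = v := by group
    rw [e] at h1
    rw [h1, ap_inv_ap]
  · have h1 := hA.2 d hd
    calc x⁻¹ * d = x⁻¹ * (d * x) * x⁻¹ := by group
      _ = x⁻¹ * (x * d) * x⁻¹ := by rw [h1]
      _ = d * x⁻¹ := by group

/-- The elements of `P` acting on the `i`-th factor only. -/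
def Fc (i : Fin k) : Subgroup G where
  carrier := {x | x ∈ P ∧ ∃ B, ActsSL M.e (zl S P) (cv S P) x (one1 i B)}
  one_mem' := ⟨one_mem _, 1, by rw [one1_one]; exact acts_one M⟩
  mul_mem' := by
    rintro x y ⟨hx, A, hA⟩ ⟨hy, B, hB⟩
    refine ⟨mul_mem hx hy, A * B, ?_⟩
    have h := acts_mul M hx hy hA hB
    rwa [show (fun j => one1 i A j * one1 i B j) = one1 i (A * B) from funext (one1_mul i A B)] at h
  inv_mem' := by
    rintro x ⟨hx, A, hA⟩
    refine ⟨inv_mem hx, A⁻¹, ?_⟩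
    have h := acts_inv M hx hA
    have e : (fun j => (one1 i A j)⁻¹) = one1 i A⁻¹ := by
      funext j
      by_cases h : j = i
      · subst h; rw [one1_same, one1_same]
      · rw [one1_ne h, one1_ne h, inv_one]
    rwa [e] at h

theorem mem_Fc {i : Fin k} {x : G} :
    x ∈ Fc M i ↔ x ∈ P ∧ ∃ B, ActsSL M.e (zl S P) (cv S P) x (one1 i B) := Iff.rfl

/-- The stabiliser of the `i`-th factor in `S`. -/
def Tc (i : Fin k) : Subgroup G where
  carrier := {t | (t ∈ S ∧ t ∈ P) ∧ ∀ v ∈ zl S P, M.e (t * v * t⁻¹) i = 0 ↔ M.e v i = 0}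
  one_mem' := ⟨⟨one_mem _, one_mem _⟩, fun v _ => by rw [one_mul, inv_one, mul_one]⟩
  mul_mem' := by
    rintro x y ⟨hx, hx'⟩ ⟨hy, hy'⟩
    refine ⟨⟨mul_mem hx.1 hy.1, mul_mem hx.2 hy.2⟩, fun v hv => ?_⟩
    have e : x * y * v * (x * y)⁻¹ = x * (y * v * y⁻¹) * x⁻¹ := by group
    rw [e, hx' _ (conj_mem_zl hy.2 hv), hy' v hv]
  inv_mem' := by
    rintro x ⟨hx, hx'⟩
    refine ⟨⟨inv_mem hx.1, inv_mem hx.2⟩, fun v hv => ?_⟩
    have h1 := hx' _ (conj_mem_zl (inv_mem hx.2) hv)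
    have e : x * (x⁻¹ * v * x⁻¹⁻¹) * x⁻¹ = v := by group
    rw [e] at h1
    exact h1.symm

theorem mem_Tc {i : Fin k} {t : G} :
    t ∈ Tc M i ↔ (t ∈ S ∧ t ∈ P) ∧ ∀ v ∈ zl S P, M.e (t * v * t⁻¹) i = 0 ↔ M.e v i = 0 := Iff.rfl

/-- `N_i = [V, Fc i]`. -/
def Nc (i : Fin k) : Subgroup G := closure {y | ∃ x ∈ Fc M i, ∃ v ∈ zl S P, y = x * v * x⁻¹ * v⁻¹}

/-- `U_i = N_i ∩ D`. -/
def Uc (i : Fin k) : Subgroup G := Nc M i ⊓ cv S P

/-- `Q_i = C_{T_i}(N_i)`. -/
def Qc (i : Fin k) : Subgroup G := Tc M i ⊓ centralizer (Nc M i : Set G)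

/-- `N_{Fc i}(Q_i)`. -/
def Ec (i : Fin k) : Subgroup G := Fc M i ⊓ normalizer (Qc M i : Set G)

/-- `L_i`. -/
def Lc (i : Fin k) : Subgroup G := Tc M i ⊔ Ec M i

end fac

/-! ### The abstract configuration -/

open Cfsg.Agent.Omega.HOne.NSMod Cfsg.Agent.Omega.HOne.NSSide Cfsg.Agent.Omega.HOne.NSPair

/-- `L ≤ H` of characteristic 2 ==> `A ≤ Ω₁(Z(O₂(H)))`. -/
def Half (L A : Subgroup G) : Prop :=
  ∀ H : Subgroup G, L ≤ H → H ⊓ centralizer (o2 H : Set G) ≤ o2 H → A ≤ zc (o2 H)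

/-- The configuration after (5): `A = N₁`, `U = U₁ = g(F) = e'(F)`, `U' = U₁' = g'(F) = e(F)`, `T = N_S(N₁)` of index at
most 2 in the Sylow 2-subgroups, `O₂(C_G(U U')) ≤ T ∩ T'`. -/
structure Base (T T' L L' A A' U U' : Subgroup G) (π π' : G → Fin 2 → F) (e f g e' f' g' : F → G) : Prop where
  p : PairF T T' L L' A A' U U' π π' e f g e' f' g' A A'
  c1 : ∀ z, ∃ y, e z = g' y
  c2 : ∀ z, ∃ y, e' z = g y
  g1 : ∀ y, g y = 1 → y = 0
  g1' : ∀ y, g' y = 1 → y = 0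
  T2 : IsPGroup 2 T
  T2' : IsPGroup 2 T'
  two : ∀ X : Subgroup G, IsPGroup 2 X → T ≤ X → Nat.card X ≤ 2 * Nat.card T
  two' : ∀ X : Subgroup G, IsPGroup 2 X → T' ≤ X → Nat.card X ≤ 2 * Nat.card T'
  QL : L ≤ normalizer (T ⊓ centralizer (A : Set G) : Set G)
  QL' : L' ≤ normalizer (T' ⊓ centralizer (A' : Set G) : Set G)
  AZ : A ≤ zc (o2 (normalizer (U : Set G)))
  AZ' : A' ≤ zc (o2 (normalizer (U' : Set G)))
  OT : o2 (centralizer (U : Set G) ⊓ centralizer (U' : Set G)) ≤ T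
  OT' : o2 (centralizer (U : Set G) ⊓ centralizer (U' : Set G)) ≤ T'

theorem Base.symm {T T' L L' A A' U U' : Subgroup G} {π π' : G → Fin 2 → F} {e f g e' f' g' : F → G}
    (h : Base T T' L L' A A' U U' π π' e f g e' f' g') : Base T' T L' L A' A U' U π' π e' f' g' e f g where
  p := h.p.symm
  c1 := h.c2
  c2 := h.c1
  g1 := h.g1'
  g1' := h.g1
  T2 := h.T2'
  T2' := h.T2
  two := h.two'
  two' := h.two
  QL := h.QL'
  QL' := h.QL
  AZ := h.AZ'
  AZ' := h.AZ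
  OT := by rw [inf_comm]; exact h.OT'
  OT' := by rw [inf_comm]; exact h.OT

end Cfsg.Agent.Omega.IId.Ns

end

section


/-!
# II.d, nonsplit: one side

`M : NatK F S P (zl S P) (cv S P) k`, `i : Fin k`.

* `St M i` : the stabiliser of the `i`-th factor in `P`; `D1 M i = {v ∈ V | e v i = 0}`;
* `St_conj_Fc`, `Nc_le`, `e_Nc`, `St_norm_Nc`, `Nc_surj`, `exists_Nc_D1`;
* `comm_D1` : `[D₁, Fc] = 1`; `comm_Nc_of`, `comm_Nc` : rigidity; `exists_Ec` : Frattini;
* `natOver`, `rig_of`, `is_of_acts`, `sideS_of`, `exists_form` : `SideS (Tc) (Lc) (Nc) (Uc) B π`, `Form .. (Nc)`;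
* `relIndex_Tc`, `card_Tc` : `|S| = k |Tc|`; `Lc_le_norm_Qc`; `exists_Qc_ne` : `Qc` is not commutative if `k > 1`.
-/

set_option autoImplicit false
set_option linter.unusedSectionVars false

namespace Cfsg.Agent.Omega.IId.Ns.Sd

open Subgroup Cfsg Cfsg.Agent.ZN Cfsg.Agent.ZN.ChoiceSit Cfsg.Agent.ZN.ChoiceBase Cfsg.Agent.Omega.MinPar
open Cfsg.Agent.Omega.FrameFF Cfsg.Agent.Omega.FFThm Cfsg.Agent.Lib.SL2Mat
open Cfsg.Agent.Omega.NatPair (ap ap_add ap_mul ap_one ap_inj ext2 ap_zero' ap_one' ap_inv_ap ap_ap_inv)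
open Cfsg.Agent.Omega.HOne (cv_le conj_mem_zl conj_mem_cv exists_ap_three_sub)
open Cfsg.Agent.Omega.IId.Cv

universe u

section st

variable {G : Type u} [Group G] {F : Type} [Field F] {S P : Subgroup G} {k : ℕ}
  (M : NatK F S P (zl S P) (cv S P) k)

/-- The stabiliser of the `i`-th factor in `P`. -/
def St (i : Fin k) : Subgroup G where
  carrier := {t | t ∈ P ∧ ∀ v ∈ zl S P, M.e (t * v * t⁻¹) i = 0 ↔ M.e v i = 0}
  one_mem' := ⟨one_mem _, fun v _ => by rw [one_mul, inv_one, mul_one]⟩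
  mul_mem' := by
    rintro x y ⟨hx, hx'⟩ ⟨hy, hy'⟩
    refine ⟨mul_mem hx hy, fun v hv => ?_⟩
    have e : x * y * v * (x * y)⁻¹ = x * (y * v * y⁻¹) * x⁻¹ := by group
    rw [e, hx' _ (conj_mem_zl hy hv), hy' v hv]
  inv_mem' := by
    rintro x ⟨hx, hx'⟩
    refine ⟨inv_mem hx, fun v hv => ?_⟩
    have h1 := hx' _ (conj_mem_zl (inv_mem hx) hv)
    have e : x * (x⁻¹ * v * x⁻¹⁻¹) * x⁻¹ = v := by group
    rw [e] at h1
    exact h1.symm

theorem mem_St {i : Fin k} {t : G} :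
    t ∈ St M i ↔ t ∈ P ∧ ∀ v ∈ zl S P, M.e (t * v * t⁻¹) i = 0 ↔ M.e v i = 0 := Iff.rfl

theorem St_le (i : Fin k) : St M i ≤ P := fun _ h => h.1

theorem Tc_le_St (i : Fin k) : Tc M i ≤ St M i := fun _ h => ⟨h.1.2, h.2⟩

theorem Tc_le (i : Fin k) : Tc M i ≤ S := fun _ h => h.1.1

theorem mem_Tc_iff {i : Fin k} {t : G} : t ∈ Tc M i ↔ t ∈ S ∧ t ∈ St M i :=
  ⟨fun h => ⟨h.1.1, h.1.2, h.2⟩, fun h => ⟨⟨h.1, h.2.1⟩, h.2.2⟩⟩

theorem Fc_le (i : Fin k) : Fc M i ≤ P := fun _ h => h.1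

theorem Fc_le_St (i : Fin k) : Fc M i ≤ St M i := by
  rintro x ⟨hx, B, hB⟩
  refine ⟨hx, fun v hv => ?_⟩
  rw [hB.1 v hv i, one1_same]
  constructor
  · intro h
    have h1 := ap_inv_ap B (M.e v i)
    rw [h] at h1
    rw [← h1]
    apply ext2
    · rw [ap_zero']; simp
    · rw [ap_one']; simp
  · intro h
    rw [h]
    apply ext2
    · rw [ap_zero']; simp
    · rw [ap_one']; simp

/-- an element of `V` with one nonzero coordinate -/
theorem exists_single (i : Fin k) (x : Fin 2 → F) : ∃ v ∈ zl S P, M.e v i = x ∧ ∀ j, j ≠ i → M.e v j = 0 := by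
  classical
  obtain ⟨v, hv, e⟩ := M.surj (Function.update 0 i x)
  refine ⟨v, hv, ?_, fun j hj => ?_⟩
  · rw [e, Function.update_self]
  · rw [e, Function.update_of_ne hj]; rfl

/-- an element of `St M i` permutes the factors and fixes the `i`-th -/
theorem exists_perm {i : Fin k} {t : G} (ht : t ∈ St M i) : ∃ σ : Equiv.Perm (Fin k), σ i = i ∧
    ∀ v ∈ zl S P, ∀ l, M.e (t * v * t⁻¹) (σ l) = 0 ↔ M.e v l = 0 := by
  obtain ⟨σ, hσ⟩ := M.perm t ht.1
  refine ⟨σ, ?_, hσ⟩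
  by_contra hne
  have hl : σ.symm i ≠ i := fun h => hne (by rw [← h, Equiv.apply_symm_apply, h])
  obtain ⟨v, hv, e1, e2⟩ := exists_single M i ![1, 0]
  have h1 := hσ v hv (σ.symm i)
  rw [Equiv.apply_symm_apply, ht.2 v hv, e1, e2 _ hl] at h1
  have := congrFun (h1.2 rfl) 0
  simp at this

/-- elements with all coordinates outside `i` zero -/
theorem St_zero {i : Fin k} {t u : G} (ht : t ∈ St M i) (hu : u ∈ zl S P) (h0 : ∀ j, j ≠ i → M.e u j = 0) :
    ∀ j, j ≠ i → M.e (t * u * t⁻¹) j = 0 := by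
  obtain ⟨σ, h1, h2⟩ := exists_perm M ht
  intro j hj
  have h3 := h2 u hu (σ.symm j)
  rw [Equiv.apply_symm_apply] at h3
  refine h3.2 (h0 _ fun h => hj ?_)
  rw [← h1, ← h, Equiv.apply_symm_apply]

/-- the conjugate of an element acting as an element of `SL₂(F)^k` -/
theorem acts_conj {t x : G} (ht : t ∈ P) (hx : x ∈ P) {A : Fin k → Matrix.SpecialLinearGroup (Fin 2) F}
    (hA : ActsSL M.e (zl S P) (cv S P) x A) : ∃ B, ActsSL M.e (zl S P) (cv S P) (t * x * t⁻¹) B := by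
  obtain ⟨B, hB⟩ := M.norm t ht x hx A hA.1
  refine ⟨B, hB, fun d hd => ?_⟩
  have h1 := hA.2 _ (conj_mem_cv (inv_mem ht) hd)
  rw [inv_inv] at h1
  calc t * x * t⁻¹ * d = t * (x * (t⁻¹ * d * t)) * t⁻¹ := by group
    _ = t * (t⁻¹ * d * t * x) * t⁻¹ := by rw [h1]
    _ = _ := by group

theorem ap_eq_one {A : Matrix.SpecialLinearGroup (Fin 2) F} (h : ∀ x, ap A x = x) : A = 1 := by
  have h0 := h ![1, 0]
  have h1 := h ![0, 1]
  have a0 := congrFun h0 0
  have a1 := congrFun h0 1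
  have b0 := congrFun h1 0
  have b1 := congrFun h1 1
  rw [ap_zero'] at a0 b0
  rw [ap_one'] at a1 b1
  simp at a0 a1 b0 b1
  apply ext_ent
  · rw [a0]; rfl
  · rw [b0]; rfl
  · rw [a1]; rfl
  · rw [b1]; rfl

/-- `St M i` normalises `Fc M i` -/
theorem St_conj_Fc {i : Fin k} {t x : G} (ht : t ∈ St M i) (hx : x ∈ Fc M i) : t * x * t⁻¹ ∈ Fc M i := by
  obtain ⟨hxP, B, hB⟩ := hx
  obtain ⟨C, hC⟩ := acts_conj M ht.1 hxP hB
  refine ⟨mul_mem (mul_mem ht.1 hxP) (inv_mem ht.1), C i, ?_⟩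
  have hCj : ∀ j, j ≠ i → C j = 1 := by
    intro j hj
    apply ap_eq_one
    intro y
    obtain ⟨v, hv, e1, -⟩ := exists_single M j y
    rw [← e1, ← hC.1 v hv j]
    set w := t⁻¹ * v * t with hw
    have hwV : w ∈ zl S P := by
      have := conj_mem_zl (inv_mem ht.1) hv
      rwa [inv_inv] at this
    have hu : x * w * x⁻¹ * w⁻¹ ∈ zl S P := mul_mem (conj_mem_zl hxP hwV) (inv_mem hwV)
    have hu0 : ∀ j, j ≠ i → M.e (x * w * x⁻¹ * w⁻¹) j = 0 := by
      intro j hj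
      rw [e_div M (conj_mem_zl hxP hwV) hwV, Pi.sub_apply, hB.1 w hwV j, one1_ne hj, ap_one, sub_self]
    have h1 := St_zero M ht hu hu0 j hj
    have e2 : t * (x * w * x⁻¹ * w⁻¹) * t⁻¹ = t * x * t⁻¹ * v * (t * x * t⁻¹)⁻¹ * v⁻¹ := by
      rw [hw]; group
    have hxt : t * x * t⁻¹ * v * (t * x * t⁻¹)⁻¹ ∈ zl S P :=
      conj_mem_zl (mul_mem (mul_mem ht.1 hxP) (inv_mem ht.1)) hv
    rw [e2, e_div M hxt hv, Pi.sub_apply] at h1
    exact sub_eq_zero.1 h1
  have e3 : one1 i (C i) = C := by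
    funext j
    by_cases h : j = i
    · subst h; rw [one1_same]
    · rw [one1_ne h, hCj j h]
  rw [e3]
  exact hC

/-- `D₁ = {v ∈ V | e v i = 0}` -/
def D1 (i : Fin k) : Subgroup G where
  carrier := {v | v ∈ zl S P ∧ M.e v i = 0}
  one_mem' := ⟨one_mem _, by rw [e_one M]; rfl⟩
  mul_mem' := by
    rintro x y ⟨hx, hx'⟩ ⟨hy, hy'⟩
    exact ⟨mul_mem hx hy, by rw [M.mul x hx y hy, Pi.add_apply, hx', hy', add_zero]⟩
  inv_mem' := by
    rintro x ⟨hx, hx'⟩
    exact ⟨inv_mem hx, by rw [e_inv M hx, Pi.neg_apply, hx', neg_zero]⟩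

theorem mem_D1 {i : Fin k} {v : G} : v ∈ D1 M i ↔ v ∈ zl S P ∧ M.e v i = 0 := Iff.rfl

theorem D1_le (i : Fin k) : D1 M i ≤ zl S P := fun _ h => h.1

theorem cv_le_D1 (i : Fin k) : cv S P ≤ D1 M i := fun d hd => ⟨cv_le _ _ hd, by rw [e_cv M hd]; rfl⟩

theorem St_conj_D1 {i : Fin k} {t v : G} (ht : t ∈ St M i) (hv : v ∈ D1 M i) : t * v * t⁻¹ ∈ D1 M i :=
  ⟨conj_mem_zl ht.1 hv.1, (ht.2 v hv.1).2 hv.2⟩

/-! ### `Nc` -/

theorem Nc_le (i : Fin k) : Nc M i ≤ zl S P := by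
  unfold Nc
  rw [closure_le]
  rintro _ ⟨x, hx, v, hv, rfl⟩
  exact mul_mem (conj_mem_zl hx.1 hv) (inv_mem hv)

theorem comm_mem_Nc {i : Fin k} {x v : G} (hx : x ∈ Fc M i) (hv : v ∈ zl S P) : x * v * x⁻¹ * v⁻¹ ∈ Nc M i :=
  subset_closure ⟨x, hx, v, hv, rfl⟩

/-- the coordinates of `Nc M i` -/
theorem e_Nc {i j : Fin k} {v : G} (hv : v ∈ Nc M i) (hj : j ≠ i) : M.e v j = 0 := by
  have h1 : Nc M i ≤ D1 M j := by
    unfold Nc
    rw [closure_le]
    rintro _ ⟨x, ⟨hx, B, hB⟩, v, hv, rfl⟩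
    refine ⟨mul_mem (conj_mem_zl hx hv) (inv_mem hv), ?_⟩
    rw [e_div M (conj_mem_zl hx hv) hv, Pi.sub_apply, hB.1 v hv j, one1_ne hj, ap_one, sub_self]
  exact (h1 hv).2

/-- `St M i` normalises `Nc M i` -/
theorem St_conj_Nc {i : Fin k} {t v : G} (ht : t ∈ St M i) (hv : v ∈ Nc M i) : t * v * t⁻¹ ∈ Nc M i := by
  unfold Nc at hv
  induction hv using closure_induction with
  | mem v hv =>
    obtain ⟨x, hx, w, hw, rfl⟩ := hv
    have e : t * (x * w * x⁻¹ * w⁻¹) * t⁻¹ = t * x * t⁻¹ * (t * w * t⁻¹) * (t * x * t⁻¹)⁻¹ * (t * w * t⁻¹)⁻¹ := by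
      group
    rw [e]
    exact comm_mem_Nc M (St_conj_Fc M ht hx) (conj_mem_zl ht.1 hw)
  | one => rw [mul_one, mul_inv_cancel]; exact one_mem _
  | mul v w _ _ h1 h2 =>
    have e : t * (v * w) * t⁻¹ = t * v * t⁻¹ * (t * w * t⁻¹) := by group
    rw [e]
    exact mul_mem h1 h2
  | inv v _ h1 =>
    have e : t * v⁻¹ * t⁻¹ = (t * v * t⁻¹)⁻¹ := by group
    rw [e]
    exact inv_mem h1

theorem le_normalizer_of_conj {H A : Subgroup G} (h : ∀ t ∈ H, ∀ v ∈ A, t * v * t⁻¹ ∈ A) :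
    H ≤ normalizer (A : Set G) := by
  intro t ht
  rw [mem_normalizer_iff]
  intro v
  refine ⟨h t ht v, fun hv => ?_⟩
  have h1 := h t⁻¹ (inv_mem ht) _ hv
  have e : t⁻¹ * (t * v * t⁻¹) * t⁻¹⁻¹ = v := by group
  rwa [e] at h1

theorem St_norm_Fc (i : Fin k) : St M i ≤ normalizer (Fc M i : Set G) :=
  le_normalizer_of_conj fun _ ht _ hx => St_conj_Fc M ht hx

theorem St_norm_Nc (i : Fin k) : St M i ≤ normalizer (Nc M i : Set G) :=
  le_normalizer_of_conj fun _ ht _ hx => St_conj_Nc M ht hx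

theorem St_norm_D1 (i : Fin k) : St M i ≤ normalizer (D1 M i : Set G) :=
  le_normalizer_of_conj fun _ ht _ hx => St_conj_D1 M ht hx

theorem St_norm_Uc (i : Fin k) : St M i ≤ normalizer (Uc M i : Set G) :=
  le_normalizer_of_conj fun _ ht _ hx => ⟨St_conj_Nc M ht hx.1, conj_mem_cv ht.1 hx.2⟩

/-- every vector is the `i`-th coordinate of an element of `Nc M i` -/
theorem Nc_surj [CharP F 2] (i : Fin k) (x : Fin 2 → F) : ∃ v ∈ Nc M i, M.e v i = x := by
  obtain ⟨y, hy⟩ := exists_ap_three_sub 0 x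
  obtain ⟨g, hg, hA⟩ := M.lift (one1 i (Cfsg.Agent.Omega.HOne.three F))
  obtain ⟨v, hv, e1, -⟩ := exists_single M i y
  refine ⟨g * v * g⁻¹ * v⁻¹, comm_mem_Nc M ⟨hg, _, hA⟩ hv, ?_⟩
  rw [e_div M (conj_mem_zl hg hv) hv, Pi.sub_apply, hA.1 v hv i, one1_same, e1]
  simpa using hy

/-- `V = N₁ D₁` -/
theorem exists_Nc_D1 [CharP F 2] (i : Fin k) {v : G} (hv : v ∈ zl S P) : ∃ n ∈ Nc M i, ∃ d ∈ D1 M i, v = n * d := by
  obtain ⟨n, hn, e⟩ := Nc_surj M i (M.e v i)
  refine ⟨n, hn, n⁻¹ * v, ⟨mul_mem (inv_mem (Nc_le M i hn)) hv, ?_⟩, by group⟩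
  rw [M.mul _ (inv_mem (Nc_le M i hn)) v hv, e_inv M (Nc_le M i hn), Pi.add_apply, Pi.neg_apply, e, neg_add_cancel]

end st


/-! ### A Sylow argument -/

section syl

variable {G : Type u} [Group G] [Finite G]

theorem relIndex_sup_norm {X E : Subgroup G} (h : X ≤ normalizer (E : Set G)) : X.relIndex (E ⊔ X) = X.relIndex E := by
  have hKH : E ≤ E ⊔ X := le_sup_left
  have hn : (E.subgroupOf (E ⊔ X)).Normal := (normal_subgroupOf_iff_le_normalizer hKH).2 (sup_le le_normalizer h)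
  have h1 : E.relIndex (E ⊔ X) = E.relIndex X := by
    have h := Subgroup.relIndex_sup_left (K := E.subgroupOf (E ⊔ X)) (H := X.subgroupOf (E ⊔ X))
    rw [← Subgroup.subgroupOf_sup hKH le_sup_right, Subgroup.relIndex_subgroupOf le_rfl,
      Subgroup.relIndex_subgroupOf le_sup_right] at h
    exact h
  have h2 := Subgroup.relIndex_mul_relIndex (E ⊓ X) E (E ⊔ X) inf_le_left le_sup_left
  have h3 := Subgroup.relIndex_mul_relIndex (E ⊓ X) X (E ⊔ X) inf_le_right le_sup_right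
  have h4 : (E ⊓ X).relIndex X = E.relIndex X := Subgroup.inf_relIndex_right E X
  have h4' : (E ⊓ X).relIndex E = X.relIndex E := Subgroup.inf_relIndex_left E X
  rw [h1, h4'] at h2
  rw [h4, ← h2, mul_comm] at h3
  exact Nat.eq_of_mul_eq_mul_right (Nat.pos_of_ne_zero (Subgroup.index_ne_zero_of_finite
      (H := E.subgroupOf X))) h3

/-- two Sylow 2-subgroups `T` and `T'` of `N` are conjugate -/
theorem exists_conj_sylow {T T' N : Subgroup G} (hT : T ≤ N) (hT' : T' ≤ N) (h2 : IsPGroup 2 T) (h2' : IsPGroup 2 T')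
    (ho : ¬ 2 ∣ T.relIndex N) (ho' : ¬ 2 ∣ T'.relIndex N) : ∃ k ∈ N, ∀ x, x ∈ T ↔ k⁻¹ * x * k ∈ T' := by
  have : Fact (Nat.Prime 2) := ⟨Nat.prime_two⟩
  have a1 : IsPGroup 2 (T.subgroupOf N) := h2.comap_of_injective N.subtype N.subtype_injective
  have a2 : IsPGroup 2 (T'.subgroupOf N) := h2'.comap_of_injective N.subtype N.subtype_injective
  obtain ⟨n, hn⟩ := MulAction.exists_smul_eq N (a2.toSylow ho') (a1.toSylow ho)
  have h3 : ∀ x : N, x ∈ T.subgroupOf N ↔ n⁻¹ * x * n ∈ T'.subgroupOf N := by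
    intro x
    have e1 : x ∈ (a1.toSylow ho : Sylow 2 N) ↔ x ∈ T.subgroupOf N := Iff.rfl
    have e2 : n⁻¹ * x * n ∈ (a2.toSylow ho' : Sylow 2 N) ↔ n⁻¹ * x * n ∈ T'.subgroupOf N := Iff.rfl
    rw [← e1, ← e2, ← hn]
    constructor
    · intro hx
      have h4 := Subgroup.mem_pointwise_smul_iff_inv_smul_mem.1 hx
      rw [← map_inv, MulAut.smul_def, MulAut.conj_apply, inv_inv] at h4
      exact h4
    · intro hx
      refine Subgroup.mem_pointwise_smul_iff_inv_smul_mem.2 ?_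
      rw [← map_inv, MulAut.smul_def, MulAut.conj_apply, inv_inv]
      exact hx
  refine ⟨n, n.2, fun x => ⟨fun hx => ?_, fun hx => ?_⟩⟩
  · exact mem_subgroupOf.1 ((h3 ⟨x, hT hx⟩).1 (mem_subgroupOf.2 hx))
  · have hxN : x ∈ N := by
      have h4 := mul_mem (mul_mem n.2 (hT' hx)) (inv_mem n.2)
      have e : (n : G) * ((n : G)⁻¹ * x * n) * (n : G)⁻¹ = x := by group
      rwa [e] at h4
    exact mem_subgroupOf.1 ((h3 ⟨x, hxN⟩).2 (mem_subgroupOf.2 hx))

end syl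

section par

variable {G : Type u} [Group G] [Finite G] (hG : IsCharacteristicTwoType G) (S : Sylow 2 G) {P : Subgroup G}
  (h : IsParS (S : Subgroup G) P) {F : Type} [Field F] [CharP F 2] {k : ℕ}
  (M : NatK F (S : Subgroup G) P (zl (S : Subgroup G) P) (cv (S : Subgroup G) P) k)
  (hω : ∃ ω : F, ω ≠ 0 ∧ ω ≠ 1)

include hG h in
theorem V_comm {v w : G} (hv : v ∈ zl (S : Subgroup G) P) (hw : w ∈ zl (S : Subgroup G) P) : v * w = w * v :=
  MinSimple.VModule.zc_comm _ _ (h.isLoc.zl_le S hG hv) _ (h.isLoc.zl_le S hG hw)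

include hG h M in
/-- an element acting as `1` centralises `V` -/
theorem comm_of_acts_one (hk : 0 < k) {x : G} (hx : x ∈ P)
    (hA : ActsSL M.e (zl (S : Subgroup G) P) (cv (S : Subgroup G) P) x (fun _ => 1)) :
    ∀ v ∈ zl (S : Subgroup G) P, x * v = v * x := by
  refine comm_of_kern hG S h M hk ⟨hx, fun v hv => ?_⟩ hA.2
  funext j
  rw [hA.1 v hv j, ap_one]

include hG h M in
/-- two elements which act as the same element of `SL₂(F)^k` -/
theorem comm_of_acts_eq (hk : 0 < k) {x y : G} (hx : x ∈ P) (hy : y ∈ P)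
    {A : Fin k → Matrix.SpecialLinearGroup (Fin 2) F}
    (hA : ActsSL M.e (zl (S : Subgroup G) P) (cv (S : Subgroup G) P) x A)
    (hA' : ActsSL M.e (zl (S : Subgroup G) P) (cv (S : Subgroup G) P) y A) :
    ∀ v ∈ zl (S : Subgroup G) P, x⁻¹ * y * v = v * (x⁻¹ * y) := by
  refine comm_of_acts_one hG S h M hk (mul_mem (inv_mem hx) hy) ?_
  have h1 := acts_mul M (inv_mem hx) hy (acts_inv M hx hA) hA'
  have e : (fun j => (A j)⁻¹ * A j) = fun _ => (1 : Matrix.SpecialLinearGroup (Fin 2) F) := by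
    funext j; rw [inv_mul_cancel]
  rwa [e] at h1

omit [Finite G] [CharP F 2] in
theorem acts_one1_mul {i : Fin k} {x y : G} (hx : x ∈ P) (hy : y ∈ P) {A B : Matrix.SpecialLinearGroup (Fin 2) F}
    (hA : ActsSL M.e (zl (S : Subgroup G) P) (cv (S : Subgroup G) P) x (one1 i A))
    (hB : ActsSL M.e (zl (S : Subgroup G) P) (cv (S : Subgroup G) P) y (one1 i B)) :
    ActsSL M.e (zl (S : Subgroup G) P) (cv (S : Subgroup G) P) (x * y) (one1 i (A * B)) := by
  have h := acts_mul M hx hy hA hB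
  rwa [show (fun j => one1 i A j * one1 i B j) = one1 i (A * B) from funext (one1_mul i A B)] at h

omit [Finite G] [CharP F 2] in
theorem acts_one1_inv {i : Fin k} {x : G} (hx : x ∈ P) {A : Matrix.SpecialLinearGroup (Fin 2) F}
    (hA : ActsSL M.e (zl (S : Subgroup G) P) (cv (S : Subgroup G) P) x (one1 i A)) :
    ActsSL M.e (zl (S : Subgroup G) P) (cv (S : Subgroup G) P) x⁻¹ (one1 i A⁻¹) := by
  have h := acts_inv M hx hA
  have e : (fun j => (one1 i A j)⁻¹) = one1 i A⁻¹ := by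
    funext j
    by_cases h : j = i
    · subst h; rw [one1_same, one1_same]
    · rw [one1_ne h, one1_ne h, inv_one]
  rwa [e] at h

omit [Finite G] in
include hω in
/-- every element of `SL₂(F)` is in a subgroup which contains the commutators -/
theorem mem_of_comm (K : Subgroup (Matrix.SpecialLinearGroup (Fin 2) F))
    (hK : ∀ A B : Matrix.SpecialLinearGroup (Fin 2) F, A * B * A⁻¹ * B⁻¹ ∈ K) (A) : A ∈ K := by
  obtain ⟨ω, h0, h1⟩ := hω
  have h2 : ω ^ 2 - 1 ≠ 0 := by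
    intro h
    have e : (ω - 1) ^ 2 = 0 := by
      have two : (2 : F) = 0 := CharTwo.two_eq_zero
      linear_combination h + (1 - ω) * two
    exact h1 (sub_eq_zero.1 ((pow_eq_zero_iff two_ne_zero).1 e))
  have hup : ∀ b, up b ∈ K := by
    intro b
    have h3 := hK (dg ω h0) (up (b / (ω ^ 2 - 1)))
    have e : dg ω h0 * up (b / (ω ^ 2 - 1)) * (dg ω h0)⁻¹ * (up (b / (ω ^ 2 - 1)))⁻¹ = up b := by
      rw [dg_up, mul_inv_cancel_right, up_inv, up_mul]
      congr 1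
      field_simp
      ring
    rwa [e] at h3
  have hlo : ∀ b, lo b ∈ K := by
    intro b
    have h3 := hK (dg ω h0)⁻¹ (lo (b / (ω ^ 2 - 1)))
    have e1 : (dg ω h0)⁻¹ * lo (b / (ω ^ 2 - 1)) = lo (ω ^ 2 * (b / (ω ^ 2 - 1))) * (dg ω h0)⁻¹ := by
      rw [inv_mul_eq_iff_eq_mul, ← mul_assoc, eq_mul_inv_iff_mul_eq]
      refine ext_ent ?_ ?_ ?_ ?_ <;> simp [ent_mul]
      field_simp
    have e : (dg ω h0)⁻¹ * lo (b / (ω ^ 2 - 1)) * (dg ω h0)⁻¹⁻¹ * (lo (b / (ω ^ 2 - 1)))⁻¹ = lo b := by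
      rw [e1, mul_inv_cancel_right, lo_inv, lo_mul]
      congr 1
      field_simp
      ring
    rwa [e] at h3
  obtain ⟨a, b, c, d, rfl⟩ := exists_up_lo A
  exact mul_mem (mul_mem (mul_mem (hup _) (hlo _)) (hup _)) (hlo _)

omit [CharP F 2] in
/-- `[Fc, D₁] ≤ D` -/
theorem comm_D1_mem {i : Fin k} {x d : G} (hx : x ∈ Fc M i) (hd : d ∈ D1 M i) :
    x * d * x⁻¹ * d⁻¹ ∈ cv (S : Subgroup G) P := by
  obtain ⟨hxP, B, hB⟩ := hx
  rw [← eq_iff M (conj_mem_zl hxP hd.1) hd.1]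
  funext j
  rw [hB.1 d hd.1 j]
  by_cases hj : j = i
  · subst hj
    rw [hd.2]
    apply ext2
    · rw [ap_zero']; simp
    · rw [ap_one']; simp
  · rw [one1_ne hj, ap_one]

include hG h hω in
/-- **`Fc` centralises `D₁`** -/
theorem comm_D1 {i : Fin k} {x d : G} (hx : x ∈ Fc M i) (hd : d ∈ D1 M i) : x * d = d * x := by
  have hk : 0 < k := i.pos
  have hdV := hd.1
  let K : Subgroup (Matrix.SpecialLinearGroup (Fin 2) F) :=
    { carrier := {A | ∀ x ∈ P, ActsSL M.e (zl (S : Subgroup G) P) (cv (S : Subgroup G) P) x (one1 i A) → x * d = d * x}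
      one_mem' := fun x hx hA => by
        rw [one1_one] at hA
        exact comm_of_acts_one hG S h M hk hx hA d hdV
      mul_mem' := by
        intro A B hA hB x hx hAB
        obtain ⟨y, hy, hyB⟩ := M.lift (one1 i B)
        have h1 := acts_one1_mul S M hx (inv_mem hy) hAB (acts_one1_inv S M hy hyB)
        rw [mul_inv_cancel_right] at h1
        have h2 := hA _ (mul_mem hx (inv_mem hy)) h1
        have h3 := hB y hy hyB
        calc x * d = (x * y⁻¹) * (y * d) := by group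
          _ = (x * y⁻¹) * (d * y) := by rw [h3]
          _ = (x * y⁻¹ * d) * y := by group
          _ = (d * (x * y⁻¹)) * y := by rw [h2]
          _ = d * x := by group
      inv_mem' := by
        intro A hA x hx hA'
        have h1 := acts_one1_inv S M hx hA'
        rw [inv_inv] at h1
        have h2 := hA _ (inv_mem hx) h1
        calc x * d = x * (d * x⁻¹) * x := by group
          _ = x * (x⁻¹ * d) * x := by rw [h2]
          _ = d * x := by group }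
  obtain ⟨hxP, B, hB⟩ := hx
  refine mem_of_comm hω K ?_ B x hxP hB
  clear hB hxP x B
  intro A B x hx hAB
  obtain ⟨a, ha, haA⟩ := M.lift (one1 i A)
  obtain ⟨b, hb, hbB⟩ := M.lift (one1 i B)
  have hc := acts_one1_mul S M (mul_mem (mul_mem ha hb) (inv_mem ha)) (inv_mem hb)
    (acts_one1_mul S M (mul_mem ha hb) (inv_mem ha) (acts_one1_mul S M ha hb haA hbB) (acts_one1_inv S M ha haA))
    (acts_one1_inv S M hb hbB)
  have hcP : a * b * a⁻¹ * b⁻¹ ∈ P := mul_mem (mul_mem (mul_mem ha hb) (inv_mem ha)) (inv_mem hb)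
  have h1 := comm_of_acts_eq hG S h M hk hcP hx hc hAB d hdV
  -- `[a, b]` commutes with `d`
  have hinv : ∀ y ∈ P, ∀ C, ActsSL M.e (zl (S : Subgroup G) P) (cv (S : Subgroup G) P) y (one1 i C) →
      ∃ δ ∈ cv (S : Subgroup G) P, y * d * y⁻¹ = δ * d := by
    intro y hy C hC
    exact ⟨_, comm_D1_mem S M ⟨hy, C, hC⟩ hd, by group⟩
  obtain ⟨α, hα, eα⟩ := hinv a ha A haA
  obtain ⟨β, hβ, eβ⟩ := hinv b hb B hbB
  have aβ := haA.2 β hβ
  have bα := hbB.2 α hα
  have hαβ : α * β = β * α := V_comm hG S h (cv_le _ _ hα) (cv_le _ _ hβ)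
  have e1 : a * b * d * (a * b)⁻¹ = α * β * d := by
    calc a * b * d * (a * b)⁻¹ = a * (b * d * b⁻¹) * a⁻¹ := by group
      _ = (a * β) * d * a⁻¹ := by rw [eβ]; group
      _ = β * (a * d * a⁻¹) := by rw [aβ]; group
      _ = β * α * d := by rw [eα]; group
      _ = _ := by rw [hαβ]
  have e2 : b * a * d * (b * a)⁻¹ = α * β * d := by
    calc b * a * d * (b * a)⁻¹ = b * (a * d * a⁻¹) * b⁻¹ := by group
      _ = (b * α) * d * b⁻¹ := by rw [eα]; group
      _ = α * (b * d * b⁻¹) := by rw [bα]; group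
      _ = _ := by rw [eβ]; group
  have e3 : a * b * a⁻¹ * b⁻¹ * (α * β * d) = α * β * d * (a * b * a⁻¹ * b⁻¹) := by
    calc a * b * a⁻¹ * b⁻¹ * (α * β * d) = a * b * a⁻¹ * b⁻¹ * (b * a * d * (b * a)⁻¹) := by rw [e2]
      _ = (a * b * d * (a * b)⁻¹) * (a * b * a⁻¹ * b⁻¹) := by group
      _ = _ := by rw [e1]
  -- `[a, b]` commutes with `α β ∈ D`
  have e4 := hc.2 (α * β) (mul_mem hα hβ)
  have e5 : a * b * a⁻¹ * b⁻¹ * d = d * (a * b * a⁻¹ * b⁻¹) := by
    obtain ⟨c, hc'⟩ : ∃ c, c = a * b * a⁻¹ * b⁻¹ := ⟨_, rfl⟩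
    rw [← hc'] at e3 e4 ⊢
    have : α * β * (c * d) = α * β * (d * c) := by
      calc α * β * (c * d) = (α * β * c) * d := by group
        _ = (c * (α * β)) * d := by rw [e4]
        _ = c * (α * β * d) := by group
        _ = α * β * d * c := e3
        _ = _ := by group
    exact mul_left_cancel this
  calc x * d = a * b * a⁻¹ * b⁻¹ * ((a * b * a⁻¹ * b⁻¹)⁻¹ * x * d) := by group
    _ = a * b * a⁻¹ * b⁻¹ * (d * ((a * b * a⁻¹ * b⁻¹)⁻¹ * x)) := by rw [h1]
    _ = (a * b * a⁻¹ * b⁻¹ * d) * ((a * b * a⁻¹ * b⁻¹)⁻¹ * x) := by group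
    _ = (d * (a * b * a⁻¹ * b⁻¹)) * ((a * b * a⁻¹ * b⁻¹)⁻¹ * x) := by rw [e5]
    _ = d * x := by group

omit [Finite G] in
theorem ap_ext {A B : Matrix.SpecialLinearGroup (Fin 2) F} (h : ∀ x, ap A x = ap B x) : A = B := by
  have h1 : B⁻¹ * A = 1 := ap_eq_one fun x => by rw [ap_mul, h x, ap_inv_ap]
  exact (inv_mul_eq_one.1 h1).symm

include hG h hω in
/-- **Lemma R**: an element of `P` which is trivial on `V / D₁` centralises `N₁` -/
theorem comm_Nc_of {i : Fin k} {x : G} (hx : x ∈ P)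
    (hc : ∀ v ∈ zl (S : Subgroup G) P, M.e (x * v * x⁻¹) i = M.e v i) : ∀ n ∈ Nc M i, x * n = n * x := by
  have hk : 0 < k := i.pos
  have hxS : x ∈ St M i := ⟨hx, fun v hv => by rw [hc v hv]⟩
  intro n hn
  unfold Nc at hn
  induction hn using closure_induction with
  | mem n hn =>
    obtain ⟨e, he, v, hv, rfl⟩ := hn
    obtain ⟨heP, B, hB⟩ := id he
    obtain ⟨-, C, hC⟩ := St_conj_Fc M hxS he
    have hCB : C = B := by
      apply ap_ext
      intro y
      obtain ⟨u, hu, e1, -⟩ := exists_single M i y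
      have hw : x⁻¹ * u * x ∈ zl (S : Subgroup G) P := by
        have := conj_mem_zl (inv_mem hx) hu
        rwa [inv_inv] at this
      have h1 := hC.1 u hu i
      have e2 : x * e * x⁻¹ * u * (x * e * x⁻¹)⁻¹ = x * (e * (x⁻¹ * u * x) * e⁻¹) * x⁻¹ := by group
      have h2 := hc _ hw
      have e3 : x * (x⁻¹ * u * x) * x⁻¹ = u := by group
      rw [e3] at h2
      rw [e2, hc _ (conj_mem_zl heP hw), hB.1 _ hw i, one1_same, one1_same, ← h2, e1] at h1
      exact h1.symm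
    rw [hCB] at hC
    have h1 := comm_of_acts_eq hG S h M hk heP (mul_mem (mul_mem hx heP) (inv_mem hx)) hB hC
    -- `[x, v] ∈ D₁`
    have hxv := conj_mem_zl hx hv
    have hdm : x * v * x⁻¹ * v⁻¹ ∈ D1 M i :=
      ⟨mul_mem hxv (inv_mem hv), by rw [e_div M hxv hv, Pi.sub_apply, hc v hv, sub_self]⟩
    have h2 := comm_D1 hG S h M hω he hdm
    obtain ⟨d, hd⟩ : ∃ d, d = x * v * x⁻¹ * v⁻¹ := ⟨_, rfl⟩
    obtain ⟨c, hcd⟩ : ∃ c, c = e⁻¹ * (x * e * x⁻¹) := ⟨_, rfl⟩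
    rw [← hd] at h2 hdm
    have e1 : x * v * x⁻¹ = d * v := by rw [hd]; group
    have e2 : x * e * x⁻¹ = e * c := by rw [hcd]; group
    have h3 : c * (d * v) = (d * v) * c := by rw [hcd, ← e1]; exact h1 _ hxv
    have hev := conj_mem_zl heP hv
    have h4 : d * (e * v * e⁻¹ * v⁻¹) = e * v * e⁻¹ * v⁻¹ * d :=
      V_comm hG S h hdm.1 (mul_mem hev (inv_mem hv))
    have e3 : x * (e * v * e⁻¹ * v⁻¹) * x⁻¹ = e * v * e⁻¹ * v⁻¹ := by
      calc x * (e * v * e⁻¹ * v⁻¹) * x⁻¹ = (x * e * x⁻¹) * (x * v * x⁻¹) * (x * e * x⁻¹)⁻¹ * (x * v * x⁻¹)⁻¹ := by group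
        _ = e * (c * (d * v)) * c⁻¹ * e⁻¹ * (d * v)⁻¹ := by rw [e1, e2]; group
        _ = (e * d) * v * e⁻¹ * v⁻¹ * d⁻¹ := by rw [h3]; group
        _ = d * (e * v * e⁻¹ * v⁻¹) * d⁻¹ := by rw [h2]; group
        _ = _ := by rw [h4]; group
    exact mul_inv_eq_iff_eq_mul.1 e3
  | one => rw [mul_one, one_mul]
  | mul v w _ _ h1 h2 => rw [← mul_assoc, h1, mul_assoc, h2, mul_assoc]
  | inv v _ h1 =>
    calc x * v⁻¹ = v⁻¹ * (v * x) * v⁻¹ := by group
      _ = v⁻¹ * (x * v) * v⁻¹ := by rw [h1]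
      _ = v⁻¹ * x := by group

include hG h hω in
/-- rigidity of `N₁` -/
theorem comm_Nc {i : Fin k} {x : G} (hx : x ∈ St M i)
    (hc : ∀ v ∈ Nc M i, M.e (x * v * x⁻¹) i = M.e v i) : ∀ n ∈ Nc M i, x * n = n * x := by
  refine comm_Nc_of hG S h M hω hx.1 fun v hv => ?_
  obtain ⟨n, hn, d, hd, rfl⟩ := exists_Nc_D1 M i hv
  have hnV := Nc_le M i hn
  have e1 : x * (n * d) * x⁻¹ = x * n * x⁻¹ * (x * d * x⁻¹) := by group
  rw [e1, M.mul _ (conj_mem_zl hx.1 hnV) _ (conj_mem_zl hx.1 hd.1), M.mul _ hnV _ hd.1, Pi.add_apply, Pi.add_apply,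
    hc n hn, (St_conj_D1 M hx hd).2, hd.2]

/-! ### `Qc`, `Ec`, `Lc` -/

omit [Finite G] [CharP F 2] in
theorem Tc_norm_Qc (i : Fin k) : ∀ t ∈ Tc M i, ∀ q ∈ Qc M i, t * q * t⁻¹ ∈ Qc M i := by
  intro t ht q hq
  refine mem_inf.2 ⟨mul_mem (mul_mem ht hq.1) (inv_mem ht), mem_centralizer_iff.2 fun n hn => ?_⟩
  have h1 := St_conj_Nc M (inv_mem (Tc_le_St M i ht)) hn
  rw [inv_inv] at h1
  have h2 := mem_centralizer_iff.1 hq.2 _ h1
  calc n * (t * q * t⁻¹) = t * (t⁻¹ * n * t * q) * t⁻¹ := by group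
    _ = t * (q * (t⁻¹ * n * t)) * t⁻¹ := by rw [h2]
    _ = t * q * t⁻¹ * n := by group

omit [Finite G] [CharP F 2] in
theorem Tc_le_norm_Qc (i : Fin k) : Tc M i ≤ normalizer (Qc M i : Set G) :=
  le_normalizer_of_conj (Tc_norm_Qc S M i)

omit [Finite G] [CharP F 2] in
theorem Ec_le (i : Fin k) : Ec M i ≤ Fc M i := inf_le_left

omit [Finite G] [CharP F 2] in
theorem Lc_le_St (i : Fin k) : Lc M i ≤ St M i := sup_le (Tc_le_St M i) ((Ec_le S M i).trans (Fc_le_St M i))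

omit [Finite G] [CharP F 2] in
theorem Lc_le_norm_Qc (i : Fin k) : Lc M i ≤ normalizer (Qc M i : Set G) := sup_le (Tc_le_norm_Qc S M i) inf_le_right

omit [Finite G] [CharP F 2] in
theorem Tc_norm_Ec (i : Fin k) : Tc M i ≤ normalizer (Ec M i : Set G) :=
  le_normalizer_of_conj fun _ ht _ hx => mem_inf.2 ⟨St_conj_Fc M (Tc_le_St M i ht) hx.1,
    mul_mem (mul_mem (Tc_le_norm_Qc S M i ht) hx.2) (inv_mem (Tc_le_norm_Qc S M i ht))⟩

include hG h in
theorem V_le_S : zl (S : Subgroup G) P ≤ (S : Subgroup G) :=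
  ((h.isLoc.zl_le S hG).trans (MinSimple.VModule.zc_le _)).trans (h.isLoc.o2_le S)

include hG h hω in
/-- an element of `Fc` which centralises `N₁` centralises `V` -/
theorem comm_V_of_Fc {i : Fin k} {x : G} (hx : x ∈ Fc M i) (hc : ∀ n ∈ Nc M i, x * n = n * x) :
    ∀ v ∈ zl (S : Subgroup G) P, x * v = v * x := by
  intro v hv
  obtain ⟨n, hn, d, hd, rfl⟩ := exists_Nc_D1 M i hv
  rw [← mul_assoc, hc n hn, mul_assoc, comm_D1 hG S h M hω hx hd, mul_assoc]

include hG h hω in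
/-- **Frattini**: `Ec` covers `Fc` modulo `C(V)` -/
theorem exists_Ec {i : Fin k} {x : G} (hx : x ∈ Fc M i) :
    ∃ y ∈ Ec M i, ∀ v ∈ zl (S : Subgroup G) P, y * v * y⁻¹ = x * v * x⁻¹ := by
  set C : Subgroup G := P ⊓ centralizer (zl (S : Subgroup G) P : Set G) with hC
  have hCP : C ≤ P := inf_le_left
  have hPC : P ≤ normalizer (C : Set G) := by
    refine le_normalizer_of_conj fun t ht c hc => mem_inf.2 ⟨mul_mem (mul_mem ht hc.1) (inv_mem ht), ?_⟩
    rw [mem_centralizer_iff]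
    intro v hv
    have h1 := conj_mem_zl (inv_mem ht) hv
    rw [inv_inv] at h1
    have h2 := mem_centralizer_iff.1 hc.2 _ h1
    calc v * (t * c * t⁻¹) = t * (t⁻¹ * v * t * c) * t⁻¹ := by group
      _ = t * (c * (t⁻¹ * v * t)) * t⁻¹ := by rw [h2]
      _ = t * c * t⁻¹ * v := by group
  have hCF : C ≤ Fc M i := by
    intro c hc
    refine ⟨hc.1, 1, ?_⟩
    rw [one1_one]
    have h1 := fun v (hv : v ∈ zl (S : Subgroup G) P) => (mem_centralizer_iff.1 hc.2 v hv).symm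
    refine ⟨fun v hv j => ?_, fun d hd => h1 d (cv_le _ _ hd)⟩
    rw [h1 v hv, mul_inv_cancel_right, ap_one]
  have hQP : Qc M i ≤ P := fun q hq => (St_le M i) (Tc_le_St M i hq.1)
  have hxP := Fc_le M i hx
  -- the group `X = C Q₁`
  set X : Subgroup G := C ⊔ Qc M i with hX
  have hQX : Qc M i ≤ X := le_sup_right
  have hQ2 : IsPGroup 2 (Qc M i) := S.isPGroup'.to_le (inf_le_left.trans (Tc_le M i))
  have hCS : ¬ 2 ∣ (S : Subgroup G).relIndex C := by
    have h1 : (C.subgroupOf P).Normal := normal_subgroupOf_iff_le_normalizer hCP |>.2 hPC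
    have h2 : Fact (Nat.Prime 2) := ⟨Nat.prime_two⟩
    have h3 := Lib.SylowNormalInf.not_dvd_relIndex (S.subtype h.le) (C.subgroupOf P)
    have h4 : ((S.subtype h.le : Sylow 2 P) : Subgroup P) = (S : Subgroup G).subgroupOf P := rfl
    rw [h4, relIndex_subgroupOf hCP] at h3
    exact h3
  have hSC : (S : Subgroup G) ⊓ C ≤ Qc M i := by
    rintro s ⟨hs, hc⟩
    have h1 := fun v (hv : v ∈ zl (S : Subgroup G) P) => (mem_centralizer_iff.1 hc.2 v hv).symm
    refine mem_inf.2 ⟨⟨⟨hs, hc.1⟩, fun v hv => ?_⟩, mem_centralizer_iff.2 fun n hn => (h1 n (Nc_le M i hn)).symm⟩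
    rw [h1 v hv, mul_inv_cancel_right]
  have ho : ¬ 2 ∣ (Qc M i).relIndex X := by
    rw [hX, relIndex_sup_norm (hQP.trans hPC)]
    intro h0
    apply hCS
    rw [← inf_relIndex_right] at h0 ⊢
    have h1 : (S : Subgroup G) ⊓ C ≤ Qc M i ⊓ C := le_inf hSC inf_le_right
    exact h0.trans (relIndex_dvd_of_le_left _ h1)
  -- the conjugate
  set Q' : Subgroup G := (Qc M i).map (MulAut.conj x).toMonoidHom with hQ'
  have hQ'X : Q' ≤ X := by
    rintro _ ⟨q, hq, rfl⟩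
    change x * q * x⁻¹ ∈ X
    have hqS := Tc_le_St M i hq.1
    have h1 : x * q * x⁻¹ * q⁻¹ ∈ Fc M i := by
      have h2 := St_conj_Fc M hqS (inv_mem hx)
      have e : x * q * x⁻¹ * q⁻¹ = x * (q * x⁻¹ * q⁻¹) := by group
      rw [e]
      exact mul_mem hx h2
    have h2 : ∀ n ∈ Nc M i, x * q * x⁻¹ * q⁻¹ * n = n * (x * q * x⁻¹ * q⁻¹) := by
      intro n hn
      have h3 := St_conj_Nc M (inv_mem (Fc_le_St M i hx)) hn
      rw [inv_inv] at h3
      have h4 := mem_centralizer_iff.1 hq.2 _ h3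
      have h5 := mem_centralizer_iff.1 hq.2 _ hn
      have h6 : x * q * x⁻¹ * n = n * (x * q * x⁻¹) := by
        calc x * q * x⁻¹ * n = x * (q * (x⁻¹ * n * x)) * x⁻¹ := by group
          _ = x * (x⁻¹ * n * x * q) * x⁻¹ := by rw [h4]
          _ = n * (x * q * x⁻¹) := by group
      calc x * q * x⁻¹ * q⁻¹ * n = x * q * x⁻¹ * (q⁻¹ * (n * q) * q⁻¹) := by group
        _ = x * q * x⁻¹ * (q⁻¹ * (q * n) * q⁻¹) := by rw [h5]
        _ = x * q * x⁻¹ * n * q⁻¹ := by group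
        _ = n * (x * q * x⁻¹ * q⁻¹) := by rw [h6]; group
    have h3 := comm_V_of_Fc hG S h M hω h1 h2
    have h4 : x * q * x⁻¹ * q⁻¹ ∈ C :=
      mem_inf.2 ⟨Fc_le M i h1, mem_centralizer_iff.2 fun v hv => (h3 v hv).symm⟩
    have e : x * q * x⁻¹ = x * q * x⁻¹ * q⁻¹ * q := by group
    rw [e]
    exact mul_mem ((le_sup_left : C ≤ X) h4) (hQX hq)
  have hcard : Nat.card Q' = Nat.card (Qc M i) :=
    Nat.card_congr ((Qc M i).equivMapOfInjective _ (MulAut.conj x).injective).symm.toEquiv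
  have ho' : ¬ 2 ∣ Q'.relIndex X := by
    have h1 := Lib.SylowNormalInf.card_mul_relIndex Q' X hQ'X
    have h2 := Lib.SylowNormalInf.card_mul_relIndex (Qc M i) X hQX
    rw [hcard, ← h2] at h1
    rw [Nat.eq_of_mul_eq_mul_left Nat.card_pos h1]
    exact ho
  have hQ'2 : IsPGroup 2 Q' := hQ2.map _
  obtain ⟨y, hy, hyQ⟩ := exists_conj_sylow hQX hQ'X hQ2 hQ'2 ho ho'
  -- `y = q c`
  have hy' : y ∈ ((X : Subgroup G) : Set G) := hy
  rw [hX, sup_comm, coe_mul_of_left_le_normalizer_right _ _ (hQP.trans hPC)] at hy'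
  obtain ⟨q, hq, c, hc, rfl⟩ := hy'
  have hcP := hCP hc
  refine ⟨c * x, mem_inf.2 ⟨mul_mem (hCF hc) hx, ?_⟩, fun v hv => ?_⟩
  · have h1 : (q * c * x)⁻¹ ∈ normalizer (Qc M i : Set G) := by
      rw [mem_normalizer_iff]
      intro g
      rw [hyQ g, hQ', mem_map_equiv]
      have e : (MulAut.conj x).symm ((q * c)⁻¹ * g * (q * c)) = (q * c * x)⁻¹ * g * (q * c * x)⁻¹⁻¹ := by
        rw [MulAut.conj_symm_apply]; group
      rw [e]
    have h2 := mul_mem (inv_mem (le_normalizer hq)) (inv_mem h1)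
    have e : q⁻¹ * (q * c * x)⁻¹⁻¹ = c * x := by group
    rwa [e] at h2
  · have h1 := mem_centralizer_iff.1 hc.2 _ (conj_mem_zl hxP hv)
    have e : c * x * v * (c * x)⁻¹ = c * (x * v * x⁻¹) * c⁻¹ := by group
    rw [e, ← h1]
    group

end par

/-! ### `SideS` from a `NatOver` -/

open Cfsg.Agent.Omega.HOne.NSMod Cfsg.Agent.Omega.HOne.NSSide Cfsg.Agent.Omega.HOne.NSPair

section gen

variable {G : Type u} [Group G] {F : Type} [Field F] [Finite F] [CharP F 2] {T L A U B : Subgroup G}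

/-- a 2-element acting semilinearly on `A / U` and trivially on the line `{(0, c)}` acts as `lo b` -/
theorem lin_of (N : NatOver F L A U) (r : Rig L A U N.e) (h2 : IsPGroup 2 T) (TL : T ≤ L) {s : G} (hs : s ∈ T)
    (h1 : ∀ v ∈ A, N.e v 0 = 0 → N.e (s * v * s⁻¹) = N.e v) :
    ∃ b, ∀ v ∈ A, N.e (s * v * s⁻¹) = ap (lo b) (N.e v) := by
  set N' := Cfsg.Agent.Omega.HOne.toSec N r.DV (fun _ hh _ hv => r.Vn _ hh _ hv) (fun _ hh _ hv => r.Dn _ hh _ hv) with hN
  have hsP : s ∈ L := TL hs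
  obtain ⟨σ, hσ⟩ := N'.exists_semi hsP
  have hfix : ∀ c : F, N'.act s ![0, c] = ![0, c] := by
    intro c
    obtain ⟨v, hv, e⟩ := N.surj ![0, c]
    have h2 := N'.act_π hsP hv
    change N'.act s (N.e v) = N.e _ at h2
    rw [e, h1 v hv (by rw [e]; simp), e] at h2
    exact h2
  have hσ1 : ∀ c, σ c = c := by
    intro c
    have h2 := hσ c ![0, 1]
    have e1 : (c • ![0, 1] : Fin 2 → F) = ![0, c] := by apply ext2 <;> simp
    rw [e1, hfix, hfix] at h2
    have := congrFun h2 1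
    simp at this
    exact this.symm
  have hsm : ∀ (c : F) x, N'.act s (c • x) = c • N'.act s x := fun c x => by rw [hσ, hσ1]
  obtain ⟨d, b, hdb⟩ : ∃ d b, N'.act s ![1, 0] = ![d, b] := ⟨N'.act s ![1, 0] 0, N'.act s ![1, 0] 1, by
    apply ext2 <;> simp⟩
  have hform : ∀ x : Fin 2 → F, N'.act s x = ![d * x 0, b * x 0 + x 1] := by
    intro x
    have e1 : x = x 0 • ![1, 0] + ![0, x 1] := by apply ext2 <;> simp
    have h2 := N'.act_add hsP (x 0 • ![1, 0]) ![0, x 1]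
    rw [← e1, hsm, hfix, hdb] at h2
    rw [h2]
    apply ext2
    · simp [mul_comm]
    · simp [mul_comm]
  have hpow : ∀ k : ℕ, ∀ x, N'.act (s ^ k) x 0 = d ^ k * x 0 := by
    intro k
    induction k with
    | zero => intro x; rw [pow_zero, N'.act_one, pow_zero, one_mul]
    | succ k ih =>
      intro x
      rw [pow_succ', N'.act_mul hsP (pow_mem hsP k), hform]
      change d * N'.act (s ^ k) x 0 = _
      rw [ih, pow_succ']; ring
  obtain ⟨k, hk⟩ := h2 ⟨s, hs⟩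
  have hk' : s ^ 2 ^ k = 1 := by simpa using congrArg Subtype.val hk
  have hd1 : d = 1 := by
    have h2 := hpow (2 ^ k) ![1, 0]
    rw [hk', N'.act_one] at h2
    simp only [Matrix.cons_val_zero, mul_one] at h2
    have h4 : (d - 1) ^ 2 ^ k = 0 := by
      rw [sub_pow_char_pow, ← h2, one_pow, sub_self]
    exact sub_eq_zero.1 (pow_eq_zero_iff (pow_ne_zero k two_ne_zero) |>.1 h4)
  refine ⟨b, fun v hv => ?_⟩
  have h2 := N'.act_π hsP hv
  change N'.act s (N.e v) = N.e _ at h2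
  rw [← h2, hform, ap_lo, hd1, one_mul]

/-- a 2-element acting linearly and fixing the line `{(0, c)}` acts as `lo b` -/
theorem fz_of {π : G → Fin 2 → F} (r : Rig L A U π) (h2 : IsPGroup 2 T) {y : G} (hy : y ∈ T)
    {B : Matrix.SpecialLinearGroup (Fin 2) F} (hB : Is L A U π y B)
    (hl : ∀ v ∈ A, π v 0 = 0 → π (y * v * y⁻¹) 0 = 0) : ∃ b, B = lo b := by
  obtain ⟨v, hv, e⟩ := r.surj ![0, 1]
  have h3 := hl v hv (by rw [e]; simp)
  rw [hB.act v hv, e, ap_zero'] at h3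
  simp only [Matrix.cons_val_zero, Matrix.cons_val_one, mul_one, mul_zero, zero_add] at h3
  have hd := det_eq B
  rw [h3, zero_mul, sub_zero] at hd
  obtain ⟨m, hm⟩ := h2 ⟨y, hy⟩
  have hm' : y ^ 2 ^ m = 1 := by simpa using congrArg Subtype.val hm
  have hpow : ∀ n : ℕ, Is L A U π (y ^ n) (B ^ n) := by
    intro n
    induction n with
    | zero => rw [pow_zero, pow_zero]; exact r.is_one
    | succ n ih => rw [pow_succ, pow_succ]; exact r.is_mul ih hB
  have h01 : ∀ n : ℕ, ent (B ^ n) 0 1 = 0 ∧ ent (B ^ n) 0 0 = ent B 0 0 ^ n := by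
    intro n
    induction n with
    | zero => rw [pow_zero, pow_zero]; exact ⟨rfl, rfl⟩
    | succ n ih =>
      rw [pow_succ, ent_mul, ent_mul, ih.1, ih.2, h3]
      constructor
      · ring
      · ring
  have h4 := hpow (2 ^ m)
  rw [hm'] at h4
  obtain ⟨w, hw, ew⟩ := r.surj ![1, 0]
  have h5 := h4.act w hw
  rw [one_mul, inv_one, mul_one, ew] at h5
  have h6 := congrFun h5 0
  rw [ap_zero'] at h6
  simp only [Matrix.cons_val_zero, Matrix.cons_val_one, mul_one, mul_zero, add_zero] at h6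
  rw [(h01 _).2] at h6
  have h7 : ent B 0 0 = 1 := by
    have h8 : (ent B 0 0 - 1) ^ 2 ^ m = 0 := by
      rw [sub_pow_char_pow, ← h6, one_pow, sub_self]
    exact sub_eq_zero.1 (pow_eq_zero_iff (pow_ne_zero m two_ne_zero) |>.1 h8)
  rw [h7, one_mul] at hd
  refine ⟨ent B 1 0, ext_ent ?_ ?_ ?_ ?_⟩
  · rw [lo_00, h7]
  · rw [lo_01, h3]
  · rw [lo_10]
  · rw [lo_11, hd]

end gen

/-! ### `N₁ / U₁` as a natural module for `L₁` -/

section nat

variable {G : Type u} [Group G] [Finite G] (hG : IsCharacteristicTwoType G) (S : Sylow 2 G) {P : Subgroup G}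
  (h : IsParS (S : Subgroup G) P) {F : Type} [Field F] [CharP F 2] {k : ℕ}
  (M : NatK F (S : Subgroup G) P (zl (S : Subgroup G) P) (cv (S : Subgroup G) P) k)
  (hω : ∃ ω : F, ω ≠ 0 ∧ ω ≠ 1)

/-- The coordinates on `N₁` : `(x, y) ↦ (y, x)` of those of `M`, so that the root elements of `S` become `lo b`. -/
def pc (i : Fin k) (v : G) : Fin 2 → F := ap (wm 1 one_ne_zero) (M.e v i)

omit [Finite G] in
theorem pc_zero (i : Fin k) (v : G) : pc S M i v 0 = M.e v i 1 := by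
  rw [pc, Cfsg.Agent.Omega.HOne.NSMod.ap_wm]; simp

omit [Finite G] [CharP F 2] in
theorem ap_eq_zero (A : Matrix.SpecialLinearGroup (Fin 2) F) {x : Fin 2 → F} : ap A x = 0 ↔ x = 0 := by
  have h0 : ∀ B : Matrix.SpecialLinearGroup (Fin 2) F, ap B 0 = 0 := fun B => by
    apply ext2
    · rw [ap_zero']; simp
    · rw [ap_one']; simp
  constructor
  · intro h
    have h1 := ap_inv_ap A x
    rw [h, h0] at h1
    exact h1.symm
  · rintro rfl
    exact h0 A

omit [Finite G] [CharP F 2] in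
theorem pc_eq_zero {i : Fin k} {v : G} : pc S M i v = 0 ↔ M.e v i = 0 := ap_eq_zero _

omit [Finite G] [CharP F 2] in
theorem pc_eq_iff {i : Fin k} {v w : G} : pc S M i v = pc S M i w ↔ M.e v i = M.e w i := by
  constructor
  · intro h
    have h1 := congrArg (ap (wm 1 one_ne_zero)⁻¹) h
    rwa [pc, pc, ap_inv_ap, ap_inv_ap] at h1
  · intro h
    rw [pc, pc, h]

omit [Finite G] [CharP F 2] in
theorem pc_mul {i : Fin k} {v w : G} (hv : v ∈ zl (S : Subgroup G) P) (hw : w ∈ zl (S : Subgroup G) P) :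
    pc S M i (v * w) = pc S M i v + pc S M i w := by
  rw [pc, M.mul v hv w hw, Pi.add_apply, ap_add]; rfl

omit [Finite G] [CharP F 2] in
/-- the action in the coordinates `pc` -/
theorem pc_act {i : Fin k} {x v : G} {B : Matrix.SpecialLinearGroup (Fin 2) F}
    (hB : M.e (x * v * x⁻¹) i = ap B (M.e v i)) :
    pc S M i (x * v * x⁻¹) = ap (wm 1 one_ne_zero * B * (wm 1 one_ne_zero)⁻¹) (pc S M i v) := by
  rw [pc, pc, hB, ap_mul, ap_mul, ap_inv_ap]

omit [Finite G] [CharP F 2] in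
theorem mem_Uc_iff {i : Fin k} {v : G} (hv : v ∈ Nc M i) : v ∈ Uc M i ↔ M.e v i = 0 := by
  constructor
  · intro h
    rw [e_cv M h.2]; rfl
  · intro h0
    refine mem_inf.2 ⟨hv, ?_⟩
    rw [← M.ker v (Nc_le M i hv)]
    funext j
    by_cases hj : j = i
    · subst hj; exact h0
    · exact e_Nc M hv hj

/-- `N₁ / U₁` -/
noncomputable def natOver (i : Fin k) : NatOver F (Lc M i) (Nc M i) (Uc M i) where
  e := pc S M i
  mul v hv w hw := pc_mul S M (Nc_le M i hv) (Nc_le M i hw)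
  surj x := by
    obtain ⟨v, hv, e⟩ := Nc_surj M i (ap (wm 1 one_ne_zero)⁻¹ x)
    exact ⟨v, hv, by rw [pc, e, ap_ap_inv]⟩
  ker v hv := by rw [pc_eq_zero, mem_Uc_iff S M hv]
  lift A := by
    obtain ⟨g, hg, hA⟩ := M.lift (one1 i ((wm 1 one_ne_zero)⁻¹ * A * wm 1 one_ne_zero))
    obtain ⟨y, hy, hyg⟩ := exists_Ec hG S h M hω (i := i) ⟨hg, _, hA⟩
    refine ⟨y, (le_sup_right : Ec M i ≤ _) hy, fun v hv => ?_, fun d hd => ?_⟩
    · rw [hyg v (Nc_le M i hv)]
      have h1 := pc_act S M (hA.1 v (Nc_le M i hv) i)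
      rw [one1_same] at h1
      rw [h1]
      congr 1
      group
    · obtain ⟨-, B, hB⟩ := hy.1
      exact hB.2 d hd.2
  norm g hg x hx A hA := by
    obtain ⟨x₀, hx₀, hA₀⟩ := M.lift (one1 i ((wm 1 one_ne_zero)⁻¹ * A * wm 1 one_ne_zero))
    have hgS := Lc_le_St S M i hg
    have hxS := Lc_le_St S M i hx
    have hxF : x₀ ∈ Fc M i := ⟨hx₀, _, hA₀⟩
    obtain ⟨-, B, hB⟩ := St_conj_Fc M hgS hxF
    refine ⟨wm 1 one_ne_zero * B * (wm 1 one_ne_zero)⁻¹, fun v hv => ?_⟩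
    have hw : g⁻¹ * v * g ∈ Nc M i := by
      have := St_conj_Nc M (inv_mem hgS) hv
      rwa [inv_inv] at this
    have h1 := hA _ hw
    have h2 := pc_act S M (hA₀.1 _ (Nc_le M i hw) i)
    rw [one1_same] at h2
    have e0 : wm 1 one_ne_zero * ((wm 1 one_ne_zero)⁻¹ * A * wm 1 one_ne_zero) * (wm 1 one_ne_zero)⁻¹ = A := by group
    rw [e0, ← h1] at h2
    have h3 := (pc_eq_iff S M).1 h2
    have m1 := St_conj_Nc M hxS hw
    have m2 := St_conj_Nc M (Fc_le_St M i hxF) hw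
    have h4 : (x₀ * (g⁻¹ * v * g) * x₀⁻¹) * (x * (g⁻¹ * v * g) * x⁻¹)⁻¹ ∈ D1 M i :=
      ⟨mul_mem (Nc_le M i m2) (inv_mem (Nc_le M i m1)), by
        rw [e_div M (Nc_le M i m2) (Nc_le M i m1), Pi.sub_apply, h3, sub_self]⟩
    have h5 := (St_conj_D1 M hgS h4).2
    have e1 : g * ((x₀ * (g⁻¹ * v * g) * x₀⁻¹) * (x * (g⁻¹ * v * g) * x⁻¹)⁻¹) * g⁻¹ =
        (g * x₀ * g⁻¹ * v * (g * x₀ * g⁻¹)⁻¹) * (g * x * g⁻¹ * v * (g * x * g⁻¹)⁻¹)⁻¹ := by group
    have m3 : g * x₀ * g⁻¹ * v * (g * x₀ * g⁻¹)⁻¹ ∈ Nc M i := by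
      have := St_conj_Nc M hgS m2
      have e : g * (x₀ * (g⁻¹ * v * g) * x₀⁻¹) * g⁻¹ = g * x₀ * g⁻¹ * v * (g * x₀ * g⁻¹)⁻¹ := by group
      rwa [e] at this
    have m4 : g * x * g⁻¹ * v * (g * x * g⁻¹)⁻¹ ∈ Nc M i := by
      have := St_conj_Nc M hgS m1
      have e : g * (x * (g⁻¹ * v * g) * x⁻¹) * g⁻¹ = g * x * g⁻¹ * v * (g * x * g⁻¹)⁻¹ := by group
      rwa [e] at this
    rw [e1, e_div M (Nc_le M i m3) (Nc_le M i m4), Pi.sub_apply, sub_eq_zero] at h5
    rw [← (pc_eq_iff S M).2 h5]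
    have h6 := pc_act S M (hB.1 v (Nc_le M i hv) i)
    rwa [one1_same] at h6

include hG h in
theorem V_sq {v : G} (hv : v ∈ zl (S : Subgroup G) P) : v * v = 1 := sq_zl hG S h hv

/-- **`Rig`** -/
theorem rig_of (i : Fin k) : Rig (Lc M i) (Nc M i) (Uc M i) (natOver hG S h M hω i).e where
  DV := inf_le_left
  Vn p hp _ hv := St_conj_Nc M (Lc_le_St S M i hp) hv
  Dn p hp _ hv := mem_inf.2 ⟨St_conj_Nc M (Lc_le_St S M i hp) hv.1, conj_mem_cv (Lc_le_St S M i hp).1 hv.2⟩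
  Vc _ hv _ hw := V_comm hG S h (Nc_le M i hv) (Nc_le M i hw)
  Vs _ hv := V_sq hG S h (Nc_le M i hv)
  mul := (natOver hG S h M hω i).mul
  surj := (natOver hG S h M hω i).surj
  ker := (natOver hG S h M hω i).ker
  lift A := by
    obtain ⟨g, hg, h1, h2⟩ := (natOver hG S h M hω i).lift A
    exact ⟨g, hg, h1, h2⟩
  norm := (natOver hG S h M hω i).norm
  rig x hx _ hV v hv :=
    comm_Nc hG S h M hω (Lc_le_St S M i hx) (fun v hv => (pc_eq_iff S M).1 (hV v hv)) v hv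

omit [Finite G] [CharP F 2] in
/-- `Tc M i` fixes the `i`-th line -/
theorem Tc_line {i : Fin k} {t : G} (ht : t ∈ Tc M i) {v : G} (hv : v ∈ zl (S : Subgroup G) P) :
    M.e (t * v * t⁻¹) i 1 = 0 ↔ M.e v i 1 = 0 := by
  obtain ⟨σ, hσ⟩ := M.line t ht.1.1
  have hi : σ i = i := by
    by_contra hne
    obtain ⟨w, hw, e1, e2⟩ := exists_single M i ![0, 1]
    have h1 := hσ w hw i
    rw [e1, St_zero M (Tc_le_St M i ht) hw e2 _ hne] at h1
    have := h1.1 rfl
    simp at this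
  have h1 := hσ v hv i
  rwa [hi] at h1

include hω in
/-- every element of `Fc` acting as `one1 i B` acts as `w B w⁻¹` in the coordinates `pc` -/
theorem is_of_acts {i : Fin k} {x : G} (hx : x ∈ Lc M i) {B : Matrix.SpecialLinearGroup (Fin 2) F}
    (hB : ActsSL M.e (zl (S : Subgroup G) P) (cv (S : Subgroup G) P) x (one1 i B)) :
    Is (Lc M i) (Nc M i) (Uc M i) (natOver hG S h M hω i).e x (wm 1 one_ne_zero * B * (wm 1 one_ne_zero)⁻¹) := by
  refine ⟨hx, fun v hv => ?_, fun d hd => hB.2 d hd.2⟩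
  have h1 := pc_act S M (hB.1 v (Nc_le M i hv) i)
  rwa [one1_same] at h1

omit [Finite G] in
theorem wm_up_eq (b : F) : wm (1 : F) one_ne_zero * up b * (wm 1 one_ne_zero)⁻¹ = lo b := by
  rw [wm_up, mul_inv_cancel_right]
  congr 1
  rw [one_pow, div_one]
  exact CharTwo.neg_eq b

/-- **`SideS`** for a subgroup `B ≤ T` which acts as the root group `{one1 i (up b)}`. -/
theorem sideS_of [Finite F] {i : Fin k} {B : Subgroup G} (hBT : B ≤ Tc M i)
    (typ : ∀ a ∈ B, ∃ b, ActsSL M.e (zl (S : Subgroup G) P) (cv (S : Subgroup G) P) a (one1 i (up b)))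
    (full : ∀ b, ∃ a ∈ B, ActsSL M.e (zl (S : Subgroup G) P) (cv (S : Subgroup G) P) a (one1 i (up b)))
    (cen : ∀ v ∈ Nc M i, M.e v i 1 = 0 → ∀ a ∈ B, a * v = v * a) :
    SideS (Tc M i) (Lc M i) (Nc M i) (Uc M i) B (natOver hG S h M hω i).e where
  r := rig_of hG S h M hω i
  SP := le_sup_left
  AS := hBT
  typ a ha := by
    obtain ⟨b, hb⟩ := typ a ha
    refine ⟨b, ?_⟩
    have h1 := is_of_acts hG S h M hω ((le_sup_left : Tc M i ≤ Lc M i) (hBT ha)) hb
    rwa [wm_up_eq] at h1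
  full b := by
    obtain ⟨a, ha, hb⟩ := full b
    refine ⟨a, ha, ?_⟩
    have h1 := is_of_acts hG S h M hω ((le_sup_left : Tc M i ≤ Lc M i) (hBT ha)) hb
    rwa [wm_up_eq] at h1
  cen v hv := by
    change _ ↔ pc S M i v 0 = 0
    rw [pc_zero]
    refine ⟨fun h1 => ?_, fun h1 a ha => cen v hv h1 a ha⟩
    obtain ⟨a, ha, hb⟩ := full 1
    have h2 := hb.1 v (Nc_le M i hv) i
    rw [h1 a ha, mul_inv_cancel_right, one1_same] at h2
    have h3 := congrFun h2 0
    rw [ap_zero'] at h3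
    simpa using h3
  fz y hy C hC := by
    refine fz_of (rig_of hG S h M hω i) (S.isPGroup'.to_le (Tc_le M i)) hy hC fun v hv h0 => ?_
    change pc S M i _ 0 = 0
    change pc S M i v 0 = 0 at h0
    rw [pc_zero] at h0 ⊢
    exact (Tc_line S M hy (Nc_le M i hv)).2 h0
  sec a ha h1 v hv := comm_Nc hG S h M hω (Tc_le_St M i ha) (fun v hv => (pc_eq_iff S M).1 (h1 v hv)) v hv
  lin s hs h1 := lin_of (natOver hG S h M hω i) (rig_of hG S h M hω i) (S.isPGroup'.to_le (Tc_le M i)) le_sup_left hs h1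

/-- **`Form`** with `N = N₁` -/
theorem exists_form [Finite F] {i : Fin k} {B : Subgroup G} {π : G → Fin 2 → F}
    (s : SideS (Tc M i) (Lc M i) (Nc M i) (Uc M i) B π) (hπ : π = (natOver hG S h M hω i).e) :
    ∃ e f g : F → G, Form (Lc M i) (Nc M i) (Uc M i) π e f g (Nc M i) := by
  have : Fintype F := Fintype.ofFinite F
  obtain ⟨e, f, g, N, φ⟩ := s.exists_form (fun b => by
    obtain ⟨t, ht⟩ := (FiniteField.isSquare_of_char_two (ringChar.eq F 2) b)
    exact ⟨t, by rw [ht, pow_two]⟩) hω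
  have hN : N = Nc M i := by
    apply le_antisymm (φ.NV s.r)
    unfold Nc
    rw [closure_le]
    rintro _ ⟨x, hx, v, hv, rfl⟩
    obtain ⟨y, hy, hyx⟩ := exists_Ec hG S h M hω hx
    obtain ⟨n, hn, d, hd, rfl⟩ := exists_Nc_D1 M i hv
    obtain ⟨hyP, C, hC⟩ := id hy.1
    have h1 := comm_D1 hG S h M hω hy.1 hd
    have hyL : y ∈ Lc M i := (le_sup_right : Ec M i ≤ _) hy
    have h2 := is_of_acts hG S h M hω hyL hC
    rw [← hπ] at h2
    have h3 := φ.cN y _ h2 n hn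
    have e1 : x * (n * d) * x⁻¹ * (n * d)⁻¹ = y * n * y⁻¹ * n⁻¹ := by
      rw [← hyx _ hv]
      calc y * (n * d) * y⁻¹ * (n * d)⁻¹ = y * n * (d * y⁻¹) * d⁻¹ * n⁻¹ := by group
        _ = y * n * (y⁻¹ * (y * d) * y⁻¹) * d⁻¹ * n⁻¹ := by group
        _ = y * n * (y⁻¹ * (d * y) * y⁻¹) * d⁻¹ * n⁻¹ := by rw [h1]
        _ = _ := by group
    rw [SetLike.mem_coe, e1]
    exact h3
  subst hN
  exact ⟨e, f, g, φ⟩

/-! ### The index of `Tc` -/

omit [Finite G] [CharP F 2] in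
/-- the place of the `i`-th factor is determined -/
theorem place_unique {i j j' : Fin k} {t : G} (ht : t ∈ P)
    (h1 : ∀ v ∈ zl (S : Subgroup G) P, M.e (t * v * t⁻¹) j = 0 ↔ M.e v i = 0)
    (h2 : ∀ v ∈ zl (S : Subgroup G) P, M.e (t * v * t⁻¹) j' = 0 ↔ M.e v i = 0) : j = j' := by
  by_contra hne
  obtain ⟨v, hv, e1, e2⟩ := exists_single M j ![1, 0]
  have hw : t⁻¹ * v * t ∈ zl (S : Subgroup G) P := by
    have := conj_mem_zl (inv_mem ht) hv
    rwa [inv_inv] at this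
  have e : t * (t⁻¹ * v * t) * t⁻¹ = v := by group
  have h3 := h1 _ hw
  have h4 := h2 _ hw
  rw [e, e1] at h3
  rw [e, e2 j' (Ne.symm hne), ← h3] at h4
  have := congrFun (h4.1 rfl) 0
  simp at this

omit [Finite G] [CharP F 2] in
include h in
/-- **`|S : Tc M i| = k`** -/
theorem relIndex_Tc (i : Fin k) : (Tc M i).relIndex (S : Subgroup G) = k := by
  have hSP := h.le
  choose f hf using fun t : (S : Subgroup G) => (⟨M.perm t (hSP t.2) |>.choose i, fun v hv =>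
    (M.perm t (hSP t.2)).choose_spec v hv i⟩ :
      ∃ j : Fin k, ∀ v ∈ zl (S : Subgroup G) P, M.e ((t : G) * v * (t : G)⁻¹) j = 0 ↔ M.e v i = 0)
  have key : ∀ s t : (S : Subgroup G), f s = f t ↔ s⁻¹ * t ∈ (Tc M i).subgroupOf (S : Subgroup G) := by
    intro s t
    rw [mem_subgroupOf]
    have hsP := hSP s.2
    have htP := hSP t.2
    constructor
    · intro hst
      refine ⟨⟨mul_mem (inv_mem s.2) t.2, mul_mem (inv_mem hsP) htP⟩, fun v hv => ?_⟩
      change M.e ((s : G)⁻¹ * t * v * ((s : G)⁻¹ * t)⁻¹) i = 0 ↔ _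
      have hw : (s : G)⁻¹ * t * v * ((s : G)⁻¹ * t)⁻¹ ∈ zl (S : Subgroup G) P :=
        conj_mem_zl (mul_mem (inv_mem hsP) htP) hv
      have h1 := hf s _ hw
      have e : (s : G) * ((s : G)⁻¹ * t * v * ((s : G)⁻¹ * t)⁻¹) * (s : G)⁻¹ = t * v * (t : G)⁻¹ := by group
      rw [e, hst, hf t v hv] at h1
      exact h1.symm
    · intro hst
      refine place_unique (i := i) S M hsP (hf s) fun v hv => ?_
      have hx : s⁻¹ * t ∈ (Tc M i).subgroupOf (S : Subgroup G) := hst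
      have h1 := (mem_Tc M).1 hst
      have hw : (t : G)⁻¹ * s * v * ((t : G)⁻¹ * s)⁻¹ ∈ zl (S : Subgroup G) P :=
        conj_mem_zl (mul_mem (inv_mem htP) hsP) hv
      have h2 := h1.2 _ hw
      have e : ((s⁻¹ * t : (S : Subgroup G)) : G) * ((t : G)⁻¹ * s * v * ((t : G)⁻¹ * s)⁻¹) *
          ((s⁻¹ * t : (S : Subgroup G)) : G)⁻¹ = v := by
        rw [coe_mul, coe_inv]; group
      rw [e] at h2
      have h3 := hf t _ hw
      have e' : (t : G) * ((t : G)⁻¹ * s * v * ((t : G)⁻¹ * s)⁻¹) * (t : G)⁻¹ = s * v * (s : G)⁻¹ := by group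
      rw [e', ← h2] at h3
      exact h3
  have hsurj : ∀ j, ∃ t, f t = j := by
    intro j
    obtain ⟨t, ht, h1⟩ := M.trans i j
    exact ⟨⟨t, ht⟩, place_unique (i := i) (j := f ⟨t, ht⟩) (j' := j) S M (hSP ht) (hf ⟨t, ht⟩) h1⟩
  have hq : Nat.card ((S : Subgroup G) ⧸ (Tc M i).subgroupOf (S : Subgroup G)) = Nat.card (Fin k) := by
    refine Nat.card_congr (Equiv.ofBijective (Quotient.lift f fun a b hab => ?_) ⟨?_, ?_⟩)
    · exact (key a b).2 (QuotientGroup.leftRel_apply.1 hab)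
    · intro a b
      induction a using QuotientGroup.induction_on
      induction b using QuotientGroup.induction_on
      intro hab
      exact QuotientGroup.eq.2 ((key _ _).1 hab)
    · intro j
      obtain ⟨t, ht⟩ := hsurj j
      exact ⟨(t : (S : Subgroup G) ⧸ (Tc M i).subgroupOf (S : Subgroup G)), ht⟩
  rw [relIndex, index, hq, Nat.card_eq_fintype_card, Fintype.card_fin]

omit [CharP F 2] in
include h in
theorem card_Tc (i : Fin k) : Nat.card (S : Subgroup G) = k * Nat.card (Tc M i) := by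
  have h1 := Lib.SylowNormalInf.card_mul_relIndex (Tc M i) (S : Subgroup G) (Tc_le M i)
  rw [relIndex_Tc S h M i] at h1
  rw [← h1, mul_comm]

/-! ### `Qc` is not commutative -/

omit [Finite G] in
theorem acts_up_one1 {j : Fin k} {t : G} {b : F}
    (ht : ActsSL M.e (zl (S : Subgroup G) P) (cv (S : Subgroup G) P) t fun l => up (if l = j then b else 0)) :
    ActsSL M.e (zl (S : Subgroup G) P) (cv (S : Subgroup G) P) t (one1 j (up b)) := by
  have e : (fun l => up (if l = j then b else (0 : F))) = one1 j (up b) := by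
    funext l
    by_cases hl : l = j
    · subst hl; rw [if_pos rfl, one1_same]
    · rw [if_neg hl, one1_ne hl, up_zero]
  rwa [e] at ht

include hG h hω in
/-- `Fc M j` centralises `Nc M i`, `i ≠ j` -/
theorem Fc_comm_Nc {i j : Fin k} (hij : i ≠ j) {x n : G} (hx : x ∈ Fc M j) (hn : n ∈ Nc M i) : x * n = n * x :=
  comm_D1 hG S h M hω hx ⟨Nc_le M i hn, e_Nc M hn hij.symm⟩

omit [Finite G] [CharP F 2] in
/-- `Fc M j` stabilises the `i`-th factor -/
theorem Fc_le_St' {i j : Fin k} (hij : i ≠ j) : Fc M j ≤ St M i := by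
  rintro x ⟨hx, B, hB⟩
  refine ⟨hx, fun v hv => ?_⟩
  rw [hB.1 v hv i, one1_ne hij, ap_one]

include hG h hω in
theorem Fc_inf_le_Qc {i j : Fin k} (hij : i ≠ j) {x : G} (hx : x ∈ Fc M j) (hxS : x ∈ (S : Subgroup G)) : x ∈ Qc M i :=
  mem_inf.2 ⟨(mem_Tc_iff M).2 ⟨hxS, Fc_le_St' S M hij hx⟩, mem_centralizer_iff.2 fun _ hn =>
    (Fc_comm_Nc hG S h M hω hij hx hn).symm⟩

include hG h in
/-- `V ≤ Tc M i` -/
theorem V_le_Tc (i : Fin k) : zl (S : Subgroup G) P ≤ Tc M i := fun _ hv =>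
  (mem_Tc_iff M).2 ⟨V_le_S hG S h hv, h.le (V_le_S hG S h hv), fun w hw => by
    rw [V_comm hG S h hv hw, mul_inv_cancel_right]⟩

include hG h in
/-- `V ≤ Qc M i` -/
theorem V_le_Qc (i : Fin k) : zl (S : Subgroup G) P ≤ Qc M i := fun _ hv =>
  mem_inf.2 ⟨V_le_Tc hG S h M i hv, mem_centralizer_iff.2 fun _ hn => V_comm hG S h (Nc_le M i hn) hv⟩

include hG h hω in
/-- `Qc M i` is not commutative if `k > 1` -/
theorem exists_Qc_ne {i j : Fin k} (hij : i ≠ j) : ∃ x ∈ Qc M i, ∃ y ∈ Qc M i, x * y ≠ y * x := by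
  obtain ⟨t, ht, hA⟩ := M.unip fun l => if l = j then 1 else 0
  have htP := h.le ht
  have hA' := acts_up_one1 S M hA
  obtain ⟨v, hv, e1, -⟩ := exists_single M j ![0, 1]
  refine ⟨t, Fc_inf_le_Qc hG S h M hω hij ⟨htP, _, hA'⟩ ht, v, V_le_Qc hG S h M i hv, fun hc => ?_⟩
  have h2 := hA'.1 v hv j
  rw [hc, mul_inv_cancel_right, one1_same, e1] at h2
  have h3 := congrFun h2 0
  rw [ap_zero'] at h3
  simp at h3

end nat

end Cfsg.Agent.Omega.IId.Ns.Sd

end

section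


/-!
# II.d, nonsplit: `[v, x] = 1` is decided by the coordinates

`M : NatK F S P (zl S P) (cv S P) k`.

* `same_act` : the action on `V` of an element of `P` centralising `D` is determined by its matrices;
* `comm_iff` : `x ∈ P` acting as `up (c i)` (trivially on `D`) commutes with `v` iff `c i * M.e v i 1 = 0` for all `i`.
-/

set_option autoImplicit false
set_option linter.unusedSectionVars false

namespace Cfsg.Agent.Omega.IId.Ns

open Subgroup Cfsg Cfsg.Agent.ZN Cfsg.Agent.ZN.ChoiceSit Cfsg.Agent.ZN.ChoiceBase Cfsg.Agent.Omega.MinPar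
open Cfsg.Agent.Omega.FrameFF Cfsg.Agent.Omega.FFThm Cfsg.Agent.Lib.SL2Mat
open Cfsg.Agent.Omega.NatPair (ap ap_add ap_mul ap_one ap_inj ext2 ap_zero' ap_one' ap_inv_ap ap_ap_inv)
open Cfsg.Agent.Omega.HOne (cv_le conj_mem_zl conj_mem_cv three exists_ap_three_sub)
open Cfsg.Agent.Omega.IId.Cv

universe u

variable {G : Type u} [Group G] [Finite G] (hG : IsCharacteristicTwoType G) (S : Sylow 2 G) {P : Subgroup G}
  (h : IsParS (S : Subgroup G) P) {F : Type} [Field F] [CharP F 2] {k : ℕ}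
  (M : NatK F (S : Subgroup G) P (zl (S : Subgroup G) P) (cv (S : Subgroup G) P) k)

include hG h in
theorem zl_ab {v w : G} (hv : v ∈ zl (S : Subgroup G) P) (hw : w ∈ zl (S : Subgroup G) P) : v * w = w * v :=
  Cfsg.Agent.MinSimple.VModule.zc_comm _ _ (h.isLoc.zl_le S hG hv) _ (h.isLoc.zl_le S hG hw)

include hG h in
/-- two elements of `P` which centralise `D` and act on `V / D` in the same way act on `V` in the same way -/
theorem same_act (hk : 0 < k) {x y : G} (hx : x ∈ P) (hy : y ∈ P)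
    {A : Fin k → Matrix.SpecialLinearGroup (Fin 2) F}
    (hA : ActsSL M.e (zl (S : Subgroup G) P) (cv (S : Subgroup G) P) x A)
    (hB : ActsSL M.e (zl (S : Subgroup G) P) (cv (S : Subgroup G) P) y A) :
    ∀ v ∈ zl (S : Subgroup G) P, x * v * x⁻¹ = y * v * y⁻¹ := by
  have h1 := acts_mul M (inv_mem hy) hx (acts_inv M hy hB) hA
  have h2 : y⁻¹ * x ∈ kern M := by
    refine ⟨mul_mem (inv_mem hy) hx, fun v hv => funext fun i => ?_⟩
    rw [h1.1 v hv i]
    change ap ((A i)⁻¹ * A i) _ = _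
    rw [inv_mul_cancel, ap_one]
  intro v hv
  have h3 := comm_of_kern hG S h M hk h2 h1.2 v hv
  calc x * v * x⁻¹ = y * (y⁻¹ * x * v) * x⁻¹ := by group
    _ = y * (v * (y⁻¹ * x)) * x⁻¹ := by rw [h3]
    _ = _ := by group

/-- an element with given coordinates -/
theorem e_ap_up {c : F} (w : Fin 2 → F) : ap (up c) w = ![w 0 + c * w 1, w 1] := by
  apply ext2
  · rw [ap_zero']; simp
  · rw [ap_one']; simp

include hG h in
/-- part 1 -/
theorem comm_one (hk : 0 < k) {x : G} (hx : x ∈ P) {c : Fin k → F}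
    (hc : ActsSL M.e (zl (S : Subgroup G) P) (cv (S : Subgroup G) P) x fun i => up (c i))
    {v : G} (hv : v ∈ zl (S : Subgroup G) P) (h1 : ∀ i, M.e v i 1 = 0) (h0 : ∀ i, c i = 0 → M.e v i = 0) :
    x * v = v * x := by
  have h2F : (2 : F) = 0 := CharTwo.two_eq_zero
  obtain ⟨w, hw, hwe⟩ := M.surj fun i => ![0, M.e v i 0 / c i]
  set y := x * w * x⁻¹ with hy
  have hyV : y ∈ zl (S : Subgroup G) P := conj_mem_zl hx hw
  -- `x ^ 2` centralises `V`
  have hxx : ActsSL M.e (zl (S : Subgroup G) P) (cv (S : Subgroup G) P) (x * x) fun _ => 1 := by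
    have h3 := acts_mul M hx hx hc hc
    have e : (fun i => up (c i) * up (c i)) = fun _ : Fin k => (1 : Matrix.SpecialLinearGroup (Fin 2) F) := by
      funext i
      refine ext_ent ?_ ?_ ?_ ?_ <;> simp [ent_mul]
      linear_combination (c i) * h2F
    rwa [e] at h3
  have h3 : x * y * x⁻¹ = w := by
    have h4 := same_act hG S h M hk (mul_mem hx hx) (one_mem P) hxx (acts_one M) w hw
    rw [hy]
    calc x * (x * w * x⁻¹) * x⁻¹ = x * x * w * (x * x)⁻¹ := by group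
      _ = w := by rw [h4]; group
  have h4 : x * (y * w) * x⁻¹ = y * w := by
    calc x * (y * w) * x⁻¹ = (x * y * x⁻¹) * (x * w * x⁻¹) := by group
      _ = w * y := by rw [h3]
      _ = y * w := zl_ab hG S h hw hyV
  have h5 : M.e (y * w) = M.e v := by
    rw [M.mul _ hyV _ hw]
    funext i
    rw [Pi.add_apply, hy, hc.1 w hw i, e_ap_up, hwe]
    apply ext2
    · simp only [Pi.add_apply, Matrix.cons_val_zero, Matrix.cons_val_one, zero_add, add_zero]
      by_cases hci : c i = 0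
      · rw [h0 i hci]; simp
      · field_simp
    · simp only [Pi.add_apply, Matrix.cons_val_zero, Matrix.cons_val_one, zero_add, add_zero]
      rw [h1 i]
      linear_combination (M.e v i 0 / c i) * h2F
  have h6 : v * (y * w)⁻¹ ∈ cv (S : Subgroup G) P := (eq_iff M hv (mul_mem hyV hw)).1 h5.symm
  have h7 := hc.2 _ h6
  rw [mul_inv_eq_iff_eq_mul] at h4
  calc x * v = (x * (v * (y * w)⁻¹)) * (y * w) := by group
    _ = (v * (y * w)⁻¹) * (x * (y * w)) := by rw [h7]; group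
    _ = (v * (y * w)⁻¹) * ((y * w) * x) := by rw [h4]
    _ = v * x := by group

open Classical in
include hG h in
/-- an element which acts trivially on the support of `v` commutes with `v` -/
theorem comm_sup (hk : 0 < k) {x : G} (hx : x ∈ P) {A : Fin k → Matrix.SpecialLinearGroup (Fin 2) F}
    (hc : ActsSL M.e (zl (S : Subgroup G) P) (cv (S : Subgroup G) P) x A)
    {v : G} (hv : v ∈ zl (S : Subgroup G) P) (h0 : ∀ i, A i ≠ 1 → M.e v i = 0) :
    x * v = v * x := by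
  obtain ⟨y, hy, hyA⟩ := M.lift fun i => if A i = 1 then three F else 1
  have hD := cv_le (S : Subgroup G) P
  -- `δ w = [x, w] ∈ D` for `w` supported on `A = 1`
  have hδD : ∀ w ∈ zl (S : Subgroup G) P, (∀ i, A i ≠ 1 → M.e w i = 0) → x * w * x⁻¹ * w⁻¹ ∈ cv (S : Subgroup G) P := by
    intro w hw hw0
    rw [← eq_iff M (conj_mem_zl hx hw) hw]
    funext i
    rw [hc.1 w hw i]
    by_cases hci : A i = 1
    · rw [hci, ap_one]
    · rw [hw0 i hci]
      apply ext2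
      · rw [ap_zero']; simp
      · rw [ap_one']; simp
  have hconj : ActsSL M.e (zl (S : Subgroup G) P) (cv (S : Subgroup G) P) (y * x * y⁻¹) A := by
    have h3 := acts_mul M (mul_mem hy hx) (inv_mem hy) (acts_mul M hy hx hyA hc) (acts_inv M hy hyA)
    have e : (fun i => (if A i = 1 then three F else 1) * A i * (if A i = 1 then three F else 1)⁻¹) = A := by
      funext i
      by_cases hi : A i = 1 <;> simp [hi]
    rwa [e] at h3
  have hδ : ∀ w ∈ zl (S : Subgroup G) P, (∀ i, A i ≠ 1 → M.e w i = 0) →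
      x * (y * w * y⁻¹) * x⁻¹ * (y * w * y⁻¹)⁻¹ = x * w * x⁻¹ * w⁻¹ := by
    intro w hw hw0
    have h4 := same_act hG S h M hk hx (mul_mem (mul_mem hy hx) (inv_mem hy)) hc hconj _ (conj_mem_zl hy hw)
    have h5 := hyA.2 _ (hδD w hw hw0)
    rw [h4]
    calc y * x * y⁻¹ * (y * w * y⁻¹) * (y * x * y⁻¹)⁻¹ * (y * w * y⁻¹)⁻¹ = y * (x * w * x⁻¹ * w⁻¹) * y⁻¹ := by group
      _ = _ := by rw [h5]; group
  -- `v = [y, w] d`
  have hex : ∀ i, ∃ z : Fin 2 → F, ap (three F) z - z = M.e v i := fun i => by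
    have := exists_ap_three_sub (F := F) 0 (M.e v i)
    simpa using this
  choose z hz using hex
  obtain ⟨w, hw, hwe⟩ := M.surj fun i => if A i = 1 then z i else 0
  have hw0 : ∀ i, A i ≠ 1 → M.e w i = 0 := by
    intro i hi
    rw [hwe]
    simp [hi]
  set n := y * w * y⁻¹ * w⁻¹ with hn
  have hnV : n ∈ zl (S : Subgroup G) P := mul_mem (conj_mem_zl hy hw) (inv_mem hw)
  have hne : M.e n = M.e v := by
    rw [hn, e_div M (conj_mem_zl hy hw) hw]
    funext i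
    rw [Pi.sub_apply, hyA.1 w hw i, hwe]
    by_cases hi : A i = 1
    · simp only [hi, if_true]
      exact hz i
    · simp only [hi, if_false]
      rw [h0 i hi, ap_one, sub_zero]
  have h6 : v * n⁻¹ ∈ cv (S : Subgroup G) P := (eq_iff M hv hnV).1 hne.symm
  have h7 := hc.2 _ h6
  -- `x` commutes with `n`
  have h8 : x * n = n * x := by
    have h9 := hδ w hw hw0
    have hyw : y * w * y⁻¹ ∈ zl (S : Subgroup G) P := conj_mem_zl hy hw
    have e1 : x * n * x⁻¹ = n := by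
      have h11 := zl_ab hG S h (hD (hδD w hw hw0)) hyw
      have e2 : x * (y * w * y⁻¹) * x⁻¹ = (x * w * x⁻¹ * w⁻¹) * (y * w * y⁻¹) := by
        rw [← h9]; group
      calc x * n * x⁻¹ = (x * (y * w * y⁻¹) * x⁻¹) * (x * w * x⁻¹)⁻¹ := by rw [hn]; group
        _ = (x * w * x⁻¹ * w⁻¹) * (y * w * y⁻¹) * (x * w * x⁻¹)⁻¹ := by rw [e2]
        _ = (y * w * y⁻¹) * (x * w * x⁻¹ * w⁻¹) * (x * w * x⁻¹)⁻¹ := by rw [h11]
        _ = (y * w * y⁻¹) * ((x * w * x⁻¹) * w⁻¹ * (x * w * x⁻¹)⁻¹) := by group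
        _ = (y * w * y⁻¹) * (w⁻¹ * (x * w * x⁻¹) * (x * w * x⁻¹)⁻¹) := by
          rw [zl_ab hG S h (conj_mem_zl hx hw) (inv_mem hw)]
        _ = n := by rw [hn]; group
    exact mul_inv_eq_iff_eq_mul.1 e1
  calc x * v = (x * (v * n⁻¹)) * n := by group
    _ = (v * n⁻¹) * (x * n) := by rw [h7]; group
    _ = (v * n⁻¹) * (n * x) := by rw [h8]
    _ = v * x := by group

omit [Finite G] in
theorem up_eq_one_iff {c : F} : up c = (1 : Matrix.SpecialLinearGroup (Fin 2) F) ↔ c = 0 := by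
  constructor
  · intro h1
    have h2 := congrArg (fun A => ent A 0 1) h1
    simpa using h2
  · rintro rfl
    refine ext_ent ?_ ?_ ?_ ?_ <;> simp

open Classical in
include hG h in
/-- **`x` commutes with `v` iff the coordinates say so** -/
theorem comm_iff (hk : 0 < k) {x : G} (hx : x ∈ P) {c : Fin k → F}
    (hc : ActsSL M.e (zl (S : Subgroup G) P) (cv (S : Subgroup G) P) x fun i => up (c i))
    {v : G} (hv : v ∈ zl (S : Subgroup G) P) : x * v = v * x ↔ ∀ i, c i * M.e v i 1 = 0 := by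
  constructor
  · intro hxv i
    have h1 := hc.1 v hv i
    rw [hxv, mul_inv_cancel_right, e_ap_up] at h1
    have h2 := congrFun h1 0
    simp only [Matrix.cons_val_zero] at h2
    linear_combination -h2
  · intro h1
    obtain ⟨v₁, hv₁, he₁⟩ := M.surj fun i => if c i = 0 then M.e v i else 0
    have hv₂ : v * v₁⁻¹ ∈ zl (S : Subgroup G) P := mul_mem hv (inv_mem hv₁)
    have he₂ : ∀ i, M.e (v * v₁⁻¹) i = if c i = 0 then 0 else M.e v i := by
      intro i
      rw [e_div M hv hv₁, Pi.sub_apply, he₁]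
      by_cases hi : c i = 0 <;> simp [hi]
    have h2 : x * v₁ = v₁ * x := by
      refine comm_sup hG S h M hk hx hc hv₁ fun i hi => ?_
      have hi' : c i ≠ 0 := fun h3 => hi (up_eq_one_iff.2 h3)
      rw [he₁]
      simp [hi']
    have h3 : x * (v * v₁⁻¹) = (v * v₁⁻¹) * x := by
      refine comm_one hG S h M hk hx hc hv₂ (fun i => ?_) fun i hi => ?_
      · rw [he₂]
        by_cases hi : c i = 0
        · simp [hi]
        · rw [if_neg hi]
          exact (mul_eq_zero.1 (h1 i)).resolve_left hi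
      · rw [he₂, if_pos hi]
    calc x * v = (x * (v * v₁⁻¹)) * v₁ := by group
      _ = (v * v₁⁻¹) * (x * v₁) := by rw [h3]; group
      _ = (v * v₁⁻¹) * (v₁ * x) := by rw [h2]
      _ = v * x := by group

end Cfsg.Agent.Omega.IId.Ns

end

section


/-!
# Change of the field of `NatK`

`natKFld σ M : NatK F' S P V D k` for `σ : F ≃+* F'`, `M : NatK F S P V D k`.
-/

set_option autoImplicit false

namespace Cfsg.Agent.Omega.IId.Ns

open Subgroup Cfsg Cfsg.Agent.Omega.FFThm Cfsg.Agent.Lib.SL2Mat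
open Cfsg.Agent.Omega.NatPair (ap ap_add ap_mul ap_one ap_inj ext2 ap_zero' ap_one' ap_inv_ap ap_ap_inv)

universe u

variable {G : Type u} [Group G] {F F' : Type} [Field F] [Field F']

/-- the image of a matrix -/
def slm (σ : F ≃+* F') (A : Matrix.SpecialLinearGroup (Fin 2) F) : Matrix.SpecialLinearGroup (Fin 2) F' :=
  mk (σ (ent A 0 0)) (σ (ent A 0 1)) (σ (ent A 1 0)) (σ (ent A 1 1)) (by
    rw [← map_mul, ← map_mul, ← map_sub, det_eq, map_one])

theorem ap_slm (σ : F ≃+* F') (A : Matrix.SpecialLinearGroup (Fin 2) F) (x : Fin 2 → F) :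
    ap (slm σ A) (fun j => σ (x j)) = fun j => σ (ap A x j) := by
  apply ext2
  · rw [ap_zero', ap_zero', map_add, map_mul, map_mul]; rfl
  · rw [ap_one', ap_one', map_add, map_mul, map_mul]; rfl

theorem slm_symm (σ : F ≃+* F') (A : Matrix.SpecialLinearGroup (Fin 2) F') : slm σ (slm σ.symm A) = A := by
  refine ext_ent ?_ ?_ ?_ ?_ <;> simp [slm]

theorem slm_up (σ : F ≃+* F') (b : F) : slm σ (up b) = up (σ b) := by
  refine ext_ent ?_ ?_ ?_ ?_ <;> simp [slm]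

section

variable {k : ℕ} (e : G → Fin k → Fin 2 → F) (V D : Subgroup G)

/-- the coordinates over the other field -/
def efld (σ : F ≃+* F') : G → Fin k → Fin 2 → F' := fun v i j => σ (e v i j)

theorem acts_fld (σ : F ≃+* F') {g : G} {A : Fin k → Matrix.SpecialLinearGroup (Fin 2) F}
    (h : ActsSL e V D g A) : ActsSL (efld e σ) V D g fun i => slm σ (A i) := by
  refine ⟨fun v hv i => ?_, h.2⟩
  change (fun j => σ (e (g * v * g⁻¹) i j)) = ap _ fun j => σ (e v i j)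
  rw [ap_slm, h.1 v hv i]

theorem acts_fld' (σ : F ≃+* F') {g : G} {A : Fin k → Matrix.SpecialLinearGroup (Fin 2) F'}
    (h : ActsSL (efld e σ) V D g A) : ActsSL e V D g fun i => slm σ.symm (A i) := by
  refine ⟨fun v hv i => ?_, h.2⟩
  have h1 := h.1 v hv i
  funext j
  apply σ.injective
  have h2 := congrFun (ap_slm σ (slm σ.symm (A i)) (e v i)) j
  rw [slm_symm] at h2
  rw [← h2]
  exact congrFun h1 j

end

/-- **Change of the field.** -/
def natKFld (σ : F ≃+* F') {T H V D : Subgroup G} {k : ℕ} (M : NatK F T H V D k) : NatK F' T H V D k where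
  e := efld M.e σ
  mul v hv w hw := by
    funext i j
    change σ (M.e (v * w) i j) = _
    rw [M.mul v hv w hw]
    exact map_add σ _ _
  surj x := by
    obtain ⟨v, hv, h⟩ := M.surj fun i j => σ.symm (x i j)
    refine ⟨v, hv, ?_⟩
    funext i j
    change σ (M.e v i j) = _
    rw [h, σ.apply_symm_apply]
  ker v hv := by
    rw [← M.ker v hv]
    constructor
    · intro h
      funext i j
      apply σ.injective
      have := congrFun (congrFun h i) j
      change σ (M.e v i j) = 0 at this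
      rw [this]; simp
    · intro h
      funext i j
      change σ (M.e v i j) = _
      rw [h]; exact map_zero σ
  lift A := by
    obtain ⟨g, hg, h⟩ := M.lift fun i => slm σ.symm (A i)
    refine ⟨g, hg, ?_⟩
    have h1 := acts_fld M.e V D σ h
    have e : (fun i => slm σ (slm σ.symm (A i))) = A := by
      funext i; exact slm_symm σ _
    rwa [e] at h1
  norm g hg h hh A hA := by
    obtain ⟨B, hB⟩ := M.norm g hg h hh (fun i => slm σ.symm (A i)) fun v hv i => by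
      have h1 := hA v hv i
      funext j
      apply σ.injective
      have h2 := congrFun (ap_slm σ (slm σ.symm (A i)) (M.e v i)) j
      rw [slm_symm] at h2
      rw [← h2]
      exact congrFun h1 j
    refine ⟨fun i => slm σ (B i), fun v hv i => ?_⟩
    change (fun j => σ (M.e (g * h * g⁻¹ * v * (g * h * g⁻¹)⁻¹) i j)) = ap _ fun j => σ (M.e v i j)
    rw [ap_slm, hB v hv i]
  perm g hg := by
    obtain ⟨τ, hτ⟩ := M.perm g hg
    refine ⟨τ, fun v hv i => ?_⟩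
    have h0 : ∀ w j, efld M.e σ w j = 0 ↔ M.e w j = 0 := fun w j => by
      constructor
      · intro h
        funext m
        apply σ.injective
        have := congrFun h m
        change σ (M.e w j m) = 0 at this
        rw [this]; simp
      · intro h
        funext m
        change σ (M.e w j m) = _
        rw [h]; exact map_zero σ
    rw [h0, h0]
    exact hτ v hv i
  trans i j := by
    obtain ⟨t, ht, h⟩ := M.trans i j
    refine ⟨t, ht, fun v hv => ?_⟩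
    have h0 : ∀ w j, efld M.e σ w j = 0 ↔ M.e w j = 0 := fun w j => by
      constructor
      · intro h
        funext m
        apply σ.injective
        have := congrFun h m
        change σ (M.e w j m) = 0 at this
        rw [this]; simp
      · intro h
        funext m
        change σ (M.e w j m) = _
        rw [h]; exact map_zero σ
    rw [h0, h0]
    exact h v hv
  line t ht := by
    obtain ⟨τ, hτ⟩ := M.line t ht
    refine ⟨τ, fun v hv i => ?_⟩
    change σ (M.e (t * v * t⁻¹) (τ i) 1) = 0 ↔ σ (M.e v i 1) = 0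
    rw [map_eq_zero, map_eq_zero]
    exact hτ v hv i
  unip b := by
    obtain ⟨t, ht, h⟩ := M.unip fun i => σ.symm (b i)
    refine ⟨t, ht, ?_⟩
    have h1 := acts_fld M.e V D σ h
    have e : (fun i => slm σ (up (σ.symm (b i)))) = fun i => up (b i) := by
      funext i; rw [slm_up, σ.apply_symm_apply]
    rwa [e] at h1
  gen K hK h := M.gen K hK fun x hx A hA => h x hx _ (acts_fld M.e V D σ hA)
  off A hA hoff := by
    obtain ⟨I, h1, h2⟩ := M.off A hA hoff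
    refine ⟨I, fun a ha => ?_, fun b hb => ?_⟩
    · obtain ⟨b, hb, h⟩ := h1 a ha
      refine ⟨fun i => σ (b i), fun i hi => by
        change σ (b i) = 0
        rw [hb i hi, map_zero], ?_⟩
      have h3 := acts_fld M.e V D σ h
      have e : (fun i => slm σ (up (b i))) = fun i => up (σ (b i)) := by
        funext i; exact slm_up σ _
      rwa [e] at h3
    · obtain ⟨a, ha, h⟩ := h2 (fun i => σ.symm (b i)) fun i hi => by rw [hb i hi, map_zero]
      refine ⟨a, ha, ?_⟩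
      have h3 := acts_fld M.e V D σ h
      have e : (fun i => slm σ (up (σ.symm (b i)))) = fun i => up (b i) := by
        funext i; rw [slm_up, σ.apply_symm_apply]
      rwa [e] at h3

end Cfsg.Agent.Omega.IId.Ns

end

section


/-!
# II.d, `k = 2`, nonsplit: the facts (4)-(7) on `UU = ⟨N₁ ^ M⟩`, `M = C_G(U₁)`, as a structure

`CC U U' = C_G(U) ∩ C_G(U')`, `UG A U = ⟨A ^ C_G(U)⟩`.
`Core T L A A' U U' π e g s` : `UU = UG A U` is elementary abelian, normalised by `C_G(U)` and `T`, contained in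
`O₂(CC U U')`; `s : UU → F` is additive, `s = π · 0` on `A`, an element of `A'` inducing `lo (t²)` on `A / U` acts on `UU` by
`u ↦ e (t² s u) g (t s u) u`, and `s (c a c⁻¹) = s a` for `c ∈ CC U U'`, `a ∈ A`.
-/

set_option autoImplicit false
set_option linter.unusedSectionVars false

namespace Cfsg.Agent.Omega.IId.Ns

open Subgroup Cfsg Cfsg.Agent.ZN Cfsg.Agent.Lib.SL2Mat
open Cfsg.Agent.Omega.HOne.NSMod Cfsg.Agent.Omega.HOne.NSSide Cfsg.Agent.Omega.HOne.NSPair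

universe u

variable {G : Type u} [Group G] {F : Type} [Field F]

/-- `C = C_G(U) ∩ C_G(U')` -/
def CC (U U' : Subgroup G) : Subgroup G := centralizer (U : Set G) ⊓ centralizer (U' : Set G)

/-- `UU = ⟨A ^ C_G(U)⟩` -/
def UG (A U : Subgroup G) : Subgroup G :=
  closure {x | ∃ m ∈ centralizer (U : Set G), ∃ a ∈ A, x = m * a * m⁻¹}

/-- (4)-(7) -/
structure Core (T L A A' U U' : Subgroup G) (π : G → Fin 2 → F) (e g : F → G) (s : G → F) : Prop where
  ab : ∀ x ∈ UG A U, ∀ y ∈ UG A U, x * y = y * x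
  sq : ∀ x ∈ UG A U, x * x = 1
  AU : A ≤ UG A U
  UO : UG A U ≤ o2 (CC U U')
  MU : ∀ m ∈ centralizer (U : Set G), ∀ u ∈ UG A U, m * u * m⁻¹ ∈ UG A U
  TU : ∀ t ∈ T, ∀ u ∈ UG A U, t * u * t⁻¹ ∈ UG A U
  s_add : ∀ u ∈ UG A U, ∀ v ∈ UG A U, s (u * v) = s u + s v
  s_A : ∀ a ∈ A, s a = π a 0
  s_act : ∀ t, ∀ n ∈ A', Is L A U π n (lo (t ^ 2)) → ∀ u ∈ UG A U, n * u * n⁻¹ = e (t ^ 2 * s u) * g (t * s u) * u
  s_conj : ∀ c ∈ CC U U', ∀ a ∈ A, s (c * a * c⁻¹) = π a 0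

end Cfsg.Agent.Omega.IId.Ns

end

section


/-!
# II.d, `k = 2`, nonsplit: (4), (6), (7)

`Base.exists_core` : the structure `Core` exists for every `Base`.
-/

set_option autoImplicit false
set_option linter.unusedSectionVars false

namespace Cfsg.Agent.Omega.IId.Ns.CoreOf

open Subgroup Cfsg Cfsg.Agent.Lib.SL2Mat
open Cfsg.Agent.ZN (zc o2)
open Cfsg.Agent.MinSimple.VModule (mem_zc zc_le zc_sq o2_le o2_isPGroup le_normalizer_o2 le_o2)
open Cfsg.Agent.Omega.HOne.NSMod Cfsg.Agent.Omega.HOne.NSSide Cfsg.Agent.Omega.HOne.NSPair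
open Cfsg.Agent.Omega.HOne.NSClaim (br br_mul_self br_mem br_mul claim)
open Cfsg.Agent.Omega.NatPair (ap ap_zero')

universe u

variable {G : Type u} [Group G] {F : Type} [Field F]

section gen

/-- conjugates by elements of `C_G(U)` -/
theorem UG_le {A U : Subgroup G} {K : Subgroup G}
    (h : ∀ m ∈ centralizer (U : Set G), ∀ a ∈ A, m * a * m⁻¹ ∈ K) : UG A U ≤ K := by
  rw [UG, closure_le]
  rintro _ ⟨m, hm, a, ha, rfl⟩
  exact h m hm a ha

theorem UG_self {A U : Subgroup G} : A ≤ UG A U := fun a ha =>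
  subset_closure ⟨1, one_mem _, a, ha, by group⟩

theorem UG_conj {A U : Subgroup G} {t : G} (hA : ∀ a ∈ A, t * a * t⁻¹ ∈ A)
    (hM : ∀ m ∈ centralizer (U : Set G), t * m * t⁻¹ ∈ centralizer (U : Set G)) {u : G} (hu : u ∈ UG A U) :
    t * u * t⁻¹ ∈ UG A U := by
  have h1 : UG A U ≤ (UG A U).comap (MulAut.conj t).toMonoidHom := UG_le fun m hm a ha => by
    change t * (m * a * m⁻¹) * t⁻¹ ∈ UG A U
    have e : t * (m * a * m⁻¹) * t⁻¹ = (t * m * t⁻¹) * (t * a * t⁻¹) * (t * m * t⁻¹)⁻¹ := by group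
    rw [e]
    exact subset_closure ⟨_, hM m hm, _, hA a ha, rfl⟩
  exact h1 hu

theorem UG_conjM {A U : Subgroup G} {m : G} (hm : m ∈ centralizer (U : Set G)) {u : G} (hu : u ∈ UG A U) :
    m * u * m⁻¹ ∈ UG A U := by
  have h1 : UG A U ≤ (UG A U).comap (MulAut.conj m).toMonoidHom := UG_le fun m' hm' a ha => by
    change m * (m' * a * m'⁻¹) * m⁻¹ ∈ UG A U
    have e : m * (m' * a * m'⁻¹) * m⁻¹ = (m * m') * a * (m * m')⁻¹ := by group
    rw [e]
    exact subset_closure ⟨_, mul_mem hm hm', _, ha, rfl⟩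
  exact h1 hu

theorem conj_cent {U : Subgroup G} {t : G} (ht : ∀ u ∈ U, t⁻¹ * u * t ∈ U) {m : G}
    (hm : m ∈ centralizer (U : Set G)) : t * m * t⁻¹ ∈ centralizer (U : Set G) := by
  rw [mem_centralizer_iff] at hm ⊢
  intro u hu
  have h1 := hm _ (ht u hu)
  calc u * (t * m * t⁻¹) = t * (t⁻¹ * u * t * m) * t⁻¹ := by group
    _ = t * (m * (t⁻¹ * u * t)) * t⁻¹ := by rw [h1]
    _ = _ := by group

theorem centralizer_le_norm (U : Subgroup G) : centralizer (U : Set G) ≤ normalizer (U : Set G) := by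
  intro m hm
  rw [mem_normalizer_iff]
  intro u
  constructor
  · intro hu
    have := mem_centralizer_iff.1 hm u hu
    rw [← this, mul_inv_cancel_right]; exact hu
  · intro hu
    have := mem_centralizer_iff.1 hm _ hu
    have e : m * u * m⁻¹ = u := by
      calc m * u * m⁻¹ = m⁻¹ * (m * (m * u * m⁻¹)) := by group
        _ = m⁻¹ * (m * u * m⁻¹ * m) := by rw [← this]
        _ = u := by group
    rw [e] at hu; exact hu

/-- `N_G(U)` normalises `zc (o2 (N_G(U)))` -/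
theorem zc_conj {X : Subgroup G} {m a : G} (hm : m ∈ X) (ha : a ∈ zc (o2 X)) :
    m * a * m⁻¹ ∈ zc (o2 X) := by
  have h1 := mem_zc.1 ha
  have hn := le_normalizer_o2 X
  refine mem_zc.2 ⟨(mem_normalizer_iff.1 (hn hm) a).1 h1.1, fun y hy => ?_, ?_⟩
  · have h2 : m⁻¹ * y * m ∈ o2 X := by
      have := (mem_normalizer_iff.1 (hn (inv_mem hm)) y).1 hy
      rwa [inv_inv] at this
    have h3 := h1.2.1 _ h2
    calc y * (m * a * m⁻¹) = m * (m⁻¹ * y * m * a) * m⁻¹ := by group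
      _ = m * (a * (m⁻¹ * y * m)) * m⁻¹ := by rw [h3]
      _ = _ := by group
  · have h3 := h1.2.2
    rw [pow_two] at h3 ⊢
    calc m * a * m⁻¹ * (m * a * m⁻¹) = m * (a * a) * m⁻¹ := by group
      _ = 1 := by rw [h3]; group

end gen

section base

variable {T T' L L' A A' U U' : Subgroup G} {π π' : G → Fin 2 → F} {e f g e' f' g' : F → G}

theorem mem_U (b : Base T T' L L' A A' U U' π π' e f g e' f' g') {x : G} : x ∈ U ↔ ∃ y, x = g y := by
  constructor
  · intro hx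
    exact b.p.φ.ND x (b.p.s.r.DV hx) hx
  · rintro ⟨y, rfl⟩
    exact b.p.φ.gD y

theorem mem_U' [Finite F] (b : Base T T' L L' A A' U U' π π' e f g e' f' g') {x : G} : x ∈ U' ↔ ∃ z, x = e z := by
  constructor
  · intro hx
    obtain ⟨y, rfl⟩ := (mem_U b.symm).1 hx
    choose h hh using b.c1
    have hi : Function.Injective h := by
      intro z z' hz
      have h1 := hh z
      rw [hz, ← hh z'] at h1
      exact b.p.φ.e_inj b.p.s.r h1
    obtain ⟨z, rfl⟩ := Finite.surjective_of_injective hi y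
    exact ⟨z, (hh z).symm⟩
  · rintro ⟨z, rfl⟩
    obtain ⟨y, hy⟩ := b.c1 z
    rw [hy]
    exact b.p.φ'.gD y

theorem U'_le [Finite F] (b : Base T T' L L' A A' U U' π π' e f g e' f' g') : U' ≤ A := by
  intro x hx
  obtain ⟨z, rfl⟩ := (mem_U' b).1 hx
  exact b.p.φ.eV z

/-- `UU` is contained in `Ω₁ Z(O₂(N_G(U)))` -/
theorem UG_le_zc (b : Base T T' L L' A A' U U' π π' e f g e' f' g') :
    UG A U ≤ zc (o2 (normalizer (U : Set G))) :=
  UG_le fun _ hm _ ha => zc_conj (centralizer_le_norm U hm) (b.AZ ha)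

theorem ab (b : Base T T' L L' A A' U U' π π' e f g e' f' g') : ∀ x ∈ UG A U, ∀ y ∈ UG A U, x * y = y * x :=
  fun _ hx _ hy => (mem_zc.1 (UG_le_zc b hy)).2.1 _ (zc_le _ (UG_le_zc b hx))

theorem sq (b : Base T T' L L' A A' U U' π π' e f g e' f' g') : ∀ x ∈ UG A U, x * x = 1 := fun x hx => by
  rw [← pow_two]
  exact zc_sq _ _ (UG_le_zc b hx)

theorem U_le (b : Base T T' L L' A A' U U' π π' e f g e' f' g') : U ≤ UG A U := b.p.s.r.DV.trans UG_self

theorem UG_cent (b : Base T T' L L' A A' U U' π π' e f g e' f' g') : UG A U ≤ centralizer (U : Set G) := fun _ hx =>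
  mem_centralizer_iff.2 fun _ hy => ab b _ (U_le b hy) _ hx

theorem isPGroup_UG (b : Base T T' L L' A A' U U' π π' e f g e' f' g') : IsPGroup 2 (UG A U) := fun x => by
  refine ⟨1, ?_⟩
  apply Subtype.ext
  rw [pow_one, pow_two]
  exact sq b _ x.2

theorem UG_le_o2 [Finite F] (b : Base T T' L L' A A' U U' π π' e f g e' f' g') : UG A U ≤ o2 (CC U U') := by
  refine le_o2 (le_inf (UG_cent b) fun x hx => mem_centralizer_iff.2 fun y hy =>
    ab b _ (UG_self (U'_le b hy)) _ hx) (isPGroup_UG b) ?_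
  intro c hc
  rw [mem_normalizer_iff]
  intro u
  refine ⟨fun hu => UG_conjM hc.1 hu, fun hu => ?_⟩
  have := UG_conjM (inv_mem hc.1) hu
  have e1 : c⁻¹ * (c * u * c⁻¹) * c⁻¹⁻¹ = u := by group
  rwa [e1] at this

theorem UG_le_T' [Finite F] (b : Base T T' L L' A A' U U' π π' e f g e' f' g') : UG A U ≤ T' :=
  (UG_le_o2 b).trans b.OT'

theorem UG_T (b : Base T T' L L' A A' U U' π π' e f g e' f' g') : ∀ t ∈ T, ∀ u ∈ UG A U, t * u * t⁻¹ ∈ UG A U :=
  fun t ht _ hu => UG_conj (fun a ha => b.p.s.r.Vn t (b.p.s.SP ht) a ha)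
    (fun _ hm => conj_cent (fun u hu => by
      have := b.p.s.r.Dn t⁻¹ (inv_mem (b.p.s.SP ht)) u hu
      rwa [inv_inv] at this) hm) hu

/-- every element of `UU` acts on `A'` as some element of `A` -/
theorem exists_s [Finite F] (b : Base T T' L L' A A' U U' π π' e f g e' f' g') {u : G} (hu : u ∈ UG A U) :
    ∃ a ∈ A, ∀ v ∈ A', u * v * u⁻¹ = a * v * a⁻¹ := by
  obtain ⟨t, ht⟩ := Cfsg.Agent.Omega.HOne.NSDat.act_of b.p.symm (UG_le_T' b hu) (fun z => by
    obtain ⟨y, hy⟩ := b.c2 z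
    rw [hy]
    exact ab b _ hu _ (U_le b (b.p.φ.gD y)))
  obtain ⟨a, ha, hal⟩ := b.p.s'.full (t ^ 2)
  exact ⟨a, ha, fun v hv => by rw [ht v hv, b.p.φ'.act t a hal v hv]⟩

end base

section abs

/-- elementwise criterion for normalising -/
theorem le_norm_of {T K : Subgroup G} (h : ∀ t ∈ T, ∀ k ∈ K, t * k * t⁻¹ ∈ K) : T ≤ normalizer (K : Set G) := by
  intro t ht
  rw [mem_normalizer_iff]
  intro k
  refine ⟨h t ht k, fun hk => ?_⟩
  have := h t⁻¹ (inv_mem ht) _ hk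
  have e1 : t⁻¹ * (t * k * t⁻¹) * t⁻¹⁻¹ = k := by group
  rwa [e1] at this

/-- `x = k t`, `k ∈ C`, `t` in the Sylow group `T₁` of `H` -/
theorem exists_fac [Finite G] {H T₁ D C : Subgroup G} (hT : IsPGroup 2 T₁)
    (hs : ¬ 2 ∣ T₁.relIndex H) (hDH : D ≤ H) (hD : H ≤ normalizer (D : Set G))
    (hC : H ≤ normalizer (C : Set G)) (h : ∀ x ∈ D, x * x ∈ C) {x : G} (hx : x ∈ D) :
    ∃ k ∈ C, ∃ t ∈ T₁, t ∈ D ∧ x = k * t := by
  have hf : Fact (Nat.Prime 2) := ⟨Nat.prime_two⟩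
  have h1 : IsPGroup 2 (T₁.subgroupOf H) := hT.comap_of_injective _ H.subtype_injective
  have hn : (D.subgroupOf H).Normal := normal_subgroupOf_of_le_normalizer hD
  have hn2 : (C.subgroupOf H).Normal := normal_subgroupOf_of_le_normalizer hC
  have h2 := Lib.SylowNormalInf.le_sup_inf (h1.toSylow hs : Sylow 2 H) (D.subgroupOf H) (C.subgroupOf H)
    (fun y hy => ⟨1, by
      rw [pow_one, pow_two]
      exact h y hy⟩)
  have h3 : (⟨x, hDH hx⟩ : H) ∈ C.subgroupOf H ⊔ ((h1.toSylow hs : Sylow 2 H) : Subgroup H) ⊓ D.subgroupOf H :=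
    h2 hx
  rw [mem_sup_of_normal_left] at h3
  obtain ⟨k, hk, t, ht, hkt⟩ := h3
  exact ⟨k, hk, t, ht.1, ht.2, (congrArg Subtype.val hkt).symm⟩

/-- index at most 2 -/
theorem inv_mul_mem [Finite G] {T X : Subgroup G} (hTX : T ≤ X) (hc : Nat.card X ≤ 2 * Nat.card T)
    {a b : G} (ha : a ∈ X) (hb : b ∈ X) (ha' : a ∉ T) (hb' : b ∉ T) : a⁻¹ * b ∈ T := by
  have h1 := Half.card_mul_relIndex hTX
  have h0 : 0 < Nat.card T := Nat.card_pos
  have h2 : T.relIndex X ≤ 2 := by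
    rw [← h1, mul_comm] at hc
    exact Nat.le_of_mul_le_mul_right hc h0
  have h3 : T.relIndex X ≠ 0 := fun h => by
    rw [h, mul_zero] at h1
    exact Nat.card_pos.ne h1
  have h4 : T.relIndex X ≠ 1 := fun h => ha' (relIndex_eq_one.1 h ha)
  have h5 : (T.subgroupOf X).index = 2 := by
    change T.relIndex X = 2
    omega
  have h6 := Subgroup.mul_mem_iff_of_index_two h5 (a := (⟨a, ha⟩ : X)⁻¹) (b := ⟨b, hb⟩)
  have h7 : ((⟨a, ha⟩ : X)⁻¹ ∈ T.subgroupOf X ↔ (⟨b, hb⟩ : X) ∈ T.subgroupOf X) := by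
    rw [inv_mem_iff]
    exact ⟨fun h => absurd h ha', fun h => absurd h hb'⟩
  exact h6.2 h7

end abs

/-- `{x ∈ C_G(U) : [UU, x] ≤ U}` -/
def XX (A U : Subgroup G) : Subgroup G where
  carrier := {x | x ∈ centralizer (U : Set G) ∧ ∀ u ∈ UG A U, br x u ∈ U}
  one_mem' := ⟨one_mem _, fun u _ => by
    have : br (1 : G) u = 1 := by unfold br; group
    rw [this]; exact one_mem _⟩
  mul_mem' := by
    rintro x y ⟨hx, hxU⟩ ⟨hy, hyU⟩
    refine ⟨mul_mem hx hy, fun u hu => ?_⟩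
    have h1 : br (x * y) u = (x * br y u * x⁻¹) * br x u := by unfold br; group
    have h2 := mem_centralizer_iff.1 hx _ (hyU u hu)
    rw [h1, ← h2, mul_inv_cancel_right]
    exact mul_mem (hyU u hu) (hxU u hu)
  inv_mem' := by
    rintro x ⟨hx, hxU⟩
    refine ⟨inv_mem hx, fun u hu => ?_⟩
    have h0 := UG_conjM (inv_mem hx) hu
    rw [inv_inv] at h0
    have h1 : br x⁻¹ u = (br x (x⁻¹ * u * x))⁻¹ := by unfold br; group
    rw [h1]
    exact inv_mem (hxU _ h0)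

theorem mem_XX {A U : Subgroup G} {x : G} :
    x ∈ XX A U ↔ x ∈ centralizer (U : Set G) ∧ ∀ u ∈ UG A U, br x u ∈ U := Iff.rfl

theorem XX_conjM {A U : Subgroup G} {m x : G} (hm : m ∈ centralizer (U : Set G)) (hx : x ∈ XX A U) :
    m * x * m⁻¹ ∈ XX A U := by
  refine ⟨mul_mem (mul_mem hm hx.1) (inv_mem hm), fun u hu => ?_⟩
  have h0 := UG_conjM (inv_mem hm) hu
  rw [inv_inv] at h0
  have h1 : br (m * x * m⁻¹) u = m * br x (m⁻¹ * u * m) * m⁻¹ := by unfold br; group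
  have h2 := mem_centralizer_iff.1 hm _ (hx.2 _ h0)
  rw [h1, ← h2, mul_inv_cancel_right]
  exact hx.2 _ h0

section base2

variable {T T' L L' A A' U U' : Subgroup G} {π π' : G → Fin 2 → F} {e f g e' f' g' : F → G}

theorem XX_conjT (b : Base T T' L L' A A' U U' π π' e f g e' f' g') {t x : G} (ht : t ∈ T) (hx : x ∈ XX A U) :
    t * x * t⁻¹ ∈ XX A U := by
  have hL := b.p.s.SP ht
  refine ⟨conj_cent (fun u hu => ?_) hx.1, fun u hu => ?_⟩
  · have := b.p.s.r.Dn t⁻¹ (inv_mem hL) u hu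
    rwa [inv_inv] at this
  · have h0 := UG_T b t⁻¹ (inv_mem ht) u hu
    rw [inv_inv] at h0
    have h1 : br (t * x * t⁻¹) u = t * br x (t⁻¹ * u * t) * t⁻¹ := by unfold br; group
    rw [h1]
    exact b.p.s.r.Dn t hL _ (hx.2 _ h0)

theorem XX_A (b : Base T T' L L' A A' U U' π π' e f g e' f' g') {x : G} (hx : x ∈ XX A U) :
    ∀ u ∈ A, x * u * x⁻¹ ∈ A := fun u hu => by
  rw [br_mul_self]
  exact mul_mem (b.p.s.r.DV (hx.2 u (UG_self hu))) hu

theorem eq_fg (b : Base T T' L L' A A' U U' π π' e f g e' f' g') {v : G} (hv : v ∈ A) {z : F} (h : π v = ![z, 0]) :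
    ∃ c, v = f z * g c := by
  have r := b.p.s.r
  have h1 : (f z)⁻¹ * v ∈ U := (r.ker _ (mul_mem (inv_mem (b.p.φ.fV _)) hv)).1 (by
    rw [r.mul _ (inv_mem (b.p.φ.fV _)) _ hv, r.map_inv (b.p.φ.fV _), b.p.φ.fπ, h, neg_add_cancel])
  obtain ⟨c, hc⟩ := (mem_U b).1 h1
  exact ⟨c, by rw [← hc]; group⟩

/-- **(6) on `A`** -/
theorem cent_A [Finite G] (b : Base T T' L L' A A' U U' π π' e f g e' f' g') {x : G} (hx : x ∈ XX A U) :
    ∀ v ∈ A, br x v = 1 := by
  have r := b.p.s.r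
  have φ := b.p.φ
  by_contra hne
  push Not at hne
  obtain ⟨v0, hv0, hv01⟩ := hne
  -- the group `XX T`
  obtain ⟨T₁, hTT, hTH, hT2, hTs⟩ := Half.exists_sylow_le (So := T) (H := XX A U ⊔ T) b.T2 le_sup_right
  have hcard := b.two T₁ hT2 hTT
  have hn1 : XX A U ⊔ T ≤ normalizer (XX A U : Set G) :=
    sup_le le_normalizer (le_norm_of fun t ht k hk => XX_conjT b ht hk)
  have hn2 : XX A U ⊔ T ≤ normalizer (centralizer (A : Set G) : Set G) := by
    refine sup_le (le_norm_of fun t ht k hk => conj_cent (fun u hu => ?_) hk)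
      (le_norm_of fun t ht k hk => conj_cent (fun u hu => ?_) hk)
    · have := XX_A b (inv_mem ht) u hu
      rwa [inv_inv] at this
    · have := r.Vn t⁻¹ (inv_mem (b.p.s.SP ht)) u hu
      rwa [inv_inv] at this
  have hsq : ∀ y ∈ XX A U, y * y ∈ centralizer (A : Set G) := by
    intro y hy
    rw [mem_centralizer_iff]
    intro u hu
    have hyU := hy.2 u (UG_self hu)
    have h1 : y * (y * u * y⁻¹) * y⁻¹ = u := by
      rw [br_mul_self y u]
      have h2 := mem_centralizer_iff.1 hy.1 _ hyU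
      calc y * (br y u * u) * y⁻¹ = (y * br y u) * (u * y⁻¹) := by group
        _ = (br y u * y) * (u * y⁻¹) := by rw [h2]
        _ = br y u * (y * u * y⁻¹) := by group
        _ = (br y u * br y u) * u := by rw [br_mul_self y u]; group
        _ = u := by rw [r.Vs _ (r.DV hyU), one_mul]
    calc u * (y * y) = (y * (y * u * y⁻¹) * y⁻¹) * (y * y) := by rw [h1]
      _ = y * y * u := by group
  -- elements of `T` in `XX` centralise `A`
  have hTc : ∀ t ∈ T, t ∈ XX A U → t ∈ centralizer (A : Set G) := by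
    intro t ht htX
    rw [mem_centralizer_iff]
    intro v hv
    refine (b.p.s.sec t ht (fun w hw => ?_) v hv).symm
    have h1 := htX.2 w (UG_self hw)
    rw [br_mul_self, r.mul _ (r.DV h1) _ hw, (r.ker _ (r.DV h1)).2 h1, zero_add]
  -- two elements of `XX` acting nontrivially on `A` act in the same way
  have key : ∀ y ∈ XX A U, (∃ v ∈ A, br y v ≠ 1) → ∀ v ∈ A, br y v = br x v := by
    intro y hy hyn v hv
    obtain ⟨k, hk, t, ht, htX, hxe⟩ := exists_fac hT2 hTs le_sup_left hn1 hn2 hsq hx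
    obtain ⟨k', hk', t', ht', htX', hye⟩ := exists_fac hT2 hTs le_sup_left hn1 hn2 hsq hy
    have hk1 := mem_centralizer_iff.1 hk
    have hk1' := mem_centralizer_iff.1 hk'
    have hact : ∀ v ∈ A, x * v * x⁻¹ = t * v * t⁻¹ := by
      intro v hv
      have h1 := hk1 _ (XX_A b htX v hv)
      calc x * v * x⁻¹ = k * (t * v * t⁻¹) * k⁻¹ := by rw [hxe]; group
        _ = t * v * t⁻¹ := by rw [← h1, mul_inv_cancel_right]
    have hact' : ∀ v ∈ A, y * v * y⁻¹ = t' * v * t'⁻¹ := by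
      intro v hv
      have h1 := hk1' _ (XX_A b htX' v hv)
      calc y * v * y⁻¹ = k' * (t' * v * t'⁻¹) * k'⁻¹ := by rw [hye]; group
        _ = t' * v * t'⁻¹ := by rw [← h1, mul_inv_cancel_right]
    have htT : t ∉ T := by
      intro h
      apply hv01
      have h1 := mem_centralizer_iff.1 (hTc t h htX) v0 hv0
      unfold br
      rw [hact v0 hv0, ← h1, mul_inv_cancel_right, mul_inv_cancel]
    have htT' : t' ∉ T := by
      intro h
      obtain ⟨w, hw, hw1⟩ := hyn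
      apply hw1
      have h1 := mem_centralizer_iff.1 (hTc t' h htX') w hw
      unfold br
      rw [hact' w hw, ← h1, mul_inv_cancel_right, mul_inv_cancel]
    have h1 := inv_mul_mem hTT hcard ht ht' htT htT'
    have h2 := mem_centralizer_iff.1 (hTc _ h1 (mul_mem (inv_mem htX) htX')) v hv
    have h3 : t' * v * t'⁻¹ = t * v * t⁻¹ := by
      calc t' * v * t'⁻¹ = t * (t⁻¹ * t' * v) * t'⁻¹ := by group
        _ = t * (v * (t⁻¹ * t')) * t'⁻¹ := by rw [h2]
        _ = _ := by group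
    unfold br
    rw [hact v hv, hact' v hv, h3]
  -- equivariance
  have heq : ∀ y B, Is L A U π y B → ∀ v ∈ A, br x (y * v * y⁻¹) = br x v := by
    intro y B hy v hv
    have hyM : y ∈ centralizer (U : Set G) := mem_centralizer_iff.2 fun d hd => (hy.cen d hd).symm
    have hconj : ∀ w ∈ A, br (y⁻¹ * x * y) w = br x (y * w * y⁻¹) := by
      intro w hw
      have h1 : br (y⁻¹ * x * y) w = y⁻¹ * br x (y * w * y⁻¹) * y := by unfold br; group
      have h2 := hx.2 _ (UG_self (r.Vn y hy.mem w hw))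
      have h3 := hy.cen _ h2
      calc br (y⁻¹ * x * y) w = y⁻¹ * (br x (y * w * y⁻¹) * y) := by rw [h1]; group
        _ = y⁻¹ * (y * br x (y * w * y⁻¹)) := by rw [h3]
        _ = _ := by group
    have hxX : y⁻¹ * x * y ∈ XX A U := by
      have := XX_conjM (inv_mem hyM) hx
      rwa [inv_inv] at this
    rw [← hconj v hv]
    refine key _ hxX ⟨y⁻¹ * v0 * y, ?_, ?_⟩ v hv
    · have := r.Vn y⁻¹ (inv_mem hy.mem) v0 hv0
      rwa [inv_inv] at this
    · have h1 : y⁻¹ * v0 * y ∈ A := by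
        have := r.Vn y⁻¹ (inv_mem hy.mem) v0 hv0
        rwa [inv_inv] at this
      rw [hconj _ h1]
      have e1 : y * (y⁻¹ * v0 * y) * y⁻¹ = v0 := by group
      rw [e1]
      exact hv01
  have hmul : ∀ u ∈ A, ∀ v ∈ A, br x (u * v) = br x u * br x v := fun u hu v hv =>
    br_mul r.Vc (XX_A b hx) hu hv
  have hg : ∀ z, br x (g z) = 1 := by
    intro z
    have := mem_centralizer_iff.1 hx.1 _ (φ.gD z)
    unfold br
    rw [← this, mul_inv_cancel_right, mul_inv_cancel]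
  have gA : ∀ z, g z ∈ A := fun z => φ.gV r z
  have he : ∀ z, br x (e z) = 1 := by
    intro z
    obtain ⟨y, hy⟩ := r.is_lift (lo ((1 : F) ^ 2))
    have h1 := φ.act 1 y hy (f z) (φ.fV z)
    have h2 := heq y _ hy (f z) (φ.fV z)
    rw [φ.fπ] at h1
    simp only [Matrix.cons_val_zero, one_pow, one_mul] at h1
    rw [h1, hmul _ (mul_mem (φ.eV z) (gA z)) _ (φ.fV z), hmul _ (φ.eV z) _ (gA z), hg, mul_one] at h2
    exact mul_eq_right.1 h2
  have hf : ∀ z, br x (f z) = 1 := by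
    intro z
    obtain ⟨n, hn⟩ := r.is_lift (wm (1 : F) one_ne_zero)
    have h1 := hn.act (e z) (φ.eV z)
    rw [φ.eπ, ap_wm] at h1
    obtain ⟨c, hc⟩ := eq_fg b (r.Vn n hn.mem _ (φ.eV z)) (z := z) (by rw [h1]; simp)
    have h2 := heq n _ hn (e z) (φ.eV z)
    rw [hc, hmul _ (φ.fV z) _ (gA c), hg, mul_one, he] at h2
    exact h2
  obtain ⟨a, c, y, hv⟩ := (φ.mN v0).1 hv0
  apply hv01
  rw [hv, hmul _ (mul_mem (φ.eV a) (φ.fV c)) _ (gA y), hmul _ (φ.eV a) _ (φ.fV c), he, hf, hg]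
  simp

/-- **(6)** -/
theorem hO2 [Finite G] (b : Base T T' L L' A A' U U' π π' e f g e' f' g') :
    ∀ x ∈ centralizer (U : Set G), (∀ u ∈ UG A U, br x u ∈ U) → ∀ u ∈ UG A U, br x u = 1 := by
  intro x hx h u hu
  have h1 : UG A U ≤ centralizer ({x} : Set G) := UG_le fun m hm a ha => by
    rw [mem_centralizer_iff]
    intro y hy
    rw [Set.mem_singleton_iff.1 hy]
    have h2 : m⁻¹ * x * m ∈ XX A U := by
      have := XX_conjM (inv_mem hm) (show x ∈ XX A U from ⟨hx, h⟩)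
      rwa [inv_inv] at this
    have h3 := cent_A b h2 a ha
    unfold br at h3
    have h4 : m⁻¹ * x * m * a = a * (m⁻¹ * x * m) := by
      rw [mul_inv_eq_one] at h3
      exact mul_inv_eq_iff_eq_mul.1 h3
    calc x * (m * a * m⁻¹) = m * (m⁻¹ * x * m * a) * m⁻¹ := by group
      _ = m * (a * (m⁻¹ * x * m)) * m⁻¹ := by rw [h4]
      _ = _ := by group
  have h2 := mem_centralizer_iff.1 (h1 hu) x rfl
  unfold br
  rw [h2, mul_inv_cancel_right, mul_inv_cancel]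

end base2

section seven

variable {T T' L L' A A' U U' : Subgroup G} {π π' : G → Fin 2 → F} {e f g e' f' g' : F → G}

/-- elements of `CC` commute with `C_A(A') = e(F) U` -/
theorem cc_comm [Finite F] (b : Base T T' L L' A A' U U' π π' e f g e' f' g') {c : G} (hc : c ∈ CC U U')
    {u : G} (hu : u ∈ A) (h0 : π u 0 = 0) : c * u = u * c := by
  have r := b.p.s.r
  have φ := b.p.φ
  have h1 : (e (π u 1))⁻¹ * u ∈ U := (r.ker _ (mul_mem (inv_mem (φ.eV _)) hu)).1 (by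
    rw [r.mul _ (inv_mem (φ.eV _)) _ hu, r.map_inv (φ.eV _), φ.eπ]
    apply Cfsg.Agent.Omega.NatPair.ext2
    · simp [h0]
    · simp)
  have h2 := mem_centralizer_iff.1 hc.1 _ h1
  have h3 := mem_centralizer_iff.1 hc.2 _ ((mem_U' b).2 ⟨π u 1, rfl⟩)
  calc c * u = (c * e (π u 1)) * ((e (π u 1))⁻¹ * u) := by group
    _ = e (π u 1) * (c * ((e (π u 1))⁻¹ * u)) := by rw [← h3]; group
    _ = e (π u 1) * ((e (π u 1))⁻¹ * u * c) := by rw [← h2]
    _ = _ := by group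

/-- THEOREM NS (5) -/
theorem exists_ne [Finite G] [Finite F] (b : Base T T' L L' A A' U U' π π' e f g e' f' g') {s : G → F}
    (hs : ∀ u ∈ UG A U, ∀ v ∈ UG A U, s (u * v) = s u + s v) (hsA : ∀ a ∈ A, s a = π a 0)
    (hact : ∀ t, ∀ n ∈ A', Is L A U π n (lo (t ^ 2)) → ∀ u ∈ UG A U, n * u * n⁻¹ = e (t ^ 2 * s u) * g (t * s u) * u)
    {c : G} (hc : c ∈ CC U U') : ∃ u ∈ A, s (c * u * c⁻¹) ≠ 0 := by
  have r := b.p.s.r
  have φ := b.p.φ
  have : CharP F 2 := CharTwo.of_one_ne_zero_of_two_eq_zero one_ne_zero r.two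
  by_contra hcon
  push Not at hcon
  obtain ⟨n, hn⟩ := r.is_lift (wm (1 : F) one_ne_zero)
  choose nn hnn hnI using fun t : F => b.p.s.full (t ^ 2)
  have hnM : n ∈ centralizer (U : Set G) := mem_centralizer_iff.2 fun d hd => (hn.cen d hd).symm
  refine claim (A := UG A U) (U := U) (R := A ⊓ centralizer (A' : Set G)) (N := A) (M := centralizer (U : Set G))
    (ab b) (fun x hx u hu => UG_conjM hx hu) (fun x hx u hu => (mem_centralizer_iff.1 hx u hu).symm) ?_ inf_le_left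
    UG_self (hO2 b) hs ?_ (e := e) (f := fun x => n * e x * n⁻¹) (g := g) ?_ φ.gD ?_ φ.e_add φ.g_add b.g1 ?_ (nn := nn)
    ?_ ?_ (c := c) (n := n) hc.1 ?_ (fun x => rfl) ?_ ?_ b.p.ω hcon
  · intro u hu
    refine ⟨r.DV hu, mem_centralizer_iff.2 ((b.p.s.cen u (r.DV hu)).2 ?_)⟩
    rw [(r.ker u (r.DV hu)).2 hu]; rfl
  · rintro u ⟨hu, huc⟩
    rw [hsA u hu]
    exact (b.p.s.cen u hu).1 (mem_centralizer_iff.1 huc)
  · intro x
    refine ⟨φ.eV x, mem_centralizer_iff.2 ((b.p.s.cen _ (φ.eV x)).2 ?_)⟩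
    rw [φ.eπ]; rfl
  · intro x
    exact r.Vn n hn.mem _ (φ.eV x)
  · intro x
    rw [hsA _ (r.Vn n hn.mem _ (φ.eV x)), hn.act _ (φ.eV x), φ.eπ, ap_wm]
    simp
  · intro t
    exact mem_centralizer_iff.2 fun d hd => ((hnI t).cen d hd).symm
  · intro t u hu
    unfold br
    rw [hact t _ (hnn t) (hnI t) u hu, mul_inv_cancel_right, mul_comm (s u), mul_comm (s u)]
  · rintro u ⟨hu, huc⟩
    exact cc_comm b hc hu ((b.p.s.cen u hu).1 (mem_centralizer_iff.1 huc))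
  · exact mul_mem (mul_mem hc.1 hnM) (inv_mem hc.1)
  · intro u hu
    have := r.Vn n⁻¹ (inv_mem hn.mem) u hu
    rwa [inv_inv] at this

end seven

end Cfsg.Agent.Omega.IId.Ns.CoreOf

namespace Cfsg.Agent.Omega.IId.Ns

open Subgroup Cfsg Cfsg.Agent.Lib.SL2Mat Cfsg.Agent.Omega.HOne.NSMod Cfsg.Agent.Omega.HOne.NSSide
open Cfsg.Agent.Omega.HOne.NSPair
open Cfsg.Agent.ZN (zc o2)
open Cfsg.Agent.MinSimple.VModule (le_normalizer_o2)

universe u

variable {G : Type u} [Group G] {F : Type} [Field F]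
variable {T T' L L' A A' U U' : Subgroup G} {π π' : G → Fin 2 → F} {e f g e' f' g' : F → G}

/-- **(4)-(7)** -/
theorem Base.exists_core [Finite G] [Finite F] (b : Base T T' L L' A A' U U' π π' e f g e' f' g') :
    ∃ s : G → F, Core T L A A' U U' π e g s := by
  classical
  have r := b.p.s.r
  have r' := b.p.s'.r
  have φ := b.p.φ
  let s : G → F := fun u => if h : u ∈ UG A U then π (CoreOf.exists_s b h).choose 0 else 0
  have hss : ∀ u ∈ UG A U, ∀ a ∈ A, (∀ v ∈ A', u * v * u⁻¹ = a * v * a⁻¹) → s u = π a 0 := by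
    intro u hu a ha h
    have h0 : s u = π (CoreOf.exists_s b hu).choose 0 := dif_pos hu
    obtain ⟨h1, h2⟩ := (CoreOf.exists_s b hu).choose_spec
    rw [h0]
    obtain ⟨a0, ha0⟩ : ∃ a0, a0 = (CoreOf.exists_s b hu).choose := ⟨_, rfl⟩
    rw [← ha0] at h1 h2 ⊢
    have h3 : π (a0⁻¹ * a) 0 = 0 := (b.p.s.cen _ (mul_mem (inv_mem h1) ha)).1 fun v hv => by
      have h4 : a * v * a⁻¹ = a0 * v * a0⁻¹ := by rw [← h v hv, h2 v hv]
      calc v * (a0⁻¹ * a) = a0⁻¹ * (a0 * v * a0⁻¹) * a := by group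
        _ = a0⁻¹ * (a * v * a⁻¹) * a := by rw [h4]
        _ = _ := by group
    rw [r.mul _ (inv_mem h1) _ ha, r.map_inv h1] at h3
    have h5 : - π a0 0 + π a 0 = 0 := h3
    exact (neg_add_eq_zero.1 h5)
  have hex : ∀ u ∈ UG A U, ∃ a ∈ A, (∀ v ∈ A', u * v * u⁻¹ = a * v * a⁻¹) ∧ s u = π a 0 := by
    intro u hu
    obtain ⟨a, ha, h⟩ := CoreOf.exists_s b hu
    exact ⟨a, ha, h, hss u hu a ha h⟩
  have s_add : ∀ u ∈ UG A U, ∀ v ∈ UG A U, s (u * v) = s u + s v := by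
    intro u hu v hv
    obtain ⟨a, ha, h1, h2⟩ := hex u hu
    obtain ⟨c, hc, h3, h4⟩ := hex v hv
    rw [h2, h4, hss (u * v) (mul_mem hu hv) (a * c) (mul_mem ha hc) fun w hw => ?_, r.mul a ha c hc]
    · rfl
    · have h5 : c * w * c⁻¹ ∈ A' := r'.Vn c (b.p.s'.SP (b.p.s'.AS hc)) w hw
      calc u * v * w * (u * v)⁻¹ = u * (v * w * v⁻¹) * u⁻¹ := by group
        _ = a * (c * w * c⁻¹) * a⁻¹ := by rw [h3 w hw, h1 _ h5]
        _ = _ := by group
  have s_A : ∀ a ∈ A, s a = π a 0 := fun a ha => hss a (CoreOf.UG_self ha) a ha fun _ _ => rfl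
  have s_act : ∀ t, ∀ n ∈ A', Is L A U π n (lo (t ^ 2)) → ∀ u ∈ UG A U,
      n * u * n⁻¹ = e (t ^ 2 * s u) * g (t * s u) * u := by
    intro t n hn hnI u hu
    obtain ⟨a, ha, h1, h2⟩ := hex u hu
    have h3 := φ.act t n hnI a ha
    rw [h2]
    have h4 : u * n⁻¹ * u⁻¹ = a * n⁻¹ * a⁻¹ := h1 _ (inv_mem hn)
    calc n * u * n⁻¹ = n * (u * n⁻¹ * u⁻¹) * u := by group
      _ = n * a * n⁻¹ * a⁻¹ * u := by rw [h4]; group
      _ = _ := by rw [h3, mul_inv_cancel_right]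
  refine ⟨s, CoreOf.ab b, CoreOf.sq b, CoreOf.UG_self, CoreOf.UG_le_o2 b, fun m hm u hu => CoreOf.UG_conjM hm hu,
    CoreOf.UG_T b, s_add, s_A, s_act, ?_⟩
  intro c hc a ha
  obtain ⟨u, hu, hu0⟩ := CoreOf.exists_ne b s_add s_A s_act hc
  obtain ⟨n, hn, hnI⟩ := b.p.s.full ((1 : F) ^ 2)
  -- `c⁻¹ n c` acts on `A` with a parameter `τ`
  have hcU : ∀ z, c * g z = g z * c := fun z => (mem_centralizer_iff.1 hc.1 _ (φ.gD z)).symm
  have hcE : ∀ z, c * e z = e z * c := fun z => (mem_centralizer_iff.1 hc.2 _ ((CoreOf.mem_U' b).2 ⟨z, rfl⟩)).symm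
  have hnT : c⁻¹ * n * c ∈ T := by
    refine b.OT ?_
    have h1 := CoreOf.UG_le_o2 b.symm (CoreOf.UG_self hn)
    have h2 : n ∈ o2 (CC U U') := by rw [CC, inf_comm]; exact h1
    have h3 := (mem_normalizer_iff.1 (le_normalizer_o2 (CC U U') (inv_mem hc)) n).1 h2
    rwa [inv_inv] at h3
  have hnE : ∀ z, c⁻¹ * n * c * e z = e z * (c⁻¹ * n * c) := by
    intro z
    have h1 : n * e z = e z * n := ((b.p.s.cen _ (φ.eV z)).2 (by rw [φ.eπ]; rfl)) n hn
    calc c⁻¹ * n * c * e z = c⁻¹ * n * (c * e z) := by group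
      _ = c⁻¹ * (n * e z) * c := by rw [hcE]; group
      _ = c⁻¹ * (e z * n) * c := by rw [h1]
      _ = c⁻¹ * (e z * c) * (c⁻¹ * n * c) := by group
      _ = c⁻¹ * (c * e z) * (c⁻¹ * n * c) := by rw [hcE]
      _ = _ := by group
  obtain ⟨τ, hτ⟩ := Cfsg.Agent.Omega.HOne.NSDat.act_of b.p hnT hnE
  have hkey : ∀ v ∈ A, s (c * v * c⁻¹) = τ ^ 2 * π v 0 ∧ s (c * v * c⁻¹) = τ * π v 0 := by
    intro v hv
    have h1 := s_act 1 n hn hnI (c * v * c⁻¹) (CoreOf.UG_conjM hc.1 (CoreOf.UG_self hv))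
    have h2 := hτ v hv
    simp only [one_pow, one_mul] at h1
    have h3 : e (s (c * v * c⁻¹)) * g (s (c * v * c⁻¹)) = e (τ ^ 2 * π v 0) * g (τ * π v 0) := by
      have h4 : c⁻¹ * n * c * v * (c⁻¹ * n * c)⁻¹ * v⁻¹ = c⁻¹ * (n * (c * v * c⁻¹) * n⁻¹ * (c * v * c⁻¹)⁻¹) * c := by
        group
      rw [h2, h1, mul_inv_cancel_right, mul_inv_cancel_right] at h4
      rw [h4]
      calc _ = c⁻¹ * (c * e (s (c * v * c⁻¹)) * g (s (c * v * c⁻¹))) := by group
        _ = c⁻¹ * (e (s (c * v * c⁻¹)) * (c * g (s (c * v * c⁻¹)))) := by rw [hcE]; group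
        _ = _ := by rw [hcU]; group
    obtain ⟨h5, h6⟩ := φ.eg_inj r h3
    refine ⟨h5, ?_⟩
    have h7 : g (s (c * v * c⁻¹) - τ * π v 0) = 1 := by
      have h8 := φ.g_add (s (c * v * c⁻¹) - τ * π v 0) (τ * π v 0)
      rw [sub_add_cancel, h6] at h8
      exact right_eq_mul.1 h8
    exact sub_eq_zero.1 (b.g1 _ h7)
  obtain ⟨h1, h2⟩ := hkey u hu
  have hτ1 : τ = 1 := by
    have h3 : τ * π u 0 ≠ 0 := h2 ▸ hu0
    have h4 : τ * (τ * π u 0) = 1 * (τ * π u 0) := by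
      rw [one_mul, ← mul_assoc, ← pow_two, ← h1, h2]
    exact mul_right_cancel₀ h3 h4
  have h5 := (hkey a ha).2
  rw [hτ1, one_mul] at h5
  exact h5

end Cfsg.Agent.Omega.IId.Ns

end

section


/-!
# II.d, `k = 2`, nonsplit: LEMMA X (5)

`lemX` : `T < S` 2-groups, `s ∈ S` normalises `T`, all 2-groups over `T` have order at most `2|T|`, the 2-group `O` is
normalised by `T`, not contained in `T` and centralises `a` and `s a s⁻¹`, `T` and `s²` centralise `a`: then `s a s⁻¹ = a`.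

`o2_CC_le` : `O₂(CC U U') ≤ T`, from `s e(F) s⁻¹ ≤ Ω₁ Z(O₂(N_G(U U')))`.
`o2_CC_le_of_sylow` : the same if `T` is a Sylow 2-subgroup of `G`.
-/

set_option autoImplicit false
set_option linter.unusedSectionVars false

namespace Cfsg.Agent.Omega.IId.Ns.LemX

open Subgroup Cfsg
open Cfsg.Agent.ZN (zc o2)
open Cfsg.Agent.MinSimple.VModule (mem_zc zc_le zc_sq o2_le o2_isPGroup le_normalizer_o2 le_o2)
open Cfsg.Agent.Omega.HOne.NSMod Cfsg.Agent.Omega.HOne.NSSide Cfsg.Agent.Omega.HOne.NSPair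
open Cfsg.Agent.Omega.IId.Ns.CoreOf (le_norm_of conj_cent centralizer_le_norm)

universe u

variable {G : Type u} [Group G] {F : Type} [Field F]

/-- `T O` is a 2-group -/
theorem isPGroup_sup {T O : Subgroup G} (hT : IsPGroup 2 T) (hO : IsPGroup 2 O) (hn : T ≤ normalizer (O : Set G)) :
    IsPGroup 2 (T ⊔ O : Subgroup G) := hT.to_sup_of_normal_right' hO hn

/-- A 2-subgroup of `C` is conjugate in `C` into a Sylow 2-subgroup of `C`. -/
theorem exists_conj_le [Finite G] {C S X : Subgroup G} (hX : X ≤ C) (hSp : IsPGroup 2 S)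
    (hXp : IsPGroup 2 X) (hidx : ¬ 2 ∣ S.relIndex C) : ∃ c ∈ C, ∀ x ∈ X, c * x * c⁻¹ ∈ S := by
  have : Fact (Nat.Prime 2) := ⟨Nat.prime_two⟩
  have hS' : IsPGroup 2 (S.subgroupOf C) := hSp.comap_of_injective C.subtype Subtype.val_injective
  have hX' : IsPGroup 2 (X.subgroupOf C) := hXp.comap_of_injective C.subtype Subtype.val_injective
  obtain ⟨Q, hQ⟩ := hX'.exists_le_sylow
  obtain ⟨c, hc⟩ := MulAction.exists_smul_eq C Q (hS'.toSylow hidx)
  refine ⟨c, c.2, ?_⟩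
  intro y hy
  have h1 : (⟨y, hX hy⟩ : C) ∈ (Q : Subgroup C) := hQ (Subgroup.mem_subgroupOf.2 hy)
  have h2 : c * ⟨y, hX hy⟩ * c⁻¹ ∈ ((c • Q : Sylow 2 C) : Subgroup C) := by
    have : c * ⟨y, hX hy⟩ * c⁻¹ = (MulAut.conj c) • (⟨y, hX hy⟩ : C) := rfl
    rw [this]
    exact Subgroup.smul_mem_pointwise_smul _ _ _ h1
  rw [hc] at h2
  exact Subgroup.mem_subgroupOf.1 h2

/-- **LEMMA X** -/
theorem lemX [Finite G] {S T O : Subgroup G} {s a : G} (hS : IsPGroup 2 S) (hTS : T ≤ S) (hs : s ∈ S)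
    (hsT : ∀ t ∈ T, s⁻¹ * t * s ∈ T)
    (two : ∀ X : Subgroup G, IsPGroup 2 X → T ≤ X → Nat.card X ≤ 2 * Nat.card T)
    (hO : IsPGroup 2 O) (hTO : T ≤ normalizer (O : Set G)) (hne : ¬ O ≤ T)
    (haT : ∀ t ∈ T, t * a = a * t) (has : s * s * a = a * (s * s))
    (haO : ∀ w ∈ O, w * a = a * w) (hsaO : ∀ w ∈ O, w * (s * a * s⁻¹) = s * a * s⁻¹ * w) : s * a * s⁻¹ = a := by
  have hT : IsPGroup 2 T := hS.to_le hTS
  -- `K = C(a) ∩ C(s a s⁻¹)`
  obtain ⟨K, hK⟩ : ∃ K : Subgroup G, ∀ x, x ∈ K ↔ x * a = a * x ∧ x * (s * a * s⁻¹) = s * a * s⁻¹ * x := by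
    refine ⟨centralizer {a} ⊓ centralizer {s * a * s⁻¹}, fun x => ?_⟩
    rw [mem_inf, mem_centralizer_iff, mem_centralizer_iff]
    constructor
    · rintro ⟨h1, h2⟩
      exact ⟨(h1 a rfl).symm, (h2 _ rfl).symm⟩
    · rintro ⟨h1, h2⟩
      refine ⟨fun y hy => ?_, fun y hy => ?_⟩
      · rw [Set.mem_singleton_iff.1 hy]; exact h1.symm
      · rw [Set.mem_singleton_iff.1 hy]; exact h2.symm
  have hTK : T ≤ K := fun t ht => (hK t).2 ⟨haT t ht, by
    have h1 := haT _ (hsT t ht)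
    calc t * (s * a * s⁻¹) = s * (s⁻¹ * t * s * a) * s⁻¹ := by group
      _ = s * (a * (s⁻¹ * t * s)) * s⁻¹ := by rw [h1]
      _ = _ := by group⟩
  have hOK : O ≤ K := fun w hw => (hK w).2 ⟨haO w hw, hsaO w hw⟩
  -- `s` normalises `K`
  have hsK : ∀ x ∈ K, s * x * s⁻¹ ∈ K := by
    intro x hx
    obtain ⟨h1, h2⟩ := (hK x).1 hx
    refine (hK _).2 ⟨?_, ?_⟩
    · have h3 : s⁻¹ * a * s = s * a * s⁻¹ := by
        calc s⁻¹ * a * s = s⁻¹ * (a * (s * s)) * s⁻¹ := by group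
          _ = s⁻¹ * (s * s * a) * s⁻¹ := by rw [has]
          _ = _ := by group
      calc s * x * s⁻¹ * a = s * (x * (s⁻¹ * a * s)) * s⁻¹ := by group
        _ = s * (s * a * s⁻¹ * x) * s⁻¹ := by rw [h3, h2]
        _ = s * (s⁻¹ * a * s * x) * s⁻¹ := by rw [h3]
        _ = _ := by group
    · calc s * x * s⁻¹ * (s * a * s⁻¹) = s * (x * a) * s⁻¹ := by group
        _ = s * (a * x) * s⁻¹ := by rw [h1]
        _ = _ := by group
  have hsK' : s ∈ normalizer (K : Set G) := MinSimple.VModule.mem_normalizer_of_map_le (by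
    rintro _ ⟨x, hx, rfl⟩
    exact hsK x hx)
  -- `W = T O` is a Sylow 2-subgroup of `H = ⟨S, O⟩`-type groups over `T`
  have hW2 := isPGroup_sup hT hO hTO
  have hWK : T ⊔ O ≤ K := sup_le hTK hOK
  have hcW : Nat.card (T ⊔ O : Subgroup G) = 2 * Nat.card T := by
    refine le_antisymm (two _ hW2 le_sup_left) ?_
    have h1 := Half.card_mul_relIndex (le_sup_left : T ≤ T ⊔ O)
    have h2 : T.relIndex (T ⊔ O) ≠ 1 := fun h => hne (le_sup_right.trans (relIndex_eq_one.1 h))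
    have h3 : T.relIndex (T ⊔ O) ≠ 0 := fun h => by
      rw [h, mul_zero] at h1
      exact Nat.card_pos.ne h1
    rw [← h1, mul_comm]
    exact Nat.mul_le_mul_left _ (by omega)
  let H : Subgroup G := (T ⊔ O) ⊔ zpowers s
  have hHK : H ≤ normalizer (K : Set G) := sup_le (hWK.trans le_normalizer) (by rwa [zpowers_le])
  obtain ⟨W₁, hWW, hWH, hW₁2, hW₁s⟩ := Half.exists_sylow_le (So := T ⊔ O) (H := H) hW2 le_sup_left
  have hWeq : T ⊔ O = W₁ := eq_of_le_of_card_ge hWW (by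
    rw [hcW]
    exact two _ hW₁2 (le_sup_left.trans hWW))
  have hsS : IsPGroup 2 (zpowers s) := hS.to_le (by rwa [zpowers_le])
  obtain ⟨c, hc, hcs⟩ := exists_conj_le (C := H) (S := W₁) (X := zpowers s) le_sup_right hW₁2 hsS
    hW₁s
  have h1 := hcs s (mem_zpowers s)
  rw [← hWeq] at h1
  have h2 := (mem_normalizer_iff.1 (hHK hc) s).2 (hWK h1)
  have h3 := ((hK s).1 h2).1
  rw [h3, mul_inv_cancel_right]

/-- `C_G(U) ∩ C_G(U') = C_G(U U')` -/
theorem CC_eq {U U' : Subgroup G} : CC U U' = centralizer ((U ⊔ U' : Subgroup G) : Set G) := by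
  apply le_antisymm
  · intro x hx
    have h1 : U ⊔ U' ≤ centralizer ({x} : Set G) := sup_le
      (fun u hu => mem_centralizer_iff.2 fun y hy => by
        rw [Set.mem_singleton_iff.1 hy]; exact (mem_centralizer_iff.1 hx.1 u hu).symm)
      (fun u hu => mem_centralizer_iff.2 fun y hy => by
        rw [Set.mem_singleton_iff.1 hy]; exact (mem_centralizer_iff.1 hx.2 u hu).symm)
    exact mem_centralizer_iff.2 fun u hu => (mem_centralizer_iff.1 (h1 hu) x rfl).symm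
  · exact le_inf (centralizer_le (le_sup_left : U ≤ U ⊔ U')) (centralizer_le (le_sup_right : U' ≤ U ⊔ U'))

theorem norm_o2 [Finite G] (L : Subgroup G) : normalizer (L : Set G) ≤ normalizer (o2 L : Set G) := by
  intro x hx
  refine Cfsg.Agent.ZN.ChoiceBase.mem_normalizer_of_cj_le ?_
  rw [← Cfsg.Agent.ZN.ChoiceBase.pCore_cj, Cfsg.Agent.ZN.ChoiceBase.cj_eq_of_mem_normalizer hx]

theorem norm_cent (R : Subgroup G) : normalizer (R : Set G) ≤ normalizer (centralizer (R : Set G) : Set G) :=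
  le_norm_of fun t ht k hk => conj_cent (fun u hu => by
    have := (mem_normalizer_iff.1 (inv_mem ht) u).1 hu
    rwa [inv_inv] at this) hk

theorem o2_CC_le_o2 [Finite G] {U U' : Subgroup G} : o2 (CC U U') ≤ o2 (normalizer ((U ⊔ U' : Subgroup G) : Set G)) := by
  rw [CC_eq]
  exact le_o2 ((o2_le _).trans (centralizer_le_norm _)) (o2_isPGroup _)
    ((norm_cent _).trans (norm_o2 _))

theorem norm_o2_CC [Finite G] {T U U' : Subgroup G} (h : T ≤ normalizer (U : Set G)) (h' : T ≤ normalizer (U' : Set G)) :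
    T ≤ normalizer (o2 (CC U U') : Set G) :=
  (Half.le_normalizer_inf (h.trans (norm_cent U)) (h'.trans (norm_cent U'))).trans (norm_o2 _)

/-- `T` a Sylow 2-subgroup -/
theorem o2_CC_le_of_sylow [Finite G] {T U U' : Subgroup G} (hT : IsPGroup 2 T)
    (hs : ∀ X : Subgroup G, IsPGroup 2 X → T ≤ X → X ≤ T)
    (h : T ≤ normalizer (U : Set G)) (h' : T ≤ normalizer (U' : Set G)) : o2 (CC U U') ≤ T :=
  le_sup_right.trans (hs _ (isPGroup_sup hT (o2_isPGroup _) (norm_o2_CC h h')) le_sup_left)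

/-- **LEMMA X (5)** -/
theorem o2_CC_le [Finite G] {S T U U' : Subgroup G} {s a : G} (hS : IsPGroup 2 S) (hTS : T ≤ S) (hs : s ∈ S)
    (hsT : ∀ t ∈ T, s⁻¹ * t * s ∈ T) (hss : s * s ∈ T)
    (two : ∀ X : Subgroup G, IsPGroup 2 X → T ≤ X → Nat.card X ≤ 2 * Nat.card T)
    (h : T ≤ normalizer (U : Set G)) (h' : T ≤ normalizer (U' : Set G))
    (ha : a ∈ U') (haT : ∀ t ∈ T, t * a = a * t)
    (hZ : s * a * s⁻¹ ∈ zc (o2 (normalizer ((U ⊔ U' : Subgroup G) : Set G)))) (hne : s * a * s⁻¹ ≠ a) :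
    o2 (CC U U') ≤ T := by
  by_contra hcon
  refine hne (lemX hS hTS hs hsT two (o2_isPGroup _) (norm_o2_CC h h') hcon haT (haT _ hss) ?_ ?_)
  · intro w hw
    exact (mem_centralizer_iff.1 (o2_le _ hw).2 a ha).symm
  · intro w hw
    exact (mem_zc.1 hZ).2.1 w (o2_CC_le_o2 hw)

section pair

variable {T T' L L' A A' U U' : Subgroup G} {π π' : G → Fin 2 → F} {e f g e' f' g' : F → G} {N N' : Subgroup G}

/-- an element of `e(F)` centralised by `T` -/
theorem exists_a [Finite G] [Finite F] (p : PairF T T' L L' A A' U U' π π' e f g e' f' g' N N')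
    (hg : ∀ y, g y = 1 → y = 0) (hT : IsPGroup 2 T) : ∃ z, z ≠ 0 ∧ ∀ t ∈ T, t * e z = e z * t := by
  have r := p.s.r
  let E : Subgroup G :=
    { carrier := {x | ∃ y, x = e y}
      one_mem' := ⟨0, p.φ.e0.symm⟩
      mul_mem' := by
        rintro _ _ ⟨y, rfl⟩ ⟨y', rfl⟩
        exact ⟨y + y', (p.φ.e_add y y').symm⟩
      inv_mem' := by
        rintro _ ⟨y, rfl⟩
        exact ⟨y, r.inv (p.φ.eV y)⟩ }
  have hE : IsPGroup 2 E := by
    rintro ⟨_, y, rfl⟩
    refine ⟨1, ?_⟩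
    apply Subtype.ext
    rw [pow_one, pow_two]
    exact r.Vs _ (p.φ.eV y)
  have hE1 : E ≠ ⊥ := by
    intro h
    have h1 : e 1 ∈ E := ⟨1, rfl⟩
    rw [h, mem_bot, ← p.φ.e0] at h1
    exact one_ne_zero (p.φ.e_inj r h1)
  obtain ⟨_, ⟨z, rfl⟩, hz, hzT⟩ := Half.exists_fixed hE hE1 hT (le_norm_of (by
    rintro t ht _ ⟨y, rfl⟩
    obtain ⟨y', hy'⟩ := p.norm_e hg ht y
    exact ⟨y', hy'⟩))
  refine ⟨z, ?_, fun t ht => mul_inv_eq_iff_eq_mul.1 (hzT t ht)⟩
  rintro rfl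
  exact hz p.φ.e0

/-- **LEMMA X for a pair** -/
theorem o2_CC_le_pair [Finite G] [Finite F] (p : PairF T T' L L' A A' U U' π π' e f g e' f' g' N N')
    (hg : ∀ y, g y = 1 → y = 0) (hU' : ∀ x, x ∈ U' ↔ ∃ z, x = e z) {S : Subgroup G} {s : G}
    (hS : IsPGroup 2 S) (hTS : T ≤ S) (hs : s ∈ S) (hsT : ∀ t ∈ T, s⁻¹ * t * s ∈ T) (hss : s * s ∈ T)
    (two : ∀ X : Subgroup G, IsPGroup 2 X → T ≤ X → Nat.card X ≤ 2 * Nat.card T)
    (hZ : ∀ z, s * e z * s⁻¹ ∈ zc (o2 (normalizer ((U ⊔ U' : Subgroup G) : Set G))))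
    (hne : ∀ z, z ≠ 0 → s * e z * s⁻¹ ≠ e z) : o2 (CC U U') ≤ T := by
  have hT : IsPGroup 2 T := hS.to_le hTS
  obtain ⟨z, hz, hzT⟩ := exists_a p hg hT
  refine o2_CC_le hS hTS hs hsT hss two (le_norm_of fun t ht u hu => p.s.r.Dn t (p.s.SP ht) u hu)
    (le_norm_of fun t ht u hu => ?_) ((hU' _).2 ⟨z, rfl⟩) hzT (hZ z) (hne z hz)
  obtain ⟨y, rfl⟩ := (hU' u).1 hu
  obtain ⟨y', hy'⟩ := p.norm_e hg ht y
  exact (hU' _).2 ⟨y', hy'⟩

end pair

end Cfsg.Agent.Omega.IId.Ns.LemX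

end
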