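import Cfsg.Agent.Mrg.Omega.IId.Ns.HFac
import Cfsg.Agent.Lib.GoldschmidtFusion
import Cfsg.Agent.Lib.ProductSet


/-!
# II.d, `k = 2`, nonsplit: (1) HALF*

`half_of_lifts` : `Tc M i ≤ H`, `H` contains for every `B` a lift of `one1 i B`, `C_H(O₂(H)) ≤ O₂(H)` ==>
`Nc M i ≤ Ω₁(Z(O₂(H)))`.
`half_Lc` : `Half (Lc M i) (Nc M i)`.
`exists_Ec` : `Ec M i` covers `Fc M i` modulo `C(V)`; `Uc_eq` : `Uc M i = C_{Nc M i}(Fc M i)`.
-/

set_option autoImplicit false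
set_option linter.unusedSectionVars false

namespace Cfsg.Agent.Omega.IId.Ns

open Subgroup Cfsg Cfsg.Agent.ZN Cfsg.Agent.Omega.MinPar
open Cfsg.Agent.Omega.FrameFF Cfsg.Agent.Omega.FFThm Cfsg.Agent.Lib.SL2Mat
open Cfsg.Agent.Omega.NatPair (ap ap_add ap_mul ap_one ap_inj ext2 ap_zero' ap_one' ap_inv_ap ap_ap_inv)
open Cfsg.Agent.Omega.HOne (cv_le conj_mem_zl conj_mem_cv)
open Cfsg.Agent.Omega.IId.Cv
open Cfsg.Agent.MinSimple.VModule (zc_comm zc_sq zc_le mem_zc le_normalizer_o2 normalizer_le_normalizer_zc zc_le_zl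
  o2_isPGroup o2_le mem_normalizer_of_map_le)

universe u

variable {G : Type u} [Group G] {F : Type} [Field F]

attribute [local instance] aqComm

theorem dg_e {ω : F} {h0 : ω ≠ 0} : ap (dg ω h0) ![1, 0] = ![ω, 0] := by
  apply ext2
  · rw [ap_zero']; simp
  · rw [ap_one']; simp

section gen

variable {S P : Subgroup G} {k : ℕ} {M : NatK F S P (zl S P) (cv S P) k}

theorem Al.mv {i : Fin k} {x : G} {B : Matrix.SpecialLinearGroup (Fin 2) F} (hx : Al M i x B) : Mv M x i i := by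
  intro v hv
  rw [hx.same hv, ap_eq_zero]

theorem mem_Nc {i : Fin k} {x : G} {B : Matrix.SpecialLinearGroup (Fin 2) F} (hx : Al M i x B) {v : G}
    (hv : v ∈ zl S P) : x * v * x⁻¹ * v⁻¹ ∈ Nc M i :=
  subset_closure ⟨x, hx.mem_Fc, v, hv, rfl⟩

theorem Nc_le_zl (i : Fin k) : Nc M i ≤ zl S P := by
  rw [Nc, closure_le]
  rintro _ ⟨x, hx, v, hv, rfl⟩
  exact mul_mem (conj_mem_zl hx.1 hv) (inv_mem hv)

/-- `N_i` has no `j`-th coordinate -/
theorem Nc_ne {i j : Fin k} (hj : j ≠ i) {n : G} (hn : n ∈ Nc M i) : M.e n j = 0 := by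
  induction hn using closure_induction with
  | mem x hx =>
    obtain ⟨y, hy, v, hv, rfl⟩ := hx
    obtain ⟨B, hB⟩ := exists_of_Fc hy
    exact hB.comm_ne hv hj
  | one => rw [e_one M]; rfl
  | mul x y hx hy h1 h2 => rw [M.mul _ (Nc_le_zl i hx) _ (Nc_le_zl i hy), Pi.add_apply, h1, h2, add_zero]
  | inv x hx h1 => rw [e_inv M (Nc_le_zl i hx), Pi.neg_apply, h1, neg_zero]

/-- elements of `P` which fix the `i`-th factor normalise `N_i` -/
theorem Nc_norm {i : Fin k} {g : G} (hg : g ∈ P) (hm : Mv M g i i) {n : G} (hn : n ∈ Nc M i) :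
    g * n * g⁻¹ ∈ Nc M i := by
  induction hn using closure_induction with
  | mem x hx =>
    obtain ⟨y, hy, v, hv, rfl⟩ := hx
    obtain ⟨B, hB⟩ := exists_of_Fc hy
    obtain ⟨B', hB'⟩ := conj_Al hg hm hB
    have e : g * (y * v * y⁻¹ * v⁻¹) * g⁻¹ = (g * y * g⁻¹) * (g * v * g⁻¹) * (g * y * g⁻¹)⁻¹ * (g * v * g⁻¹)⁻¹ := by
      group
    rw [e]
    exact mem_Nc hB' (conj_mem_zl hg hv)
  | one => rw [mul_one, mul_inv_cancel]; exact one_mem _
  | mul x y hx hy h1 h2 =>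
    have e : g * (x * y) * g⁻¹ = (g * x * g⁻¹) * (g * y * g⁻¹) := by group
    rw [e]; exact mul_mem h1 h2
  | inv x hx h1 =>
    have e : g * x⁻¹ * g⁻¹ = (g * x * g⁻¹)⁻¹ := by group
    rw [e]; exact inv_mem h1

end gen

section rigid

variable [Finite G] [CharP F 2] (hG : IsCharacteristicTwoType G) (S : Sylow 2 G) {P : Subgroup G}
  (h : IsParS (S : Subgroup G) P) {k : ℕ} (hk : 0 < k)
  {M : NatK F (S : Subgroup G) P (zl (S : Subgroup G) P) (cv (S : Subgroup G) P) k}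

/-- `w` acts trivially on the `i`-th factor ==> `w x w⁻¹` acts as `x` -/
theorem conj_triv {w : G} (hw : w ∈ P) {i : Fin k}
    (ht : ∀ v ∈ zl (S : Subgroup G) P, M.e (w * v * w⁻¹) i = M.e v i) {x : G}
    {B : Matrix.SpecialLinearGroup (Fin 2) F} (hx : Al M i x B) : Al M i (w * x * w⁻¹) B := by
  have hm : Mv M w i i := fun v hv => by rw [ht v hv]
  obtain ⟨C, hC⟩ := conj_Al hw hm hx
  refine hC.of_eq (ap_inj fun y => ?_)
  obtain ⟨v, hv, hvi, -⟩ := exists_single (M := M) i y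
  have hu : w⁻¹ * v * w ∈ zl (S : Subgroup G) P := by
    have := conj_mem_zl (inv_mem hw) hv
    rwa [inv_inv] at this
  have e : w * (w⁻¹ * v * w) * w⁻¹ = v := by group
  have h1 := ht _ hu
  rw [e, hvi] at h1
  have h2 := hC.same hv
  have e2 : w * x * w⁻¹ * v * (w * x * w⁻¹)⁻¹ = w * (x * (w⁻¹ * v * w) * x⁻¹) * w⁻¹ := by group
  rw [e2, ht _ (hx.V hu), hx.same hu, ← h1, hvi] at h2
  exact h2.symm

include hG h in
theorem V_comm {a b : G} (ha : a ∈ zl (S : Subgroup G) P) (hb : b ∈ zl (S : Subgroup G) P) : a * b = b * a :=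
  zc_comm _ _ (zl_le_A hG S h ha) _ (zl_le_A hG S h hb)

include hG h hk in
/-- `[x, v] = [x, v']` if `v`, `v'` have the same `i`-th coordinate -/
theorem comm_eq [Finite F] (hF : 4 ≤ Nat.card F) {i : Fin k} {x : G} {B : Matrix.SpecialLinearGroup (Fin 2) F}
    (hx : Al M i x B) {v v' : G} (hv : v ∈ zl (S : Subgroup G) P) (hv' : v' ∈ zl (S : Subgroup G) P)
    (he : M.e v i = M.e v' i) : x * v * x⁻¹ * v⁻¹ = x * v' * x⁻¹ * v'⁻¹ := by
  have hkV : v * v'⁻¹ ∈ zl (S : Subgroup G) P := mul_mem hv (inv_mem hv')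
  have h0 : M.e (v * v'⁻¹) i = 0 := by rw [e_div M hv hv', Pi.sub_apply, he, sub_self]
  have h1 := fix_ker hG S h hk hF hx hkV h0
  have h2 : x * v' * x⁻¹ * v'⁻¹ ∈ zl (S : Subgroup G) P := mul_mem (hx.V hv') (inv_mem hv')
  calc x * v * x⁻¹ * v⁻¹ = (x * (v * v'⁻¹) * x⁻¹) * (x * v' * x⁻¹ * v'⁻¹) * (v * v'⁻¹)⁻¹ := by group
    _ = (v * v'⁻¹) * (x * v' * x⁻¹ * v'⁻¹) * (v * v'⁻¹)⁻¹ := by rw [h1]
    _ = x * v' * x⁻¹ * v'⁻¹ := by rw [V_comm hG S h hkV h2, mul_inv_cancel_right]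

include hG h hk in
/-- an element of `P` which acts trivially on the `i`-th factor centralises `N_i` -/
theorem cent_Nc [Finite F] (hF : 4 ≤ Nat.card F) {w : G} (hw : w ∈ P) {i : Fin k}
    (ht : ∀ v ∈ zl (S : Subgroup G) P, M.e (w * v * w⁻¹) i = M.e v i) : w ∈ centralizer (Nc M i : Set G) := by
  have key : ∀ n ∈ Nc M i, w * n * w⁻¹ = n := by
    intro n hn
    induction hn using closure_induction with
    | mem y hy =>
      obtain ⟨x, hx, v, hv, rfl⟩ := hy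
      obtain ⟨B, hB⟩ := exists_of_Fc hx
      have hwv := conj_mem_zl hw hv
      have h1 := Al.eq_V hG S h hk (conj_triv S hw ht hB) hB hwv
      calc w * (x * v * x⁻¹ * v⁻¹) * w⁻¹
          = ((w * x * w⁻¹) * (w * v * w⁻¹) * (w * x * w⁻¹)⁻¹) * (w * v * w⁻¹)⁻¹ := by group
        _ = x * (w * v * w⁻¹) * x⁻¹ * (w * v * w⁻¹)⁻¹ := by rw [h1]
        _ = x * v * x⁻¹ * v⁻¹ := comm_eq hG S h hk hF hB hwv hv (ht v hv)
    | one => group
    | mul x y hx hy h1 h2 =>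
      calc w * (x * y) * w⁻¹ = (w * x * w⁻¹) * (w * y * w⁻¹) := by group
        _ = x * y := by rw [h1, h2]
    | inv x hx h1 =>
      calc w * x⁻¹ * w⁻¹ = (w * x * w⁻¹)⁻¹ := by group
        _ = x⁻¹ := by rw [h1]
  exact mem_centralizer_iff.2 fun n hn => (mul_inv_eq_iff_eq_mul.1 (key n hn)).symm

/-- the action on the `i`-th coordinate -/
theorem coord_congr {w : G} (hw : w ∈ P) {i : Fin k} (hm : Mv M w i i) {u v : G}
    (hu : u ∈ zl (S : Subgroup G) P) (hv : v ∈ zl (S : Subgroup G) P) (he : M.e u i = M.e v i) :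
    M.e (w * u * w⁻¹) i = M.e (w * v * w⁻¹) i := by
  have h0 : M.e (u * v⁻¹) i = 0 := by rw [e_div M hu hv, Pi.sub_apply, he, sub_self]
  have h1 := (hm _ (mul_mem hu (inv_mem hv))).2 h0
  have e : w * (u * v⁻¹) * w⁻¹ = (w * u * w⁻¹) * (w * v * w⁻¹)⁻¹ := by group
  rw [e, e_div M (conj_mem_zl hw hu) (conj_mem_zl hw hv), Pi.sub_apply, sub_eq_zero] at h1
  exact h1

theorem two_dvd_card [Finite F] : 2 ∣ Nat.card F := by
  have := Fintype.ofFinite F
  rw [Nat.card_eq_fintype_card, ← CharP.cast_eq_zero_iff F 2]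
  exact FiniteField.cast_card_eq_zero F

/-- a 2-group fixing the `i`-th factor fixes a nonzero vector of it -/
theorem exists_fixed_coord [Finite F] {K : Subgroup G} (hK : IsPGroup 2 K) (hP : K ≤ P) {i : Fin k}
    (hm : ∀ w ∈ K, Mv M w i i) :
    ∃ v ∈ zl (S : Subgroup G) P, M.e v i ≠ 0 ∧ ∀ w ∈ K, M.e (w * v * w⁻¹) i = M.e v i := by
  have : Fact (Nat.Prime 2) := ⟨Nat.prime_two⟩
  choose s hs using fun y : Fin 2 → F => exists_single (M := M) i y
  let f : K → (Fin 2 → F) → (Fin 2 → F) := fun w y => M.e (w * s y * (w : G)⁻¹) i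
  have hf : ∀ (w : K) (v : G), v ∈ zl (S : Subgroup G) P → f w (M.e v i) = M.e (w * v * (w : G)⁻¹) i := fun w v hv =>
    coord_congr S (hP w.2) (hm w w.2) (hs _).1 hv (hs _).2.1
  let _act : MulAction K (Fin 2 → F) :=
    { smul := f
      one_smul := fun y => by
        show M.e ((1 : G) * s y * (1 : G)⁻¹) i = y
        rw [one_mul, inv_one, mul_one]; exact (hs y).2.1
      mul_smul := fun a b y => by
        show f (a * b) y = f a (f b y)
        have h1 : f b y = M.e ((b : G) * s y * (b : G)⁻¹) i := rfl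
        rw [h1, hf a _ (conj_mem_zl (hP b.2) (hs y).1)]
        have e : (a * b : G) * s y * (a * b : G)⁻¹ = (a : G) * ((b : G) * s y * (b : G)⁻¹) * (a : G)⁻¹ := by group
        show M.e ((a * b : G) * s y * (a * b : G)⁻¹) i = _
        rw [e] }
  have h1 := hK.card_modEq_card_fixedPoints (Fin 2 → F)
  have h2 : 2 ∣ Nat.card (Fin 2 → F) := by
    rw [Nat.card_fun, Nat.card_eq_fintype_card (α := Fin 2), Fintype.card_fin, pow_two]
    exact (two_dvd_card (F := F)).mul_right _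
  have h3 : 2 ∣ Nat.card (MulAction.fixedPoints K (Fin 2 → F)) :=
    (Nat.modEq_zero_iff_dvd.mp ((h1.symm.trans (Nat.modEq_zero_iff_dvd.mpr h2))))
  have h4 : (0 : Fin 2 → F) ∈ MulAction.fixedPoints K (Fin 2 → F) := by
    intro w
    show f w 0 = 0
    have h5 := hf w 1 (one_mem _)
    rw [e_one M] at h5
    have h6 : (w : G) * 1 * (w : G)⁻¹ = 1 := by group
    rw [h6, e_one M] at h5
    exact h5
  have : Nonempty (MulAction.fixedPoints K (Fin 2 → F)) := ⟨⟨0, h4⟩⟩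
  have h5 : 1 < Nat.card (MulAction.fixedPoints K (Fin 2 → F)) :=
    lt_of_lt_of_le one_lt_two (Nat.le_of_dvd Nat.card_pos h3)
  obtain ⟨a, b, hab⟩ := (Finite.one_lt_card_iff_nontrivial.mp h5).exists_pair_ne
  have key : ∃ c : MulAction.fixedPoints K (Fin 2 → F), (c : Fin 2 → F) ≠ 0 := by
    by_contra hc
    push Not at hc
    exact hab (Subtype.ext ((hc a).trans (hc b).symm))
  obtain ⟨c, hc⟩ := key
  refine ⟨s c, (hs _).1, by rw [(hs _).2.1]; exact hc, fun w hw => ?_⟩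
  rw [(hs _).2.1]
  exact c.2 ⟨w, hw⟩

/-- a 2-group normalised by the lifts acts trivially on the `i`-th factor -/
theorem triv_of_norm [Finite F] {K : Subgroup G} (hK : IsPGroup 2 K) (hP : K ≤ P) {i : Fin k}
    (hm : ∀ w ∈ K, Mv M w i i) (hX : ∀ B, ∃ x, Al M i x B ∧ ∀ w ∈ K, x⁻¹ * w * x ∈ K) :
    ∀ w ∈ K, ∀ v ∈ zl (S : Subgroup G) P, M.e (w * v * w⁻¹) i = M.e v i := by
  obtain ⟨u, hu, hu0, huf⟩ := exists_fixed_coord S hK hP hm
  intro w hw v hv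
  by_cases h0 : M.e v i = 0
  · rw [h0]; exact (hm w hw v hv).2 h0
  obtain ⟨B, hB⟩ := NatPair.exists_ap hu0 h0
  obtain ⟨x, hx, hxK⟩ := hX B
  have h1 : M.e v i = M.e (x * u * x⁻¹) i := by rw [hx.same hu, hB]
  have h2 := coord_congr S (hP hw) (hm w hw) hv (hx.V hu) h1
  have e : w * (x * u * x⁻¹) * w⁻¹ = x * ((x⁻¹ * w * x) * u * (x⁻¹ * w * x)⁻¹) * x⁻¹ := by group
  rw [h2, e, hx.same (conj_mem_zl (hP (hxK w hw)) hu), huf _ (hxK w hw), hB]

end rigid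

/-! ### HALF* -/

section two

variable [Finite G] [CharP F 2] (hG : IsCharacteristicTwoType G) (S : Sylow 2 G) {P : Subgroup G}
  (h : IsParS (S : Subgroup G) P)
  {M : NatK F (S : Subgroup G) P (zl (S : Subgroup G) P) (cv (S : Subgroup G) P) 2}
  {i j : Fin 2} (hij : i ≠ j) [Fintype F] [DecidableEq F] (hF : 4 ≤ Nat.card F)

variable (M) in
/-- `A₀ = {y ∈ Ω₁Z(T_i) ∩ V | e_i y = 1}` -/
noncomputable def A0 (i : Fin 2) : Subgroup ↥(zc (o2 P)) :=
  (VA S P ⊓ (zc (Tc M i)).subgroupOf (zc (o2 P))) ⊓ (eA S M i).ker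

theorem mem_A0 {i : Fin 2} {y : ↥(zc (o2 P))} : y ∈ A0 S M i ↔
    ((y : G) ∈ zl (S : Subgroup G) P ∧ (y : G) ∈ zc (Tc M i)) ∧ eA S M i y = 1 := by
  rw [A0, mem_inf, mem_inf, mem_VA, mem_subgroupOf, MonoidHom.mem_ker]

include hG h hF

/-- `e_i y = 1`, `y ∈ V` ==> `y ∈ N_i` -/
theorem mem_Nc_of_eA {i : Fin 2} {y : ↥(zc (o2 P))} (hy : y ∈ VA S P) (he : eA S M i y = 1) : (y : G) ∈ Nc M i := by
  have hk : 0 < 2 := two_pos
  have h1 : y = ∏ l : Fˣ, (rh S M i (dg (l : F) l.ne_zero) y * y⁻¹) := by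
    rw [Finset.prod_mul_distrib, ← eA_apply, he, one_mul]
    have := prod_const_A (F := F) (y⁻¹ : ↥(zc (o2 P)))
    rw [this, A_inv]
  have h2 : y ∈ (Nc M i).subgroupOf (zc (o2 P)) := by
    rw [h1]
    refine Subgroup.prod_mem _ fun l _ => ?_
    rw [mem_subgroupOf]
    show ((rh S M i (dg (l : F) l.ne_zero) y : ↥(zc (o2 P))) : G) * (y : G)⁻¹ ∈ Nc M i
    rw [rh_val hG S h hk M (lf_spec S M i _)]
    exact mem_Nc (lf_spec S M i _) ((mem_VA S).1 hy)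
  exact mem_subgroupOf.1 h2

/-- `e_i y = 1 ≠ y`, `y ∈ V` ==> the `i`-th coordinate of `y` is not zero -/
theorem coord_ne_of_eA {i : Fin 2} {y : ↥(zc (o2 P))} (hy : y ∈ VA S P) (he : eA S M i y = 1) (h1 : y ≠ 1) :
    M.e (y : G) i ≠ 0 := by
  intro h0
  apply h1
  rw [← he, eA_of_fix]
  intro B
  apply Subtype.ext
  rw [rh_val hG S h two_pos M (lf_spec S M i B)]
  exact fix_ker hG S h two_pos hF (lf_spec S M i B) ((mem_VA S).1 hy) h0

include hij in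
/-- `A₀ ≠ 1` -/
theorem exists_A0 : ∃ y ∈ A0 S M i, y ≠ 1 := by
  have hk : 0 < 2 := two_pos
  -- `A₁`
  obtain ⟨ω, h0, h1⟩ := exists_omega hF
  let A1 : Subgroup G :=
    { carrier := {a | ∃ ha : a ∈ zc (o2 P), a ∈ zl (S : Subgroup G) P ∧ M.e a j = 0 ∧ M.e a i 1 = 0 ∧
        eA S M i ⟨a, ha⟩ = 1}
      one_mem' := ⟨one_mem _, one_mem _, by rw [e_one M]; rfl, by rw [e_one M]; rfl, map_one _⟩
      mul_mem' := by
        rintro a b ⟨ha, ha1, ha2, ha3, ha4⟩ ⟨hb, hb1, hb2, hb3, hb4⟩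
        refine ⟨mul_mem ha hb, mul_mem ha1 hb1, ?_, ?_, ?_⟩
        · rw [M.mul _ ha1 _ hb1, Pi.add_apply, ha2, hb2, add_zero]
        · rw [M.mul _ ha1 _ hb1, Pi.add_apply, Pi.add_apply, ha3, hb3, add_zero]
        · have e : (⟨a * b, mul_mem ha hb⟩ : ↥(zc (o2 P))) = ⟨a, ha⟩ * ⟨b, hb⟩ := rfl
          rw [e, map_mul, ha4, hb4, one_mul]
      inv_mem' := by
        rintro a ⟨ha, ha1, ha2, ha3, ha4⟩
        refine ⟨inv_mem ha, inv_mem ha1, ?_, ?_, ?_⟩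
        · rw [e_inv M ha1, Pi.neg_apply, ha2, neg_zero]
        · rw [e_inv M ha1, Pi.neg_apply, Pi.neg_apply, ha3, neg_zero]
        · have e : (⟨a⁻¹, inv_mem ha⟩ : ↥(zc (o2 P))) = (⟨a, ha⟩)⁻¹ := rfl
          rw [e, map_inv, ha4, inv_one] }
  have hA1V : A1 ≤ zl (S : Subgroup G) P := fun a ha => by
    obtain ⟨-, h2, -⟩ := ha
    exact h2
  have hT2 : IsPGroup 2 (Tc M i) := S.isPGroup'.to_le (Tc_le_S S i)
  have hA12 : IsPGroup 2 A1 := hT2.to_le (hA1V.trans (V_le_Tc hG S h i))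
  -- `A₁ ≤ E_Z`
  have hfix : ∀ a ∈ A1, ∀ (ha : a ∈ zc (o2 P)) c, rh S M i (up c) ⟨a, ha⟩ = ⟨a, ha⟩ := by
    intro a ha hac c
    obtain ⟨-, ha1, -, ha3, -⟩ := ha
    apply Subtype.ext
    rw [rh_val hG S h hk M (lf_spec S M i _)]
    exact fix_line hG S h hk hF (lf_spec S M i _) ha1 ha3
  have hA1T : Tc M i ≤ normalizer (A1 : Set G) := by
    apply Two.le_normalizer_of
    rintro t ht a ha
    have htS := Tc_le_S S i ht
    have htP := h.le htS
    obtain ⟨ha0, ha1, ha2, ha3, ha4⟩ := ha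
    have hb1 : t * a * t⁻¹ ∈ zl (S : Subgroup G) P := conj_mem_zl htP ha1
    have hb3 : M.e (t * a * t⁻¹) i 1 = 0 := (conj_line h.le htS ht.2 ha1).2 ha3
    refine ⟨A_mem htP ha0, hb1, ((Mv_other S hij htP ht.2) a ha1).2 ha2, hb3, ?_⟩
    have h2 := eA_conj hG S h hk M htS ht.2 (a := ⟨a, ha0⟩) (fun c => by
      apply Subtype.ext
      rw [rh_val hG S h hk M (lf_spec S M i _)]
      exact fix_line hG S h hk hF (lf_spec S M i _) hb1 hb3)
    rw [ha4, map_one] at h2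
    exact h2.symm
  -- `A₁ ≠ 1`
  obtain ⟨u, hu, hui, huj⟩ := exists_single (M := M) i ![1, 0]
  have huA := zl_le_A hG S h hu
  set u' : ↥(zc (o2 P)) := ⟨u, huA⟩ with hu'
  have huu : ((u' * rh S M i (dg ω h0) u' : ↥(zc (o2 P))) : G) =
      u * (lf S M i (dg ω h0) * u * (lf S M i (dg ω h0))⁻¹) := rfl
  have hLA := lf_spec S M i (dg ω h0)
  have hdu := dg_e (F := F) (ω := ω) (h0 := h0)
  have hmem : u * (lf S M i (dg ω h0) * u * (lf S M i (dg ω h0))⁻¹) ∈ A1 := by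
    refine ⟨(u' * rh S M i (dg ω h0) u').2, mul_mem hu (hLA.V hu), ?_, ?_, ?_⟩
    · rw [M.mul _ hu _ (hLA.V hu), Pi.add_apply, hLA.ne hu hij.symm, huj j hij.symm, add_zero]
    · rw [M.mul _ hu _ (hLA.V hu), Pi.add_apply, hLA.same hu, hui, hdu]
      simp
    · show eA S M i (u' * rh S M i (dg ω h0) u') = 1
      have h2 : eA S M i (rh S M i (dg ω h0) u') = eA S M i u' := by
        rw [eA_apply, eA_apply]
        refine Fintype.prod_equiv (Equiv.mulRight (Units.mk0 ω h0)) _ _ fun l => ?_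
        rw [← rh_mul hG S h hk, dg_mul_dg]
        rfl
      rw [map_mul, h2, A_sq]
  have hne : u * (lf S M i (dg ω h0) * u * (lf S M i (dg ω h0))⁻¹) ≠ 1 := by
    intro h2
    have h3 : M.e (u * (lf S M i (dg ω h0) * u * (lf S M i (dg ω h0))⁻¹)) i 0 = 0 := by rw [h2, e_one M]; rfl
    rw [M.mul _ hu _ (hLA.V hu), Pi.add_apply, hLA.same hu, hui, hdu] at h3
    simp at h3
    apply h1
    have htwo : (2 : F) = 0 := CharTwo.two_eq_zero
    linear_combination h3 - htwo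
  have hA1 : A1 ≠ ⊥ := fun h2 => hne (by rw [h2, mem_bot] at hmem; exact hmem)
  obtain ⟨y, hy, hy1, hyf⟩ := Half.exists_fixed hA12 hA1 hT2 hA1T
  have hyV := hA1V hy
  obtain ⟨hyA, -, -, -, hy4⟩ := hy
  refine ⟨⟨y, hyA⟩, (mem_A0 S).2 ⟨⟨hyV, mem_zc.2 ⟨V_le_Tc hG S h i hyV, fun t ht => ?_, zc_sq _ _ hyA⟩⟩, hy4⟩,
    fun h2 => hy1 (congrArg Subtype.val h2)⟩
  exact mul_inv_eq_iff_eq_mul.1 (hyf t ht)

include hij in
/-- **HALF***: `O₂(H)` centralises `N_i` -/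
theorem o2_le_cent {H : Subgroup G} (hT : Tc M i ≤ H) (hX : ∀ B, ∃ x ∈ H, Al M i x B) :
    o2 H ≤ centralizer (Nc M i : Set G) := by
  have hk : 0 < 2 := two_pos
  have : Fact (Nat.Prime 2) := ⟨Nat.prime_two⟩
  set W := o2 H with hW
  have hHW : H ≤ normalizer (W : Set G) := le_normalizer_o2 H
  have hW2 : IsPGroup 2 W := o2_isPGroup H
  have hnW : ∀ x ∈ H, ∀ w ∈ W, x * w * x⁻¹ ∈ W := fun x hx w hw => (mem_normalizer_iff.1 (hHW hx) w).1 hw
  have hnW' : ∀ x ∈ H, ∀ w ∈ W, x⁻¹ * w * x ∈ W := fun x hx w hw => by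
    have := hnW x⁻¹ (inv_mem hx) w hw
    rwa [inv_inv] at this
  -- `K = {w ∈ W ∩ P | w fixes the i-th factor}`
  let K : Subgroup G :=
    { carrier := {w | w ∈ W ∧ w ∈ P ∧ Mv M w i i}
      one_mem' := ⟨one_mem _, one_mem _, (Al.one (M := M) i).mv⟩
      mul_mem' := fun {a b} ha hb => ⟨mul_mem ha.1 hb.1, mul_mem ha.2.1 hb.2.1, ha.2.2.mul hb.2.2 hb.2.1⟩
      inv_mem' := fun {a} ha => ⟨inv_mem ha.1, inv_mem ha.2.1, ha.2.2.inv ha.2.1⟩ }
  have hK2 : IsPGroup 2 K := hW2.to_le fun w hw => hw.1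
  have hKx : ∀ x ∈ H, ∀ B, Al M i x B → ∀ w ∈ K, x⁻¹ * w * x ∈ K := by
    intro x hx B hB w hw
    refine ⟨hnW' x hx w hw.1, mul_mem (mul_mem (inv_mem hB.1) hw.2.1) hB.1, ?_⟩
    exact ((hB.mv.inv hB.1).mul hw.2.2 hw.2.1).mul hB.mv hB.1
  have hKt := triv_of_norm S hK2 (fun w hw => hw.2.1) (fun w hw => hw.2.2) (M := M) (i := i) fun B => by
    obtain ⟨x, hx, hB⟩ := hX B
    exact ⟨x, hB, hKx x hx B hB⟩
  have hKc : ∀ w ∈ K, w ∈ centralizer (Nc M i : Set G) := fun w hw => cent_Nc hG S h hk hF hw.2.1 (hKt w hw)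
  have hWT : ∀ w ∈ W, w ∈ Tc M i → w ∈ K := fun w hw ht => ⟨hw, ht.1.2, ht.2⟩
  by_contra hcon
  obtain ⟨w, hw, hwc⟩ := SetLike.not_le_iff_exists.mp hcon
  -- `R = W T`
  have hT2 : IsPGroup 2 (Tc M i) := S.isPGroup'.to_le (Tc_le_S S i)
  set R : Subgroup G := Tc M i ⊔ W with hR
  have hR2 : IsPGroup 2 R := IsPGroup.to_sup_of_normal_right' hT2 hW2 (hT.trans hHW)
  have hTR : Tc M i ≤ R := le_sup_left
  have hWR : W ≤ R := le_sup_right
  have hRc : Nat.card R ≤ 2 * Nat.card (Tc M i) := by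
    rw [← card_Tc S h (M := M) hij]
    exact Half.card_le_sylow S hR2
  have hwT : w ∉ Tc M i := fun ht => hwc (hKc w (hWT w hw ht))
  have hco : ∀ a ∈ R, ∀ b ∈ R, a ∉ Tc M i → b ∉ Tc M i → a⁻¹ * b ∈ Tc M i := by
    apply Two.two_cosets hTR
    have h1 := Half.card_mul_relIndex hTR
    have h2 : (Tc M i).relIndex R ≠ 1 := fun h2 => hwT (relIndex_eq_one.1 h2 (hWR hw))
    have h3 : (Tc M i).relIndex R ≠ 0 := index_ne_zero_of_finite
    have h4 : 0 < Nat.card (Tc M i) := Nat.card_pos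
    have h5 : (Tc M i).relIndex R ≤ 2 := by
      by_contra hc
      push Not at hc
      have h6 : Nat.card (Tc M i) * 3 ≤ Nat.card (Tc M i) * (Tc M i).relIndex R := Nat.mul_le_mul_left _ hc
      omega
    have h6 : (Tc M i).relIndex R = 2 := by omega
    rw [← h1, h6, mul_comm]
  have hwn : ∀ t ∈ Tc M i, w * t * w⁻¹ ∈ Tc M i := fun t ht => Two.conj_mem_of_two hTR hco (hWR hw) ht
  have hwn' : ∀ t ∈ Tc M i, w⁻¹ * t * w ∈ Tc M i := fun t ht => by
    have := Two.conj_mem_of_two hTR hco (inv_mem (hWR hw)) ht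
    rwa [inv_inv] at this
  -- `w⁻¹ w^x` centralises `N_i`
  have hkc : ∀ x ∈ H, ∀ B, Al M i x B → w⁻¹ * (x * w * x⁻¹) ∈ centralizer (Nc M i : Set G) := by
    intro x hx B hB
    have h1 : x * w * x⁻¹ ∈ W := hnW x hx w hw
    have h2 : x * w * x⁻¹ ∉ Tc M i := by
      intro h2
      have h3 := hKx x hx B hB _ (hWT _ h1 h2)
      have e : x⁻¹ * (x * w * x⁻¹) * x = w := by group
      rw [e] at h3
      exact hwc (hKc w h3)
    exact hKc _ (hWT _ (mul_mem (inv_mem hw) h1) (hco _ (hWR hw) _ (hWR h1) hwT h2))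
  have heq : ∀ x ∈ H, ∀ B, Al M i x B → ∀ n ∈ Nc M i, x * (w * n * w⁻¹) * x⁻¹ = w * (x * n * x⁻¹) * w⁻¹ := by
    intro x hx B hB n hn
    have h1 := mem_centralizer_iff.1 (hkc x hx B hB) _ (Nc_norm hB.1 hB.mv hn)
    set c := w⁻¹ * (x * w * x⁻¹) with hc
    calc x * (w * n * w⁻¹) * x⁻¹ = w * (c * (x * n * x⁻¹)) * c⁻¹ * w⁻¹ := by rw [hc]; group
      _ = w * ((x * n * x⁻¹) * c) * c⁻¹ * w⁻¹ := by rw [h1]
      _ = _ := by group
  -- `w` normalises `Ω₁Z(T)`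
  have hwY : ∀ y ∈ zc (Tc M i), w * y * w⁻¹ ∈ zc (Tc M i) := by
    intro y hy
    obtain ⟨h1, h2, h3⟩ := mem_zc.1 hy
    refine mem_zc.2 ⟨hwn y h1, fun t ht => ?_, ?_⟩
    · have h4 := h2 _ (hwn' t ht)
      calc t * (w * y * w⁻¹) = w * (w⁻¹ * t * w * y) * w⁻¹ := by group
        _ = w * (y * (w⁻¹ * t * w)) * w⁻¹ := by rw [h4]
        _ = _ := by group
    · rw [pow_two] at h3 ⊢
      calc w * y * w⁻¹ * (w * y * w⁻¹) = w * (y * y) * w⁻¹ := by group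
        _ = 1 := by rw [h3]; group
  -- `w` normalises `A₀`
  have hA0 : ∀ y ∈ A0 S M i, ∃ y' ∈ A0 S M i, (y' : G) = w * y * w⁻¹ := by
    intro y hy
    obtain ⟨⟨hyV, hyT⟩, hye⟩ := (mem_A0 S).1 hy
    have hy'T := hwY _ hyT
    have hy'A := zc_Tc_le hG S h i hy'T
    have hyN := mem_Nc_of_eA hG S h hF ((mem_VA S).2 hyV) hye
    have he' : eA S M i ⟨w * y * w⁻¹, hy'A⟩ = 1 := by
      -- the subgroup `{a ∈ A | w a w⁻¹ ∈ A}`
      let B : Subgroup ↥(zc (o2 P)) :=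
        { carrier := {a | w * a * w⁻¹ ∈ zc (o2 P)}
          one_mem' := by
            show w * (1 : G) * w⁻¹ ∈ zc (o2 P)
            rw [mul_one, mul_inv_cancel]; exact one_mem _
          mul_mem' := by
            intro a b ha hb
            show w * ((a : G) * b) * w⁻¹ ∈ zc (o2 P)
            have e : w * ((a : G) * b) * w⁻¹ = (w * a * w⁻¹) * (w * b * w⁻¹) := by group
            rw [e]; exact mul_mem ha hb
          inv_mem' := by
            intro a ha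
            show w * (a : G)⁻¹ * w⁻¹ ∈ zc (o2 P)
            have e : w * (a : G)⁻¹ * w⁻¹ = (w * a * w⁻¹)⁻¹ := by group
            rw [e]; exact inv_mem ha }
      let φ : B →* ↥(zc (o2 P)) :=
        { toFun := fun a => ⟨w * ((a : ↥(zc (o2 P))) : G) * w⁻¹, a.2⟩
          map_one' := Subtype.ext (by show w * (1 : G) * w⁻¹ = 1; group)
          map_mul' := fun a b => Subtype.ext (by
            show w * (((a : ↥(zc (o2 P))) : G) * ((b : ↥(zc (o2 P))) : G)) * w⁻¹ =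
              w * ((a : ↥(zc (o2 P))) : G) * w⁻¹ * (w * ((b : ↥(zc (o2 P))) : G) * w⁻¹)
            group) }
      have hval : ∀ l : Fˣ, w * ((rh S M i (dg (l : F) l.ne_zero) y : ↥(zc (o2 P))) : G) * w⁻¹ =
          ((rh S M i (dg (l : F) l.ne_zero) ⟨w * y * w⁻¹, hy'A⟩ : ↥(zc (o2 P))) : G) := by
        intro l
        obtain ⟨x, hx, hB⟩ := hX (dg (l : F) l.ne_zero)
        rw [rh_val hG S h hk M hB, rh_val hG S h hk M hB]
        exact (heq x hx _ hB _ hyN).symm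
      have hmem : ∀ l : Fˣ, rh S M i (dg (l : F) l.ne_zero) y ∈ B := by
        intro l
        show w * ((rh S M i (dg (l : F) l.ne_zero) y : ↥(zc (o2 P))) : G) * w⁻¹ ∈ zc (o2 P)
        rw [hval l]
        exact (rh S M i (dg (l : F) l.ne_zero) ⟨w * y * w⁻¹, hy'A⟩).2
      have h1 : ∏ l : Fˣ, (⟨rh S M i (dg (l : F) l.ne_zero) y, hmem l⟩ : B) = 1 := by
        apply Subtype.ext
        rw [Subgroup.val_finsetProd]
        rw [eA_apply] at hye
        exact hye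
      have h2 : ∏ l : Fˣ, φ ⟨rh S M i (dg (l : F) l.ne_zero) y, hmem l⟩ = 1 := by
        rw [← map_prod, h1, map_one]
      rw [eA_apply, ← h2]
      refine Finset.prod_congr rfl fun l _ => Subtype.ext ?_
      exact (hval l).symm
    have hV := claim hG S h hij hF (f := ⟨w * y * w⁻¹, hy'A⟩) hy'T he'
    exact ⟨⟨w * y * w⁻¹, hy'A⟩, (mem_A0 S).2 ⟨⟨(mem_VA S).1 hV, hy'T⟩, he'⟩, rfl⟩
  -- a fixed point
  obtain ⟨y, hy, hy1, hyw⟩ : ∃ y ∈ A0 S M i, y ≠ 1 ∧ w * (y : G) * w⁻¹ = y := by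
    set B0 : Subgroup G := (A0 S M i).map (zc (o2 P)).subtype with hB0
    have hB02 : IsPGroup 2 B0 := by
      refine hT2.to_le ?_
      rintro _ ⟨y, hy, rfl⟩
      exact zc_le _ ((mem_A0 S).1 hy).1.2
    have hB0n : w ∈ normalizer (B0 : Set G) := by
      apply mem_normalizer_of_map_le
      rintro _ ⟨_, ⟨y, hy, rfl⟩, rfl⟩
      obtain ⟨y', hy', e⟩ := hA0 y hy
      exact ⟨y', hy', e⟩
    have hB0ne : B0 ≠ ⊥ := by
      obtain ⟨y, hy, hy1⟩ := exists_A0 hG S h hij hF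
      intro h1
      have h2 : (y : G) ∈ B0 := ⟨y, hy, rfl⟩
      rw [h1, mem_bot] at h2
      exact hy1 (Subtype.ext h2)
    obtain ⟨y0, hy0, hy01, hy0w⟩ := Half.exists_fixed hB02 hB0ne (hW2.to_le (zpowers_le.mpr hw)) (zpowers_le.mpr hB0n)
    obtain ⟨y, hy, rfl⟩ := hy0
    exact ⟨y, hy, fun h1 => hy01 (by rw [h1]; rfl), hy0w w (mem_zpowers w)⟩
  obtain ⟨⟨hyV, hyT⟩, hye⟩ := (mem_A0 S).1 hy
  have hyN := mem_Nc_of_eA hG S h hF ((mem_VA S).2 hyV) hye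
  have hyi := coord_ne_of_eA hG S h hF ((mem_VA S).2 hyV) hye hy1
  -- `C_{N_i}(w)` is invariant under the lifts
  have hinv : ∀ x ∈ H, ∀ B, Al M i x B → ∀ n ∈ Nc M i, w * n * w⁻¹ = n → w * (x * n * x⁻¹) * w⁻¹ = x * n * x⁻¹ := by
    intro x hx B hB n hn hwn
    rw [← heq x hx B hB n hn, hwn]
  have hcov : ∀ z : Fin 2 → F, ∃ r ∈ Nc M i, w * r * w⁻¹ = r ∧ M.e r i = z := by
    intro z
    by_cases hz : z = 0
    · exact ⟨1, one_mem _, by group, by rw [e_one M, hz]; rfl⟩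
    obtain ⟨B, hB⟩ := NatPair.exists_ap hyi hz
    obtain ⟨x, hx, hxB⟩ := hX B
    exact ⟨x * y * x⁻¹, Nc_norm hxB.1 hxB.mv hyN, hinv x hx B hxB _ hyN hyw, by rw [hxB.same hyV, hB]⟩
  apply hwc
  have key : ∀ n ∈ Nc M i, w * n * w⁻¹ = n := by
    intro n hn
    induction hn using closure_induction with
    | mem z hz =>
      obtain ⟨x', hx', v, hv, rfl⟩ := hz
      obtain ⟨B, hB'⟩ := exists_of_Fc hx'
      obtain ⟨x, hx, hB⟩ := hX B
      obtain ⟨r, hr, hrw, hre⟩ := hcov (M.e v i)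
      have hrV := Nc_le_zl i hr
      have e1 : x' * v * x'⁻¹ * v⁻¹ = x * r * x⁻¹ * r⁻¹ := by
        rw [Al.eq_V hG S h hk hB' hB hv]
        exact comm_eq hG S h hk hF hB hv hrV hre.symm
      rw [e1]
      calc w * (x * r * x⁻¹ * r⁻¹) * w⁻¹ = (w * (x * r * x⁻¹) * w⁻¹) * (w * r * w⁻¹)⁻¹ := by group
        _ = x * r * x⁻¹ * r⁻¹ := by rw [hinv x hx B hB r hr hrw, hrw]
    | one => group
    | mul a b ha hb h1 h2 =>
      calc w * (a * b) * w⁻¹ = (w * a * w⁻¹) * (w * b * w⁻¹) := by group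
        _ = a * b := by rw [h1, h2]
    | inv a ha h1 =>
      calc w * a⁻¹ * w⁻¹ = (w * a * w⁻¹)⁻¹ := by group
        _ = a⁻¹ := by rw [h1]
  exact mem_centralizer_iff.2 fun n hn => (mul_inv_eq_iff_eq_mul.1 (key n hn)).symm

end two

/-! ### `E_i` covers `F_i` -/

theorem relIndex_sup_eq [Finite G] {A C : Subgroup G} (h : A ≤ normalizer (C : Set G)) :
    A.relIndex (A ⊔ C) = (A ⊓ C).relIndex C := by
  have h1 : Nat.card (A ⊔ C : Subgroup G) * Nat.card (A ⊓ C : Subgroup G) = Nat.card A * Nat.card C := by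
    rw [← Lib.ProductSet.card_mul_card_inf A C, ← coe_mul_of_left_le_normalizer_right _ _ h]
    rfl
  have h3 := Half.card_mul_relIndex (inf_le_right : A ⊓ C ≤ C)
  have h4 := Half.card_mul_relIndex (le_sup_left : A ≤ A ⊔ C)
  have hS : 0 < Nat.card A := Nat.card_pos
  have hI : 0 < Nat.card (A ⊓ C : Subgroup G) := Nat.card_pos
  refine Nat.eq_of_mul_eq_mul_left (Nat.mul_pos hS hI) ?_
  calc Nat.card A * Nat.card (A ⊓ C : Subgroup G) * A.relIndex (A ⊔ C)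
      = (Nat.card A * A.relIndex (A ⊔ C)) * Nat.card (A ⊓ C : Subgroup G) := by ring
    _ = Nat.card A * (Nat.card (A ⊓ C : Subgroup G) * (A ⊓ C).relIndex C) := by rw [h4, h1, h3]
    _ = _ := by ring

section two'

variable [Finite G] [CharP F 2] (hG : IsCharacteristicTwoType G) (S : Sylow 2 G) {P : Subgroup G}
  (h : IsParS (S : Subgroup G) P)
  {M : NatK F (S : Subgroup G) P (zl (S : Subgroup G) P) (cv (S : Subgroup G) P) 2}
  [Finite F] (hF : 4 ≤ Nat.card F)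

theorem exists_ne (i : Fin 2) : ∃ j : Fin 2, i ≠ j := by
  revert i; decide

/-- `N_i` covers the `i`-th factor -/
theorem Nc_surj (i : Fin 2) (z : Fin 2 → F) : ∃ n ∈ Nc M i, M.e n i = z := by
  by_cases hz : z = 0
  · exact ⟨1, one_mem _, by rw [e_one M, hz]; rfl⟩
  obtain ⟨v, hv, hvi, -⟩ := exists_single (M := M) i ![0, 1]
  obtain ⟨x, hx⟩ := exists_Al M i (up (1 : F))
  have h1 := hx.comm_same hv
  have h2 : M.e (x * v * x⁻¹ * v⁻¹) i ≠ 0 := by
    rw [h1, hvi, ap_up2]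
    intro h3
    have := congrFun h3 0
    simp at this
  obtain ⟨B, hB⟩ := NatPair.exists_ap h2 hz
  obtain ⟨y, hy⟩ := exists_Al M i B
  exact ⟨y * (x * v * x⁻¹ * v⁻¹) * y⁻¹, Nc_norm hy.1 hy.mv (mem_Nc hx hv), by
    rw [hy.same (mul_mem (hx.V hv) (inv_mem hv)), hB]⟩

/-- `Q_i` acts trivially on the `i`-th factor -/
theorem Qc_triv {i : Fin 2} {q : G} (hq : q ∈ Qc M i) :
    ∀ v ∈ zl (S : Subgroup G) P, M.e (q * v * q⁻¹) i = M.e v i := by
  intro v hv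
  obtain ⟨n, hn, hne⟩ := Nc_surj S (M := M) i (M.e v i)
  have hqT : q ∈ Tc M i := hq.1
  have h1 := coord_congr S (M := M) hqT.1.2 hqT.2 hv (Nc_le_zl i hn) hne.symm
  have h2 : n * q = q * n := mem_centralizer_iff.1 hq.2 n hn
  rw [h1, ← h2, mul_inv_cancel_right, hne]

/-- `C_P(V)` -/
theorem Al_of_cent (i : Fin 2) {c : G} (hc : c ∈ P ⊓ centralizer (zl (S : Subgroup G) P : Set G)) : Al M i c 1 := by
  refine ⟨hc.1, fun v hv m => ?_, fun d hd => ?_⟩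
  · have h1 : v * c = c * v := mem_centralizer_iff.1 hc.2 v hv
    rw [← h1, mul_inv_cancel_right, one1_one, ap_one]
  · exact (mem_centralizer_iff.1 hc.2 d (cv_le _ _ hd)).symm

theorem P_norm_CV : P ≤ normalizer ((P ⊓ centralizer (zl (S : Subgroup G) P : Set G) : Subgroup G) : Set G) := by
  apply Two.le_normalizer_of
  intro g hg c hc
  refine mem_inf.2 ⟨mul_mem (mul_mem hg hc.1) (inv_mem hg), mem_centralizer_iff.2 fun v hv => ?_⟩
  have h1 : g⁻¹ * v * g ∈ zl (S : Subgroup G) P := by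
    have := conj_mem_zl (inv_mem hg) hv
    rwa [inv_inv] at this
  have h2 := mem_centralizer_iff.1 hc.2 _ h1
  calc v * (g * c * g⁻¹) = g * (g⁻¹ * v * g * c) * g⁻¹ := by group
    _ = g * (c * (g⁻¹ * v * g)) * g⁻¹ := by rw [h2]
    _ = _ := by group

include h in
/-- `C_P(V) ∩ S ≤ Q_i` -/
theorem inf_le_Qc (i : Fin 2) :
    (S : Subgroup G) ⊓ (P ⊓ centralizer (zl (S : Subgroup G) P : Set G)) ≤ Qc M i := by
  rintro c ⟨hcS, hc⟩
  refine mem_inf.2 ⟨⟨⟨hcS, h.le hcS⟩, (Al_of_cent S (M := M) i hc).mv⟩, mem_centralizer_iff.2 fun n hn => ?_⟩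
  exact mem_centralizer_iff.1 hc.2 n (Nc_le_zl i hn)

include hG h in
/-- **`E_i` covers `F_i` modulo `C_P(V)`** -/
theorem exists_Ec {i : Fin 2} {x : G} {B : Matrix.SpecialLinearGroup (Fin 2) F} (hx : Al M i x B) :
    ∃ c ∈ P ⊓ centralizer (zl (S : Subgroup G) P : Set G), c * x ∈ Ec M i ∧ Al M i (c * x) B := by
  have : Fact (Nat.Prime 2) := ⟨Nat.prime_two⟩
  set C : Subgroup G := P ⊓ centralizer (zl (S : Subgroup G) P : Set G) with hC
  set Q := Qc M i with hQ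
  have hQT : Q ≤ Tc M i := inf_le_left
  have hQS : Q ≤ (S : Subgroup G) := hQT.trans (Tc_le_S S i)
  have hQ2 : IsPGroup 2 Q := S.isPGroup'.to_le hQS
  have hQC : Q ≤ normalizer (C : Set G) := (hQS.trans h.le).trans (P_norm_CV S)
  have hi1 : Q ⊓ C = (S : Subgroup G) ⊓ C :=
    le_antisymm (inf_le_inf_right _ hQS) (le_inf (inf_le_Qc S h i) inf_le_right)
  have hodd : ¬ 2 ∣ Q.relIndex (Q ⊔ C) := by
    rw [relIndex_sup_eq hQC, hi1, ← relIndex_sup_eq (h.le.trans (P_norm_CV S))]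
    exact MinSimple.Basic.not_dvd_relIndex S le_sup_left
  have hconj : ∀ q ∈ Q, x * q * x⁻¹ ∈ Q ⊔ C := by
    intro q hq
    have hqP : q ∈ P := h.le (hQS hq)
    have h1 := conj_triv S hqP (Qc_triv S hq) hx.inv
    have h2 : Al M i (x * (q * x⁻¹ * q⁻¹)) 1 := (hx.mul h1).of_eq (mul_inv_cancel B)
    have h3 : x * (q * x⁻¹ * q⁻¹) ∈ C := by
      refine mem_inf.2 ⟨h2.1, mem_centralizer_iff.2 fun v hv => ?_⟩
      have h4 := Al.eq_V hG S h two_pos h2 (Al.one i) hv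
      have h5 : (1 : G) * v * 1⁻¹ = v := by group
      rw [h5] at h4
      exact (mul_inv_eq_iff_eq_mul.1 h4).symm
    have e : x * q * x⁻¹ = x * (q * x⁻¹ * q⁻¹) * q := by group
    rw [e]
    exact mul_mem (mem_sup_right h3) (mem_sup_left hq)
  obtain ⟨n, hn, h1⟩ := Lib.GoldschmidtFusion.exists_conj_le_in (p := 2) hQ2 hodd
    (D := Q.map (MulAut.conj x).toMonoidHom) (by
      rintro _ ⟨q, hq, rfl⟩
      exact hconj q hq) (hQ2.map _)
  have h2 : n ∈ ((Q ⊔ C : Subgroup G) : Set G) := hn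
  rw [coe_mul_of_left_le_normalizer_right _ _ hQC, Set.mem_mul] at h2
  obtain ⟨q, hq, c, hc, rfl⟩ := h2
  refine ⟨c, hc, mem_inf.2 ⟨⟨mul_mem hc.1 hx.1, B, ?_⟩, ?_⟩, ?_⟩
  · exact (((Al_of_cent S (M := M) i hc).mul hx).of_eq (one_mul B)).2
  · apply mem_normalizer_of_map_le
    rintro _ ⟨q', hq', rfl⟩
    have h3 : q * c * (x * q' * x⁻¹) * (q * c)⁻¹ ∈ Q := h1 ⟨_, ⟨q', hq', rfl⟩, rfl⟩
    have h4 := mul_mem (mul_mem (inv_mem hq) h3) hq
    have e : q⁻¹ * (q * c * (x * q' * x⁻¹) * (q * c)⁻¹) * q = c * x * q' * (c * x)⁻¹ := by group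
    rw [e] at h4
    exact h4
  · exact ((Al_of_cent S (M := M) i hc).mul hx).of_eq (one_mul B)

include hG h hF

/-- **HALF*** -/
theorem half_of_lifts {i : Fin 2} {H : Subgroup G} (hT : Tc M i ≤ H) (hX : ∀ B, ∃ x ∈ H, Al M i x B)
    (hH : H ⊓ centralizer (o2 H : Set G) ≤ o2 H) : Nc M i ≤ zc (o2 H) := by
  classical
  have := Fintype.ofFinite F
  obtain ⟨j, hij⟩ := exists_ne i
  have h1 := o2_le_cent hG S h hij hF hT hX
  intro n hn
  have hnV := Nc_le_zl i hn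
  have h2 : ∀ x ∈ o2 H, x * n = n * x := fun x hx => (mem_centralizer_iff.1 (h1 hx) n hn).symm
  exact mem_zc.2 ⟨hH (mem_inf.2 ⟨hT (V_le_Tc hG S h i hnV), mem_centralizer_iff.2 h2⟩), h2,
    zc_sq _ _ (zl_le_A hG S h hnV)⟩

/-- **(1) HALF*** for `L_i` -/
theorem half_Lc (i : Fin 2) : Half (Lc M i) (Nc M i) := by
  intro H hL hH
  refine half_of_lifts hG S h hF (le_sup_left.trans hL) (fun B => ?_) hH
  obtain ⟨x, hx⟩ := exists_Al M i B
  obtain ⟨c, -, h1, h2⟩ := exists_Ec hG S h hx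
  exact ⟨c * x, hL (le_sup_right (a := Tc M i) h1), h2⟩

omit hG h hF in
/-- `U_i = C_{N_i}(F_i)` -/
theorem Uc_eq (i : Fin 2) : Uc M i = Nc M i ⊓ centralizer (Fc M i : Set G) := by
  obtain ⟨j, hij⟩ := exists_ne i
  apply le_antisymm
  · rintro n ⟨hn, hd⟩
    refine mem_inf.2 ⟨hn, mem_centralizer_iff.2 fun x hx => ?_⟩
    obtain ⟨B, hB⟩ := exists_of_Fc hx
    exact hB.D hd
  · rintro n ⟨hn, hc⟩
    refine mem_inf.2 ⟨hn, ?_⟩
    have hnV := Nc_le_zl i hn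
    rw [← M.ker n hnV]
    funext m
    rcases two_cases hij m with rfl | rfl
    · by_contra h0
      obtain ⟨y, hy, hyx⟩ : ∃ y : Fin 2 → F, y ≠ 0 ∧ y ≠ M.e n m := by
        by_cases hx0 : M.e n m 0 = 0
        · refine ⟨![1, 0], fun h => one_ne_zero (congrFun h 0), fun h => ?_⟩
          have := congrFun h 0
          rw [hx0] at this
          exact one_ne_zero this
        · refine ⟨![0, 1], fun h => one_ne_zero (congrFun h 1), fun h => ?_⟩
          exact hx0 (congrFun h 0).symm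
      obtain ⟨B, hB⟩ := NatPair.exists_ap (x := M.e n m) h0 hy
      obtain ⟨x, hx⟩ := exists_Al M m B
      have h1 : x * n = n * x := mem_centralizer_iff.1 hc x hx.mem_Fc
      have h2 := hx.same hnV
      rw [h1, mul_inv_cancel_right, hB] at h2
      exact hyx h2.symm
    · exact Nc_ne hij.symm hn

end two'

end Cfsg.Agent.Omega.IId.Ns
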