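import Cfsg.Agent.Mrg.Omega.IId.Ns.Defs
import Cfsg.Agent.Mrg.Omega.HOne.NSSide
import Cfsg.Agent.Mrg.Omega.IId.Cv.HalfGen
import Cfsg.Agent.Schreier.Tools
import Cfsg.Agent.SignalizersComponents.PerfectGoingUp

section


/-!
# II.d, `k = 2`, nonsplit: (9a) and (9b)

* `comm_Q` : `w ∈ C_G(U U')` normalises `T` ==> `C_T(A)` centralises `w A w⁻¹`;
* `dec` : `UU = A C_UU(X)`, `X = ⟨A', n⁻¹ A' n⟩`.
-/

set_option autoImplicit false
set_option linter.unusedSectionVars false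

namespace Cfsg.Agent.Omega.IId.Ns

open Subgroup Cfsg Cfsg.Agent.ZN Cfsg.Agent.Lib.SL2Mat
open Cfsg.Agent.Omega.HOne.NSMod Cfsg.Agent.Omega.HOne.NSSide Cfsg.Agent.Omega.HOne.NSPair Cfsg.Agent.Omega.HOne.NSDat
open Cfsg.Agent.Omega.NatPair (ap ap_add ap_mul ap_one ap_inj ext2 ap_zero' ap_one' ap_inv_ap ap_ap_inv)
open Cfsg.Agent.MinSimple.VModule (le_normalizer_o2 zc_comm zc_sq zc_le)

universe u

variable {G : Type u} [Group G] {F : Type} [Field F]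
  {T T' L L' A A' U U' : Subgroup G} {π π' : G → Fin 2 → F} {e f g e' f' g' : F → G} {s : G → F}

/-! ### Basic facts -/

theorem cc_l {U U' : Subgroup G} {x : G} (hx : x ∈ CC U U') {u : G} (hu : u ∈ U) : x * u = u * x :=
  (mem_centralizer_iff.1 hx.1 u hu).symm

theorem cc_r {U U' : Subgroup G} {x : G} (hx : x ∈ CC U U') {u : G} (hu : u ∈ U') : x * u = u * x :=
  (mem_centralizer_iff.1 hx.2 u hu).symm

theorem fix_of_comm {x y : G} (h : x * y = y * x) : x * y * x⁻¹ = y := by rw [h, mul_inv_cancel_right]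

theorem fix_of_comm' {x y : G} (h : x * y = y * x) : x⁻¹ * y * x = y := by
  rw [mul_assoc, ← h, inv_mul_cancel_left]

theorem comm_of_fix {x y : G} (h : x * y * x⁻¹ = y) : x * y = y * x := mul_inv_eq_iff_eq_mul.1 h

theorem fix_inv {x y : G} (h : x * y * x⁻¹ = y) : x * y⁻¹ * x⁻¹ = y⁻¹ := by
  calc x * y⁻¹ * x⁻¹ = (x * y * x⁻¹)⁻¹ := by group
    _ = y⁻¹ := by rw [h]

namespace Base

variable (b : Base T T' L L' A A' U U' π π' e f g e' f' g')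

include b

theorem eU' (z : F) : e z ∈ U' := by
  obtain ⟨y, hy⟩ := b.c1 z
  rw [hy]; exact b.p.φ'.gD y

theorem gU (z : F) : g z ∈ U := b.p.φ.gD z

theorem eA (z : F) : e z ∈ A := b.p.φ.eV z
theorem fA (z : F) : f z ∈ A := b.p.φ.fV z
theorem gA (z : F) : g z ∈ A := b.p.s.r.DV (b.p.φ.gD z)

theorem UA : U ≤ A := b.p.s.r.DV

theorem U'A [Finite F] : U' ≤ A := by
  intro x hx
  obtain ⟨y, rfl⟩ := b.p.φ'.ND x (b.p.s'.r.DV hx) hx
  exact b.p.symm.eg_mem.2 y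

/-- `A` is commutative -/
theorem Ac {x y : G} (hx : x ∈ A) (hy : y ∈ A) : x * y = y * x := b.p.s.r.Vc x hx y hy

theorem A'c {x y : G} (hx : x ∈ A') (hy : y ∈ A') : x * y = y * x := b.p.s'.r.Vc x hx y hy

theorem Ai {x : G} (hx : x ∈ A) : x⁻¹ = x := b.p.s.r.inv hx

/-- `A' ≤ C_G(U U')` -/
theorem A'C : A' ≤ CC U U' := by
  intro n hn
  obtain ⟨β, hβ⟩ := b.p.s.typ n hn
  exact ⟨mem_centralizer_iff.2 fun u hu => (hβ.cen u hu).symm,
    mem_centralizer_iff.2 fun u hu => b.A'c (b.p.s'.r.DV hu) hn⟩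

theorem AC [Finite F] : A ≤ CC U U' := fun x hx =>
  ⟨mem_centralizer_iff.2 fun u hu => b.Ac (b.UA hu) hx, mem_centralizer_iff.2 fun u hu => b.Ac (b.U'A hu) hx⟩

theorem A'T : A' ≤ T := b.p.s.AS

theorem TL : T ≤ L := b.p.s.SP

/-- `T ∩ C` acts on `A` as `A'` -/
theorem tau {x : G} (hx : x ∈ T) (hc : x ∈ CC U U') :
    ∃ t : F, ∀ v ∈ A, x * v * x⁻¹ = e (t ^ 2 * π v 0) * g (t * π v 0) * v :=
  act_of b.p hx fun z => cc_r hc (b.eU' z)

theorem exists_n (t : F) : ∃ n ∈ A', Is L A U π n (lo (t ^ 2)) := b.p.s.full (t ^ 2)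

theorem act_n {t : F} {n : G} (hn : Is L A U π n (lo (t ^ 2))) {v : G} (hv : v ∈ A) :
    n * v * n⁻¹ = e (t ^ 2 * π v 0) * g (t * π v 0) * v := b.p.φ.act t n hn v hv

/-- `C_T(A) ≤ C_G(U U')` -/
theorem QC [Finite F] : T ⊓ centralizer (A : Set G) ≤ CC U U' := fun x hx =>
  ⟨mem_centralizer_iff.2 fun u hu => mem_centralizer_iff.1 hx.2 u (b.UA hu),
    mem_centralizer_iff.2 fun u hu => mem_centralizer_iff.1 hx.2 u (b.U'A hu)⟩

/-- the Weyl element -/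
theorem exists_wm : ∃ n, Is L A U π n (wm 1 one_ne_zero) := b.p.s.r.is_lift _

theorem pi_n {n : G} (hn : Is L A U π n (wm 1 one_ne_zero)) {v : G} (hv : v ∈ A) :
    π (n * v * n⁻¹) = ![π v 1, - π v 0] := by
  rw [hn.act v hv, ap_wm]
  apply ext2 <;> simp

theorem pi_n' {n : G} (hn : Is L A U π n (wm 1 one_ne_zero)) {v : G} (hv : v ∈ A) :
    π (n⁻¹ * v * n) = ![- π v 1, π v 0] := by
  have h1 : n⁻¹ * v * n ∈ A := by
    have := b.p.s.r.Vn n⁻¹ (inv_mem hn.mem) v hv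
    rwa [inv_inv] at this
  have h2 := b.pi_n hn h1
  have e1 : n * (n⁻¹ * v * n) * n⁻¹ = v := by group
  rw [e1] at h2
  rw [h2]
  apply ext2 <;> simp

/-- an element of `A` with `π = 0` is in `U` -/
theorem mem_U {v : G} (hv : v ∈ A) (h : π v = 0) : v ∈ U := (b.p.s.r.ker v hv).1 h

/-- `A = n e(F) n⁻¹ · e(F) · U` -/
theorem A_le {W : Subgroup G} {n : G} (hn : Is L A U π n (wm 1 one_ne_zero)) (h1 : ∀ z, e z ∈ W)
    (h2 : ∀ z, n * e z * n⁻¹ ∈ W) (h3 : U ≤ W) : A ≤ W := by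
  intro a ha
  have hne : ∀ z, n * e z * n⁻¹ ∈ A := fun z => b.p.s.r.Vn n hn.mem _ (b.eA z)
  have h4 : (n * e (π a 0) * n⁻¹)⁻¹ * (a * (e (π a 1))⁻¹) ∈ U := by
    refine b.mem_U (mul_mem (inv_mem (hne _)) (mul_mem ha (inv_mem (b.eA _)))) ?_
    rw [b.p.s.r.mul _ (inv_mem (hne _)) _ (mul_mem ha (inv_mem (b.eA _))), b.p.s.r.mul _ ha _ (inv_mem (b.eA _)),
      b.p.s.r.map_inv (hne _), b.p.s.r.map_inv (b.eA _), b.pi_n hn (b.eA _), b.p.φ.eπ, b.p.φ.eπ]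
    apply ext2 <;> simp [Matrix.vecHead, Matrix.vecTail]
  have e1 : a = (n * e (π a 0) * n⁻¹) * ((n * e (π a 0) * n⁻¹)⁻¹ * (a * (e (π a 1))⁻¹)) * e (π a 1) := by group
  rw [e1]
  exact mul_mem (mul_mem (h2 _) (h3 h4)) (h1 _)

end Base

/-! ### (9a) -/

/-- (9a) -/
theorem comm_Q [Finite G] [Finite F] (b : Base T T' L L' A A' U U' π π' e f g e' f' g')
    (c : Core T L A A' U U' π e g s) (hA'O : A' ≤ o2 (CC U U')) {w : G} (hw : w ∈ CC U U')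
    (hwT : w ∈ normalizer (T : Set G)) {h : G} (hh : h ∈ T ⊓ centralizer (A : Set G)) {v : G} (hv : v ∈ A) :
    h * (w * v * w⁻¹) = w * v * w⁻¹ * h := by
  have hhA : ∀ a ∈ A, h * a = a * h := fun a ha => (mem_centralizer_iff.1 hh.2 a ha).symm
  -- `x = w⁻¹ h w`
  set x := w⁻¹ * h * w with hx
  have hxT : x ∈ T := by
    have := (mem_normalizer_iff.1 (inv_mem hwT) h).1 hh.1
    rwa [inv_inv] at this
  have hxC : x ∈ CC U U' := mul_mem (mul_mem (inv_mem hw) (b.QC hh)) hw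
  obtain ⟨t, ht⟩ := b.tau hxT hxC
  have hwe : ∀ z, w * e z * w⁻¹ = e z := fun z => fix_of_comm (cc_r hw (b.eU' z))
  have hwg : ∀ z, w * g z * w⁻¹ = g z := fun z => fix_of_comm (cc_l hw (b.gU z))
  have hform : ∀ a ∈ A, h * (w * a * w⁻¹) * h⁻¹ = e (t ^ 2 * π a 0) * g (t * π a 0) * (w * a * w⁻¹) := by
    intro a ha
    have e1 : h * (w * a * w⁻¹) * h⁻¹ = w * (x * a * x⁻¹) * w⁻¹ := by rw [hx]; group
    rw [e1, ht a ha]
    calc w * (e (t ^ 2 * π a 0) * g (t * π a 0) * a) * w⁻¹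
        = (w * e (t ^ 2 * π a 0) * w⁻¹) * (w * g (t * π a 0) * w⁻¹) * (w * a * w⁻¹) := by group
      _ = _ := by rw [hwe, hwg]
  by_cases ht0 : t = 0
  · have h1 := hform v hv
    rw [ht0, zero_pow two_ne_zero, zero_mul, b.p.φ.e0, b.p.φ.g0, one_mul, one_mul] at h1
    exact comm_of_fix h1
  -- the case `t ≠ 0` : `A = w A w⁻¹`
  obtain ⟨n, hn⟩ := b.exists_wm
  have hnM : n ∈ centralizer (U : Set G) := mem_centralizer_iff.2 fun u hu => (hn.cen u hu).symm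
  have hnA : ∀ a ∈ A, n * a * n⁻¹ ∈ A := fun a ha => b.p.s.r.Vn n hn.mem a ha
  have hnA' : ∀ a ∈ A, n⁻¹ * a * n ∈ A := fun a ha => by
    have := b.p.s.r.Vn n⁻¹ (inv_mem hn.mem) a ha
    rwa [inv_inv] at this
  have hnQ := b.QL hn.mem
  set W : Subgroup G := Omega.BTwo.cj w A with hW
  have memW : ∀ y, y ∈ W ↔ w⁻¹ * y * w ∈ A := fun y => Omega.BTwo.mem_cj
  have hwW : ∀ a ∈ A, w * a * w⁻¹ ∈ W := fun a ha => Omega.BTwo.conj_mem_cj ha
  have heW : ∀ z, e z ∈ W := fun z => by rw [← hwe z]; exact hwW _ (b.eA z)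
  have hUW : U ≤ W := fun u hu => by
    have e1 : w * u * w⁻¹ = u := fix_of_comm (cc_l hw hu)
    rw [← e1]; exact hwW _ (b.UA hu)
  -- the main computation
  have key : ∀ k ∈ A', ∀ z : F, (n * k * n⁻¹) * (e z)⁻¹ * (n * k * n⁻¹)⁻¹ * e z ∈ W := by
    intro k hk z
    obtain ⟨β, hβ⟩ := b.p.s.typ k hk
    obtain ⟨r, rfl⟩ := b.p.sq β
    set κ := n * k * n⁻¹ with hκ
    have hkT : k ∈ T := b.A'T hk
    have hkA : ∀ a ∈ A, k * a * k⁻¹ ∈ A := fun a ha => b.p.s.r.Vn k (b.TL hkT) a ha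
    have hkA' : ∀ a ∈ A, k⁻¹ * a * k ∈ A := fun a ha => by
      have := b.p.s.r.Vn k⁻¹ (inv_mem (b.TL hkT)) a ha
      rwa [inv_inv] at this
    have hκA : ∀ a ∈ A, κ * a * κ⁻¹ ∈ A := by
      intro a ha
      have e1 : κ * a * κ⁻¹ = n * (k * (n⁻¹ * a * n) * k⁻¹) * n⁻¹ := by rw [hκ]; group
      rw [e1]; exact hnA _ (hkA _ (hnA' a ha))
    have hκA' : ∀ a ∈ A, κ⁻¹ * a * κ ∈ A := by
      intro a ha
      have e1 : κ⁻¹ * a * κ = n * (k⁻¹ * (n⁻¹ * a * n) * k) * n⁻¹ := by rw [hκ]; group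
      rw [e1]; exact hnA _ (hkA' _ (hnA' a ha))
    -- `a` with `t ^ 2 * π a 0 = z`
    set a := f (z / t ^ 2) with ha
    have haA : a ∈ A := b.fA _
    have hπa : π a 0 = z / t ^ 2 := by rw [ha, b.p.φ.fπ]; rfl
    set q := w * a * w⁻¹ with hq
    set ρ := e z * g (t * (z / t ^ 2)) with hρ
    have hρA : ρ ∈ A := mul_mem (b.eA _) (b.gA _)
    have hhq : h * q * h⁻¹ = ρ * q := by
      rw [hq, hform a haA, hπa, mul_div_cancel₀ _ (pow_ne_zero 2 ht0)]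
    have hqU : q ∈ UG A U := c.MU w hw.1 a (c.AU haA)
    -- `r' = [κ, q]`
    set r' := κ * q * κ⁻¹ * q⁻¹ with hr'
    have hr'e : r' = n * (e (r ^ 2 * s (n⁻¹ * q * n)) * g (r * s (n⁻¹ * q * n))) * n⁻¹ := by
      have h1 : n⁻¹ * q * n ∈ UG A U := by
        have := c.MU n⁻¹ (inv_mem hnM) q hqU
        rwa [inv_inv] at this
      have h2 := c.s_act r k hk hβ _ h1
      have e1 : r' = n * ((k * (n⁻¹ * q * n) * k⁻¹) * (n⁻¹ * q * n)⁻¹) * n⁻¹ := by rw [hr', hκ]; group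
      rw [e1, h2, mul_inv_cancel_right]
    have hr'A : r' ∈ A := by
      rw [hr'e]; exact hnA _ (mul_mem (b.eA _) (b.gA _))
    have hκr' : κ * r' = r' * κ := by
      have h1 : k * (e (r ^ 2 * s (n⁻¹ * q * n)) * g (r * s (n⁻¹ * q * n))) =
          (e (r ^ 2 * s (n⁻¹ * q * n)) * g (r * s (n⁻¹ * q * n))) * k := by
        have c1 := cc_r (b.A'C hk) (b.eU' (r ^ 2 * s (n⁻¹ * q * n)))
        have c2 := cc_l (b.A'C hk) (b.gU (r * s (n⁻¹ * q * n)))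
        rw [← mul_assoc, c1, mul_assoc, c2, ← mul_assoc]
      rw [hr'e, hκ]
      calc n * k * n⁻¹ * (n * (e (r ^ 2 * s (n⁻¹ * q * n)) * g (r * s (n⁻¹ * q * n))) * n⁻¹)
          = n * (k * (e (r ^ 2 * s (n⁻¹ * q * n)) * g (r * s (n⁻¹ * q * n)))) * n⁻¹ := by group
        _ = _ := by rw [h1]; group
    -- `k' = [h, κ]`
    set k' := h * κ * h⁻¹ * κ⁻¹ with hk'
    have hhκ : ∀ y ∈ A, h * (κ * y * κ⁻¹) * h⁻¹ = κ * y * κ⁻¹ := fun y hy => fix_of_comm (hhA _ (hκA y hy))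
    have hk'A : ∀ y ∈ A, k' * y = y * k' := by
      intro y hy
      apply comm_of_fix
      have h1 : h⁻¹ * (κ⁻¹ * y * κ) * h = κ⁻¹ * y * κ := fix_of_comm' (hhA _ (hκA' y hy))
      calc k' * y * k'⁻¹ = h * (κ * (h⁻¹ * (κ⁻¹ * y * κ) * h) * κ⁻¹) * h⁻¹ := by rw [hk']; group
        _ = h * y * h⁻¹ := by rw [h1]; group
        _ = y := fix_of_comm (hhA y hy)
    have hk'n : n⁻¹ * k' * n ∈ T ⊓ centralizer (A : Set G) := by
      constructor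
      · apply b.OT
        have h1 : n⁻¹ * h * n ∈ T ⊓ centralizer (A : Set G) := by
          have := (mem_normalizer_iff.1 (inv_mem hnQ) h).1 hh
          rwa [inv_inv] at this
        have h2 : k ∈ o2 (CC U U') := hA'O hk
        have h3 := (mem_normalizer_iff.1 (le_normalizer_o2 (CC U U') (b.QC h1)) k).1 h2
        have e1 : n⁻¹ * k' * n = (n⁻¹ * h * n * k * (n⁻¹ * h * n)⁻¹) * k⁻¹ := by rw [hk', hκ]; group
        rw [e1]
        exact mul_mem h3 (inv_mem h2)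
      · refine mem_centralizer_iff.2 fun y hy => ?_
        have h1 := hk'A _ (hnA y hy)
        calc y * (n⁻¹ * k' * n) = n⁻¹ * (n * y * n⁻¹ * k') * n := by group
          _ = n⁻¹ * (k' * (n * y * n⁻¹)) * n := by rw [h1]
          _ = _ := by group
    have hk'Q : k' ∈ T ⊓ centralizer (A : Set G) := by
      have h1 := (mem_normalizer_iff.1 hnQ _).1 hk'n
      have e1 : n * (n⁻¹ * k' * n) * n⁻¹ = k' := by group
      rwa [e1] at h1
    -- `k'` normalises `W`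
    have hk'W : k' * q * k'⁻¹ ∈ W := by
      rw [memW]
      have h1 : w⁻¹ * k' * w ∈ T := by
        have := (mem_normalizer_iff.1 (inv_mem hwT) k').1 hk'Q.1
        rwa [inv_inv] at this
      have h2 := b.p.s.r.Vn _ (b.TL h1) a haA
      have e1 : w⁻¹ * (k' * q * k'⁻¹) * w = w⁻¹ * k' * w * a * (w⁻¹ * k' * w)⁻¹ := by rw [hq]; group
      rw [e1]; exact h2
    -- the computation
    have hcomp : k' * q * k'⁻¹ = κ * ρ⁻¹ * κ⁻¹ * ρ * q := by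
      have c1 : κ⁻¹ * q * κ = r'⁻¹ * q := by
        have h1 : κ * (r'⁻¹ * q) * κ⁻¹ = q := by
          calc κ * (r'⁻¹ * q) * κ⁻¹ = (κ * r'⁻¹ * κ⁻¹) * (κ * q * κ⁻¹) := by group
            _ = r'⁻¹ * (r' * q) := by
              have h2 : κ * r'⁻¹ * κ⁻¹ = r'⁻¹ := fix_inv (fix_of_comm hκr')
              have h4 : κ * q * κ⁻¹ = r' * q := by rw [hr']; group
              rw [h2, h4]
            _ = q := by group
        calc κ⁻¹ * q * κ = κ⁻¹ * (κ * (r'⁻¹ * q) * κ⁻¹) * κ := by rw [h1]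
          _ = _ := by group
      have c2 : h⁻¹ * q * h = ρ⁻¹ * q := by
        have h1 : h * (ρ⁻¹ * q) * h⁻¹ = q := by
          calc h * (ρ⁻¹ * q) * h⁻¹ = (h * ρ⁻¹ * h⁻¹) * (h * q * h⁻¹) := by group
            _ = ρ⁻¹ * (ρ * q) := by rw [hhq, fix_of_comm (hhA _ (inv_mem hρA))]
            _ = q := by group
        calc h⁻¹ * q * h = h⁻¹ * (h * (ρ⁻¹ * q) * h⁻¹) * h := by rw [h1]
          _ = _ := by group
      have c3 : κ * q * κ⁻¹ = r' * q := by rw [hr']; group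
      have c4 : h⁻¹ * r'⁻¹ * h = r'⁻¹ := fix_of_comm' (hhA _ (inv_mem hr'A))
      have c5 : κ * r'⁻¹ * κ⁻¹ = r'⁻¹ := fix_inv (fix_of_comm hκr')
      have hκρ : κ * ρ⁻¹ * κ⁻¹ ∈ A := hκA _ (inv_mem hρA)
      calc k' * q * k'⁻¹ = h * (κ * (h⁻¹ * (κ⁻¹ * q * κ) * h) * κ⁻¹) * h⁻¹ := by rw [hk']; group
        _ = h * (κ * ((h⁻¹ * r'⁻¹ * h) * (h⁻¹ * q * h)) * κ⁻¹) * h⁻¹ := by rw [c1]; group
        _ = h * (κ * (r'⁻¹ * (ρ⁻¹ * q)) * κ⁻¹) * h⁻¹ := by rw [c4, c2]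
        _ = h * ((κ * r'⁻¹ * κ⁻¹) * (κ * ρ⁻¹ * κ⁻¹) * (κ * q * κ⁻¹)) * h⁻¹ := by group
        _ = h * (r'⁻¹ * (κ * ρ⁻¹ * κ⁻¹) * (r' * q)) * h⁻¹ := by rw [c5, c3]
        _ = h * (r'⁻¹ * ((κ * ρ⁻¹ * κ⁻¹) * r') * q) * h⁻¹ := by group
        _ = h * ((κ * ρ⁻¹ * κ⁻¹) * q) * h⁻¹ := by rw [b.Ac hκρ hr'A]; group
        _ = (h * (κ * ρ⁻¹ * κ⁻¹) * h⁻¹) * (h * q * h⁻¹) := by group
        _ = (κ * ρ⁻¹ * κ⁻¹) * (ρ * q) := by rw [hhq, fix_of_comm (hhA _ hκρ)]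
        _ = _ := by group
    have hqW : q ∈ W := hwW a haA
    have h1 : κ * ρ⁻¹ * κ⁻¹ * ρ ∈ W := by
      have h2 : κ * ρ⁻¹ * κ⁻¹ * ρ * q ∈ W := by rw [← hcomp]; exact hk'W
      have h3 := mul_mem h2 (inv_mem hqW)
      rwa [mul_inv_cancel_right] at h3
    -- remove the `g`-part
    have hκg : ∀ y, κ * g y * κ⁻¹ = g y := by
      intro y
      apply fix_of_comm
      have c1 := cc_l (b.A'C hk) (b.gU y)
      have c2 := hn.cen _ (b.gU y)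
      have c3 : n⁻¹ * g y = g y * n⁻¹ := by
        calc n⁻¹ * g y = n⁻¹ * (g y * n) * n⁻¹ := by group
          _ = n⁻¹ * (n * g y) * n⁻¹ := by rw [c2]
          _ = _ := by group
      rw [hκ]
      calc n * k * n⁻¹ * g y = n * k * (n⁻¹ * g y) := by group
        _ = n * (k * g y) * n⁻¹ := by rw [c3]; group
        _ = (n * g y) * k * n⁻¹ := by rw [c1]; group
        _ = _ := by rw [c2]; group
    have h2 : κ * ρ⁻¹ * κ⁻¹ * ρ = κ * (e z)⁻¹ * κ⁻¹ * e z := by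
      have c1 := hκg (t * (z / t ^ 2))
      have c2 : κ * (g (t * (z / t ^ 2)))⁻¹ * κ⁻¹ = (g (t * (z / t ^ 2)))⁻¹ := fix_inv c1
      calc κ * ρ⁻¹ * κ⁻¹ * ρ
          = (κ * (g (t * (z / t ^ 2)))⁻¹ * κ⁻¹) * (κ * (e z)⁻¹ * κ⁻¹) * (e z * g (t * (z / t ^ 2))) := by
            rw [hρ]; group
        _ = (g (t * (z / t ^ 2)))⁻¹ * ((κ * (e z)⁻¹ * κ⁻¹ * e z) * g (t * (z / t ^ 2))) := by rw [c2]; group
        _ = _ := by
          rw [b.Ac (mul_mem (hκA _ (inv_mem (b.eA z))) (b.eA z)) (b.gA _)]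
          group
    rwa [h2] at h1
  -- `n e(F) n⁻¹ ≤ W`
  have hneW : ∀ z, n * e z * n⁻¹ ∈ W := by
    intro z
    obtain ⟨k, hk, hkI⟩ := b.exists_n 1
    have h1 := key k hk z
    have hvz : n⁻¹ * (e z)⁻¹ * n ∈ A := hnA' _ (inv_mem (b.eA z))
    have h2 := b.act_n hkI hvz
    have h3 : π (n⁻¹ * (e z)⁻¹ * n) 0 = z := by
      rw [b.pi_n' hn (inv_mem (b.eA z)), b.p.s.r.map_inv (b.eA z), b.p.φ.eπ]
      simp
    rw [h3, one_pow, one_mul] at h2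
    have e1 : n * k * n⁻¹ * (e z)⁻¹ * (n * k * n⁻¹)⁻¹ * e z = n * (k * (n⁻¹ * (e z)⁻¹ * n) * k⁻¹) * n⁻¹ * e z := by
      group
    rw [e1, h2] at h1
    have e2 : n * (e z * g z * (n⁻¹ * (e z)⁻¹ * n)) * n⁻¹ * e z = (n * e z * n⁻¹) * (n * g z * n⁻¹) := by group
    have e3 : n * g z * n⁻¹ = g z := fix_of_comm (hn.cen _ (b.gU z))
    rw [e2, e3] at h1
    have h4 := mul_mem h1 (inv_mem (hUW (b.gU z)))
    rwa [mul_inv_cancel_right] at h4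
  have hAW : A ≤ W := b.A_le hn heW hneW hUW
  have hAW' : A = W := Subgroup.eq_of_le_of_card_ge hAW (by rw [hW, Omega.BTwo.card_cj])
  have h1 : w * v * w⁻¹ ∈ A := by rw [hAW']; exact hwW v hv
  exact hhA _ h1

/-! ### (9b) -/

section nineB

variable [Finite F] (b : Base T T' L L' A A' U U' π π' e f g e' f' g') (c : Core T L A A' U U' π e g s)

include b c in
/-- `ker s = C_UU(A')` -/
theorem s_zero {u : G} (hu : u ∈ UG A U) : s u = 0 ↔ ∀ k ∈ A', k * u = u * k := by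
  constructor
  · intro h0 k hk
    obtain ⟨β, hβ⟩ := b.p.s.typ k hk
    obtain ⟨r, rfl⟩ := b.p.sq β
    have h1 := c.s_act r k hk hβ u hu
    rw [h0, mul_zero, mul_zero, b.p.φ.e0, b.p.φ.g0, one_mul, one_mul] at h1
    exact comm_of_fix h1
  · intro h
    obtain ⟨k, hk, hkI⟩ := b.exists_n 1
    have h1 := c.s_act 1 k hk hkI u hu
    rw [h k hk, mul_inv_cancel_right, one_pow, one_mul] at h1
    have h2 : e 0 * g 0 = e (s u) * g (s u) := by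
      rw [b.p.φ.e0, b.p.φ.g0, mul_one]
      exact (right_eq_mul.1 h1).symm
    exact (b.p.φ.eg_inj b.p.s.r h2).1.symm

/-- `C_UU(X)`, `X = ⟨A', n⁻¹ A' n⟩` -/
def K0 (A A' U : Subgroup G) (n : G) : Subgroup G :=
  UG A U ⊓ centralizer (A' : Set G) ⊓ centralizer ((Omega.BTwo.cj n⁻¹ A' : Subgroup G) : Set G)

theorem mem_K0 {n u : G} : u ∈ K0 A A' U n ↔ u ∈ UG A U ∧ (∀ k ∈ A', k * u = u * k) ∧
    ∀ k ∈ A', (n⁻¹ * k * n) * u = u * (n⁻¹ * k * n) := by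
  unfold K0
  rw [mem_inf, mem_inf, mem_centralizer_iff, mem_centralizer_iff]
  constructor
  · rintro ⟨⟨h1, h2⟩, h3⟩
    refine ⟨h1, fun k hk => h2 k hk, fun k hk => h3 _ ?_⟩
    have := Omega.BTwo.conj_mem_cj (g := n⁻¹) hk
    rwa [inv_inv] at this
  · rintro ⟨h1, h2, h3⟩
    refine ⟨⟨h1, fun k hk => h2 k hk⟩, fun y hy => ?_⟩
    have h4 := Omega.BTwo.mem_cj.1 hy
    rw [inv_inv] at h4
    have h5 := h3 _ h4
    have e1 : n⁻¹ * (n * y * n⁻¹) * n = y := by group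
    rwa [e1] at h5

include b c in
/-- `K0` by coordinates -/
theorem mem_K0_iff {n : G} (hn : Is L A U π n (wm 1 one_ne_zero)) {u : G} (hu : u ∈ UG A U) :
    u ∈ K0 A A' U n ↔ s u = 0 ∧ s (n * u * n⁻¹) = 0 := by
  have hnM : n ∈ centralizer (U : Set G) := mem_centralizer_iff.2 fun u hu => (hn.cen u hu).symm
  rw [mem_K0, s_zero b c hu, s_zero b c (c.MU n hnM u hu)]
  constructor
  · rintro ⟨-, h1, h2⟩
    refine ⟨h1, fun k hk => ?_⟩
    have h3 := h2 k hk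
    calc k * (n * u * n⁻¹) = n * (n⁻¹ * k * n * u) * n⁻¹ := by group
      _ = n * (u * (n⁻¹ * k * n)) * n⁻¹ := by rw [h3]
      _ = _ := by group
  · rintro ⟨h1, h2⟩
    refine ⟨hu, h1, fun k hk => ?_⟩
    have h3 := h2 k hk
    calc n⁻¹ * k * n * u = n⁻¹ * (k * (n * u * n⁻¹)) * n := by group
      _ = n⁻¹ * (n * u * n⁻¹ * k) * n := by rw [h3]
      _ = _ := by group

include b c in
/-- (9b): an element of `UU` is `e x · k` modulo `A`, `k ∈ K0` -/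
theorem dec_ker {n : G} (hn : Is L A U π n (wm 1 one_ne_zero)) {u : G} (hu : u ∈ UG A U) (h0 : s u = 0) :
    ∃ z : F, (e z)⁻¹ * u ∈ K0 A A' U n := by
  have hnM : n ∈ centralizer (U : Set G) := mem_centralizer_iff.2 fun u hu => (hn.cen u hu).symm
  refine ⟨s (n * u * n⁻¹), ?_⟩
  have h1 := c.MU n hnM u hu
  set z := s (n * u * n⁻¹) with hz
  have heU : (e z)⁻¹ ∈ UG A U := c.AU (inv_mem (b.eA z))
  have h2 : (e z)⁻¹ * u ∈ UG A U := mul_mem heU hu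
  rw [mem_K0_iff b c hn h2, c.s_add _ heU _ hu, h0, c.s_A _ (inv_mem (b.eA z)), b.p.s.r.map_inv (b.eA z), b.p.φ.eπ]
  refine ⟨by simp, ?_⟩
  have hne : n * (e z)⁻¹ * n⁻¹ ∈ A := b.p.s.r.Vn n hn.mem _ (inv_mem (b.eA z))
  have e1 : n * ((e z)⁻¹ * u) * n⁻¹ = (n * (e z)⁻¹ * n⁻¹) * (n * u * n⁻¹) := by group
  rw [e1, c.s_add _ (c.AU hne) _ h1, ← hz, c.s_A _ hne, b.pi_n hn (inv_mem (b.eA z)), b.p.s.r.map_inv (b.eA z),
    b.p.φ.eπ]
  simp

end nineB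

end Cfsg.Agent.Omega.IId.Ns

end

section


/-!
# II.d, `k = 2`, nonsplit: `C_T(U) = C_T(U U')`; Burnside's argument modulo a normal subgroup
-/

set_option autoImplicit false
set_option linter.unusedSectionVars false

namespace Cfsg.Agent.Omega.IId.Ns

open Subgroup Cfsg Cfsg.Agent.ZN Cfsg.Agent.Lib.SL2Mat
open Cfsg.Agent.Omega.HOne.NSMod Cfsg.Agent.Omega.HOne.NSSide Cfsg.Agent.Omega.HOne.NSPair Cfsg.Agent.Omega.HOne.NSDat
open Cfsg.Agent.Omega.NatPair (ap ap_add ap_mul ap_one ap_inj ext2 ap_zero' ap_one' ap_inv_ap ap_ap_inv)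
open Cfsg.Agent.Omega.BTwo (cj mem_cj conj_mem_cj card_cj cj_mul isPGroup_cj)

universe u

variable {G : Type u} [Group G] {F : Type} [Field F]
  {T T' L L' A A' U U' : Subgroup G} {π π' : G → Fin 2 → F} {e f g e' f' g' : F → G} {s : G → F}

/-- `t ∈ T` centralising `g(F)` centralises `e(F)` -/
theorem cen_e [Finite G] [Finite F] (b : Base T T' L L' A A' U U' π π' e f g e' f' g') {t : G} (ht : t ∈ T)
    (hc : ∀ y, t * g y = g y * t) (z : F) : t * e z = e z * t := by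
  have htL := b.TL ht
  have hgi : ∀ y y', g y = g y' → y = y' := by
    intro y y' h
    have h1 := b.p.φ.g_add (y - y') y'
    rw [sub_add_cancel, h] at h1
    exact sub_eq_zero.1 (b.g1 _ (right_eq_mul.1 h1))
  obtain ⟨a, ha, haI⟩ := b.exists_n 1
  -- the conjugate of `a`
  obtain ⟨B, hB⟩ := b.p.s.r.is_conj htL haI
  obtain ⟨b', rfl⟩ := b.p.s.fz _ (mul_mem (mul_mem ht (b.A'T ha)) (inv_mem ht)) B hB
  obtain ⟨κ, rfl⟩ := b.p.sq b'
  have key : ∀ x : F, ∃ ζ x', t * e x * t⁻¹ = e ζ ∧ ζ = κ ^ 2 * x' ∧ x = κ * x' := by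
    intro x
    obtain ⟨ζ, hζ⟩ := b.p.norm_e b.g1 ht x
    have hv : t * f x * t⁻¹ ∈ A := b.p.s.r.Vn t htL _ (b.fA x)
    refine ⟨ζ, π (t * f x * t⁻¹) 0, hζ, ?_⟩
    have h1 := b.act_n haI (b.fA x)
    have h2 := b.act_n hB hv
    have hf : π (f x) 0 = x := by rw [b.p.φ.fπ]; rfl
    rw [hf, one_pow, one_mul] at h1
    have e1 : t * a * t⁻¹ * (t * f x * t⁻¹) * (t * a * t⁻¹)⁻¹ = (t * e x * t⁻¹) * (t * g x * t⁻¹) * (t * f x * t⁻¹) := by
      calc t * a * t⁻¹ * (t * f x * t⁻¹) * (t * a * t⁻¹)⁻¹ = t * (a * f x * a⁻¹) * t⁻¹ := by group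
        _ = _ := by rw [h1]; group
    rw [e1, hζ, fix_of_comm (hc x)] at h2
    obtain ⟨h3, h4⟩ := b.p.φ.eg_inj b.p.s.r (mul_right_cancel h2)
    exact ⟨h3, hgi _ _ h4⟩
  have hκ : κ ≠ 0 := by
    rintro rfl
    obtain ⟨_, x', -, -, h⟩ := key 1
    rw [zero_mul] at h
    exact one_ne_zero h
  have key2 : ∀ x : F, t * e x * t⁻¹ = e (κ * x) := by
    intro x
    obtain ⟨ζ, x', h1, h2, h3⟩ := key x
    rw [h1, h2, h3]
    congr 1; ring
  have hpow : ∀ (k : ℕ) (x : F), t ^ k * e x * (t ^ k)⁻¹ = e (κ ^ k * x) := by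
    intro k
    induction k with
    | zero => intro x; simp
    | succ k ih =>
      intro x
      have e1 : t ^ (k + 1) * e x * (t ^ (k + 1))⁻¹ = t ^ k * (t * e x * t⁻¹) * (t ^ k)⁻¹ := by
        rw [pow_succ]; group
      rw [e1, key2, ih, pow_succ, mul_assoc]
  obtain ⟨k, hk⟩ := b.T2 ⟨t, ht⟩
  have hk' : t ^ 2 ^ k = 1 := congrArg Subtype.val hk
  have h1 := hpow (2 ^ k) 1
  rw [hk', one_mul, inv_one, mul_one, mul_one] at h1
  have h2 := b.p.φ.e_inj b.p.s.r h1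
  have h3 : κ = 1 := by
    have two := b.p.s.r.two
    have : CharP F 2 := CharTwo.of_one_ne_zero_of_two_eq_zero one_ne_zero two
    have h4 : (κ - 1) ^ 2 ^ k = 0 := by
      rw [sub_pow_char_pow, ← h2, one_pow, sub_self]
    exact sub_eq_zero.1 (pow_eq_zero_iff (pow_ne_zero k two_ne_zero) |>.1 h4)
  have h5 := key2 z
  rw [h3, one_mul] at h5
  exact comm_of_fix h5

/-- A 2-subgroup of `C` is conjugate in `C` into a Sylow 2-subgroup of `C`. -/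
theorem exists_conj_le_syl [Finite G] {C T X : Subgroup G} (hX : X ≤ C) (hTp : IsPGroup 2 T)
    (hXp : IsPGroup 2 X) (hidx : ¬ 2 ∣ T.relIndex C) : ∃ c ∈ C, cj c X ≤ T := by
  have : Fact (Nat.Prime 2) := ⟨Nat.prime_two⟩
  have hS' : IsPGroup 2 (T.subgroupOf C) := hTp.comap_of_injective C.subtype Subtype.val_injective
  have hX' : IsPGroup 2 (X.subgroupOf C) := hXp.comap_of_injective C.subtype Subtype.val_injective
  obtain ⟨Q, hQ⟩ := hX'.exists_le_sylow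
  obtain ⟨c, hc⟩ := MulAction.exists_smul_eq C Q (hS'.toSylow hidx)
  refine ⟨c, c.2, ?_⟩
  rintro _ ⟨y, hy, rfl⟩
  have h1 : (⟨y, hX hy⟩ : C) ∈ (Q : Subgroup C) := hQ (Subgroup.mem_subgroupOf.2 hy)
  have h2 : c * ⟨y, hX hy⟩ * c⁻¹ ∈ ((c • Q : Sylow 2 C) : Subgroup C) := by
    rw [Sylow.coe_subgroup_smul, mem_pointwise_smul_iff_inv_smul_mem]
    have e3 : (MulAut.conj c)⁻¹ • (c * ⟨y, hX hy⟩ * c⁻¹) = ⟨y, hX hy⟩ := by
      rw [← map_inv, MulAut.smul_def, MulAut.conj_apply]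
      group
    rw [e3]
    exact h1
  rw [hc] at h2
  exact h2

/-- **Burnside's argument modulo `K`**: `P` Sylow in `H`, abelian modulo `K`, `h x h⁻¹ ≡ y`: then `m x m⁻¹ ≡ y` for some `m ∈ N_H(P)`. -/
theorem burn [Finite G] {H K P : Subgroup G} (hPH : P ≤ H) (hP : IsPGroup 2 P) (hs : ¬ 2 ∣ P.relIndex H)
    (hKn : H ≤ normalizer (K : Set G)) (hab : ∀ x ∈ P, ∀ y ∈ P, x * y * x⁻¹ * y⁻¹ ∈ K) {x y h : G} (hx : x ∈ P)
    (hy : y ∈ P) (hh : h ∈ H) (hxy : h * x * h⁻¹ * y⁻¹ ∈ K) :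
    ∃ m ∈ H, (∀ z ∈ P, m * z * m⁻¹ ∈ P) ∧ m * x * m⁻¹ * y⁻¹ ∈ K := by
  have hcK : ∀ c ∈ H, ∀ k ∈ K, c * k * c⁻¹ ∈ K := fun c hc k hk => (mem_normalizer_iff.1 (hKn hc) k).1 hk
  let C : Subgroup G :=
    { carrier := {c | c ∈ H ∧ c * y * c⁻¹ * y⁻¹ ∈ K}
      one_mem' := ⟨one_mem _, by simp⟩
      mul_mem' := by
        rintro c d ⟨hc, hc'⟩ ⟨hd, hd'⟩
        refine ⟨mul_mem hc hd, ?_⟩
        have e1 : c * d * y * (c * d)⁻¹ * y⁻¹ = c * (d * y * d⁻¹ * y⁻¹) * c⁻¹ * (c * y * c⁻¹ * y⁻¹) := by group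
        rw [e1]
        exact mul_mem (hcK c hc _ hd') hc'
      inv_mem' := by
        rintro c ⟨hc, hc'⟩
        refine ⟨inv_mem hc, ?_⟩
        have h1 := inv_mem (hcK c⁻¹ (inv_mem hc) _ hc')
        have e1 : (c⁻¹ * (c * y * c⁻¹ * y⁻¹) * c⁻¹⁻¹)⁻¹ = c⁻¹ * y * c * y⁻¹ := by group
        rw [e1] at h1
        rw [inv_inv]; exact h1 }
  have hCH : C ≤ H := fun c hc => hc.1
  have hPC : P ≤ C := fun z hz => ⟨hPH hz, hab z hz y hy⟩
  have hPC' : cj h P ≤ C := by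
    rintro _ ⟨z, hz, rfl⟩
    refine ⟨mul_mem (mul_mem hh (hPH hz)) (inv_mem hh), ?_⟩
    change h * z * h⁻¹ * y * (h * z * h⁻¹)⁻¹ * y⁻¹ ∈ K
    -- `y ≡ h x h⁻¹`
    obtain ⟨κ, hκ⟩ : ∃ κ, κ = h * x * h⁻¹ * y⁻¹ := ⟨_, rfl⟩
    have hκK : κ ∈ K := by rw [hκ]; exact hxy
    have e2 : y = κ⁻¹ * (h * x * h⁻¹) := by rw [hκ]; group
    set d := h * z * h⁻¹ with hd
    have hdH : d ∈ H := mul_mem (mul_mem hh (hPH hz)) (inv_mem hh)
    have e3 : d * y * d⁻¹ * y⁻¹ = (d * κ⁻¹ * d⁻¹) * ((h * (z * x * z⁻¹ * x⁻¹) * h⁻¹) * κ) := by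
      rw [e2, hd]; group
    rw [e3]
    exact mul_mem (hcK d hdH _ (inv_mem hκK)) (mul_mem (hcK h hh _ (hab z hz x hx)) hκK)
  have hsC : ¬ 2 ∣ P.relIndex C := by
    intro h1
    apply hs
    rw [← relIndex_mul_relIndex P C H hPC hCH]
    exact h1.mul_right _
  obtain ⟨c, hc, hcP⟩ := exists_conj_le_syl hPC' hP (isPGroup_cj hP) hsC
  refine ⟨c * h, mul_mem hc.1 hh, fun z hz => ?_, ?_⟩
  · have h1 := hcP (conj_mem_cj (g := c) (conj_mem_cj (g := h) hz))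
    have e1 : c * h * z * (c * h)⁻¹ = c * (h * z * h⁻¹) * c⁻¹ := by group
    rw [e1]; exact h1
  · have e1 : c * h * x * (c * h)⁻¹ * y⁻¹ = (c * (h * x * h⁻¹ * y⁻¹) * c⁻¹) * (c * y * c⁻¹ * y⁻¹) := by group
    rw [e1]
    exact mul_mem (hcK c hc.1 _ hxy) hc.2

end Cfsg.Agent.Omega.IId.Ns

end

section


/-!
# II.d, `k = 2`, nonsplit: (10), the end

`end_lemma` : `Sh` a Sylow 2-subgroup of `C = C_G(U U')` acting on `A` as `A'`, `T' ∩ C ≤ Sh` (up to a conjugation in `C`)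
of index at most 2, `Half L' A'`, `C_T'(A')` nonabelian: contradiction.
-/

set_option autoImplicit false
set_option linter.unusedSectionVars false
set_option linter.unusedVariables false

namespace Cfsg.Agent.Omega.IId.Ns

open Subgroup Cfsg Cfsg.Agent.ZN Cfsg.Agent.Lib.SL2Mat
open Cfsg.Agent.Omega.HOne.NSMod Cfsg.Agent.Omega.HOne.NSSide Cfsg.Agent.Omega.HOne.NSPair Cfsg.Agent.Omega.HOne.NSDat
open Cfsg.Agent.Omega.NatPair (ap ap_add ap_mul ap_one ap_inj ext2 ap_zero' ap_one' ap_inv_ap ap_ap_inv)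
open Cfsg.Agent.MinSimple.VModule (le_normalizer_o2 zc_comm zc_sq zc_le o2_isPGroup o2_le_of_sylow le_o2
  normalizer_le_normalizer_zc)
open Cfsg.Agent.Omega.BTwo (conj_mem_cj mem_cj card_cj mem_normalizer_of_conj)
open scoped commutatorElement

universe u

variable {G : Type u} [Group G] {F : Type} [Field F]

namespace EndL

/-! ### Tools -/

/-- Sylow's theorem in `N`, for a subgroup `T` with `|N : T|` odd. -/
theorem conj_into [Finite G] {N T X : Subgroup G} (hT : IsPGroup 2 T) (hd : ¬ 2 ∣ T.relIndex N)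
    (hX : IsPGroup 2 X) (hXN : X ≤ N) : ∃ c ∈ N, ∀ x ∈ X, c * x * c⁻¹ ∈ T := by
  have : Fact (Nat.Prime 2) := ⟨Nat.prime_two⟩
  have hX' : IsPGroup 2 (X.subgroupOf N) := hX.comap_subtype
  obtain ⟨S2, hS2⟩ := hX'.exists_le_sylow
  obtain ⟨c, hc⟩ := MulAction.exists_smul_eq N S2
    ((hT.comap_of_injective _ N.subtype_injective).toSylow hd)
  refine ⟨c, c.2, fun x hx => ?_⟩
  have h1 : (⟨x, hXN hx⟩ : N) ∈ (S2 : Subgroup N) := hS2 (Subgroup.mem_subgroupOf.mpr hx)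
  have h2 : c * ⟨x, hXN hx⟩ * c⁻¹ ∈ ((c • S2 : Sylow 2 N) : Subgroup N) := by
    rw [Sylow.coe_subgroup_smul]
    exact Subgroup.smul_mem_pointwise_smul _ (MulAut.conj c) _ h1
  rw [hc] at h2
  exact mem_subgroupOf.1 h2

/-- a relation between group elements and matrices compatible with the operations -/
structure Mult (R : G → Matrix.SpecialLinearGroup (Fin 2) F → Prop) : Prop where
  one : R 1 1
  mul : ∀ x y A B, R x A → R y B → R (x * y) (A * B)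
  inv : ∀ x A, R x A → R x⁻¹ A⁻¹

/-- the matrices induced by a subgroup -/
def Mult.grp {R : G → Matrix.SpecialLinearGroup (Fin 2) F → Prop} (h : Mult R) (W : Subgroup G) :
    Subgroup (Matrix.SpecialLinearGroup (Fin 2) F) where
  carrier := {A | ∃ w ∈ W, R w A}
  one_mem' := ⟨1, one_mem _, h.one⟩
  mul_mem' := by
    rintro A B ⟨x, hx, hA⟩ ⟨y, hy, hB⟩
    exact ⟨_, mul_mem hx hy, h.mul _ _ _ _ hA hB⟩
  inv_mem' := by
    rintro A ⟨x, hx, hA⟩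
    exact ⟨_, inv_mem hx, h.inv _ _ hA⟩

theorem eq_top_of_up_lo {K : Subgroup (Matrix.SpecialLinearGroup (Fin 2) F)} (h1 : ∀ b, lo b ∈ K)
    (h2 : ∀ b, up b ∈ K) (A : Matrix.SpecialLinearGroup (Fin 2) F) : A ∈ K := by
  obtain ⟨a, b, c, d, rfl⟩ := exists_up_lo A
  exact mul_mem (mul_mem (mul_mem (h2 _) (h1 _)) (h2 _)) (h1 _)

/-- a subgroup inducing `SL₂(F)` contains a perfect one -/
theorem exists_perfect [Finite G] {R : G → Matrix.SpecialLinearGroup (Fin 2) F → Prop} (h : Mult R)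
    (hω : ∃ ω : F, ω ≠ 0 ∧ ω ^ 2 ≠ 1) : ∀ (n : ℕ) (W : Subgroup G), Nat.card W = n → (∀ A, ∃ w ∈ W, R w A) →
    ∃ Y : Subgroup G, Y ≤ W ∧ ⁅Y, Y⁆ = Y ∧ ∀ A, ∃ y ∈ Y, R y A := by
  intro n
  induction n using Nat.strong_induction_on with
  | _ n ih =>
    intro W hn hW
    by_cases hp : ⁅W, W⁆ = W
    · exact ⟨W, le_rfl, hp, hW⟩
    have hle : ⁅W, W⁆ ≤ W := commutator_le_self W
    have hlt : Nat.card ↥⁅W, W⁆ < n := by
      rw [← hn]
      by_contra hc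
      exact hp (eq_of_le_of_card_ge hle (not_lt.1 hc))
    obtain ⟨ω, h0, h1⟩ := hω
    have hcm : ∀ A B, A * B * A⁻¹ * B⁻¹ ∈ h.grp ⁅W, W⁆ := by
      intro A B
      obtain ⟨x, hx, hA⟩ := hW A
      obtain ⟨y, hy, hB⟩ := hW B
      exact ⟨x * y * x⁻¹ * y⁻¹, commutator_mem_commutator hx hy,
        h.mul _ _ _ _ (h.mul _ _ _ _ (h.mul _ _ _ _ hA hB) (h.inv _ _ hA)) (h.inv _ _ hB)⟩
    have hω2 : ω ^ 2 - 1 ≠ 0 := sub_ne_zero.2 h1
    have hω3 : ω⁻¹ ^ 2 - 1 ≠ 0 := by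
      intro hc
      apply h1
      have h2 := sub_eq_zero.1 hc
      rw [inv_pow, inv_eq_one] at h2
      exact h2
    obtain ⟨Y, hY, h2, h3⟩ := ih _ hlt ⁅W, W⁆ rfl (fun A => by
      refine eq_top_of_up_lo (K := h.grp ⁅W, W⁆) (fun b => ?_) (fun b => ?_) A
      · have h2 := hcm (dg ω h0) (lo (b / (ω⁻¹ ^ 2 - 1)))
        have e1 : dg ω h0 * lo (b / (ω⁻¹ ^ 2 - 1)) * (dg ω h0)⁻¹ * (lo (b / (ω⁻¹ ^ 2 - 1)))⁻¹ = lo b := by
          have e2 : dg ω h0 * lo (b / (ω⁻¹ ^ 2 - 1)) * (dg ω h0)⁻¹ = lo (ω⁻¹ ^ 2 * (b / (ω⁻¹ ^ 2 - 1))) := by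
            rw [mul_inv_eq_iff_eq_mul]
            apply ext_ent <;> simp [ent_mul]
            field_simp
          rw [e2, lo_inv, lo_mul]
          congr 1
          field_simp
          ring
        rwa [e1] at h2
      · have h2 := hcm (dg ω h0) (up (b / (ω ^ 2 - 1)))
        have e1 : dg ω h0 * up (b / (ω ^ 2 - 1)) * (dg ω h0)⁻¹ * (up (b / (ω ^ 2 - 1)))⁻¹ = up b := by
          rw [dg_up, mul_inv_cancel_right, up_inv, up_mul]
          congr 1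
          field_simp
          ring
        rwa [e1] at h2)
    exact ⟨Y, hY.trans hle, h2, h3⟩

/-- a perfect group acts trivially on `Q / J`, `|Q : J| ≤ 4` -/
theorem comm_le_of_four [Finite G] {Q J Y : Subgroup G} (hY : ⁅Y, Y⁆ = Y)
    (hYQ : ∀ y ∈ Y, ∀ q ∈ Q, y * q * y⁻¹ ∈ Q) (hYJ : ∀ y ∈ Y, ∀ q ∈ J, y * q * y⁻¹ ∈ J)
    (h4 : J.relIndex Q ≤ 4) : ∀ y ∈ Y, ∀ q ∈ Q, q⁻¹ * (y * q * y⁻¹) ∈ J := by
  let act : MulAction Y (Q ⧸ J.subgroupOf Q) :=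
    { smul := fun y => Quotient.map' (fun q : Q => (⟨y * q * (y : G)⁻¹, hYQ y y.2 q q.2⟩ : Q)) (by
        intro a b hab
        rw [QuotientGroup.leftRel_apply, mem_subgroupOf] at hab ⊢
        have h1 := hYJ y y.2 _ hab
        have e1 : ((⟨y * a * (y : G)⁻¹, hYQ y y.2 a a.2⟩ : Q)⁻¹ * ⟨y * b * (y : G)⁻¹, hYQ y y.2 b b.2⟩ : Q) =
            (y : G) * ((a⁻¹ * b : Q) : G) * (y : G)⁻¹ := by
          push_cast
          group
        rw [e1]; exact h1)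
      one_smul := by
        intro x
        induction x using Quotient.inductionOn' with
        | _ q =>
          change Quotient.mk'' _ = Quotient.mk'' _
          congr 1
          apply Subtype.ext
          change ((1 : Y) : G) * q * ((1 : Y) : G)⁻¹ = q
          rw [Subgroup.coe_one, one_mul, inv_one, mul_one]
      mul_smul := by
        intro y z x
        induction x using Quotient.inductionOn' with
        | _ q =>
          change Quotient.mk'' _ = Quotient.mk'' _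
          congr 1
          apply Subtype.ext
          change ((y * z : Y) : G) * q * ((y * z : Y) : G)⁻¹ = y * (z * q * (z : G)⁻¹) * (y : G)⁻¹
          rw [Subgroup.coe_mul]
          group }
  intro y hy q hq
  have h1 := Schreier.Tools.perm_eq_one hY (α := Q ⧸ J.subgroupOf Q) h4 (MulAction.toPermHom Y _) ⟨y, hy⟩
    (QuotientGroup.mk ⟨q, hq⟩)
  have h2 : (QuotientGroup.mk (⟨y * q * y⁻¹, hYQ y hy q hq⟩ : Q) : Q ⧸ J.subgroupOf Q) = QuotientGroup.mk ⟨q, hq⟩ := h1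
  have h3 := QuotientGroup.eq.1 h2.symm
  rw [mem_subgroupOf] at h3
  exact h3

/-- a perfect group acts trivially on `Q / A` if it does on `J / A`, `|Q : J| ≤ 4` -/
theorem comm_le_mod [Finite G] {Q J Y A : Subgroup G} (hY : ⁅Y, Y⁆ = Y) (hQA : Q ≤ normalizer (A : Set G))
    (hYA : Y ≤ normalizer (A : Set G)) (hAJ : A ≤ J) (hYQ : ∀ y ∈ Y, ∀ q ∈ Q, y * q * y⁻¹ ∈ Q)
    (hJ : ∀ y ∈ Y, ∀ q ∈ J, y * q * y⁻¹ * q⁻¹ ∈ A) (hQJ : ∀ q ∈ Q, ∀ j ∈ J, q * j * q⁻¹ ∈ J)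
    (h4 : J.relIndex Q ≤ 4) : ∀ y ∈ Y, ∀ q ∈ Q, y * q * y⁻¹ * q⁻¹ ∈ A := by
  have hYJ : ∀ y ∈ Y, ∀ q ∈ J, y * q * y⁻¹ ∈ J := by
    intro y hy q hq
    have h1 := mul_mem (hAJ (hJ y hy q hq)) hq
    rwa [inv_mul_cancel_right] at h1
  have h1 := comm_le_of_four hY hYQ hYJ h4
  have h2 : ⁅Y, Q⁆ ≤ J := by
    rw [commutator_le]
    intro y hy q hq
    have h3 := hQJ q hq _ (h1 y hy q hq)
    have e1 : q * (q⁻¹ * (y * q * y⁻¹)) * q⁻¹ = ⁅y, q⁆ := by rw [commutatorElement_def]; group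
    rwa [e1] at h3
  have h3 : ⁅J, Y⁆ ≤ A := by
    rw [commutator_comm, commutator_le]
    intro y hy j hj
    exact hJ y hy j hj
  have h4 : ⁅⁅Y, Q⁆, Y⁆ ≤ A := (commutator_mono h2 le_rfl).trans h3
  have h5 : ⁅⁅Y, Y⁆, Q⁆ ≤ A := by
    refine SignalizersComponents.PerfectGoingUp.three_subgroups_mod hYA hYA hQA h4 ?_
    rwa [commutator_comm Q Y]
  rw [hY] at h5
  intro y hy q hq
  exact h5 (commutator_mem_commutator hy hq)

/-! ### The action of `⟨cj c₀ A', ...⟩` on `A` -/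

section like

variable {T T' L L' A A' U U' : Subgroup G} {π π' : G → Fin 2 → F} {e f g e' f' g' : F → G} {s : G → F}

/-- `w` acts on `A` as an element of `L` inducing `M` -/
def Like (L A U : Subgroup G) (π : G → Fin 2 → F) (w : G) (M : Matrix.SpecialLinearGroup (Fin 2) F) : Prop :=
  ∃ x, Is L A U π x M ∧ ∀ v ∈ A, w * v * w⁻¹ = x * v * x⁻¹

theorem like_mult (r : Rig L A U π) : Mult (Like L A U π) where
  one := ⟨1, r.is_one, fun _ _ => rfl⟩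
  mul := by
    rintro w w' M M' ⟨x, hx, h⟩ ⟨x', hx', h'⟩
    refine ⟨x * x', r.is_mul hx hx', fun v hv => ?_⟩
    have e1 : w * w' * v * (w * w')⁻¹ = w * (w' * v * w'⁻¹) * w⁻¹ := by group
    rw [e1, h' v hv, h _ (r.Vn x' hx'.mem v hv)]
    group
  inv := by
    rintro w M ⟨x, hx, h⟩
    refine ⟨x⁻¹, r.is_inv hx, fun v hv => ?_⟩
    have h1 := h _ (r.Vn x⁻¹ (inv_mem hx.mem) v hv)
    have e1 : x * (x⁻¹ * v * x⁻¹⁻¹) * x⁻¹ = v := by group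
    rw [e1] at h1
    calc w⁻¹ * v * w⁻¹⁻¹ = w⁻¹ * (w * (x⁻¹ * v * x⁻¹⁻¹) * w⁻¹) * w := by rw [h1]; group
      _ = _ := by group

/-- elements with the same matrix act in the same way -/
theorem Like.eq (r : Rig L A U π) {w w' : G} {M : Matrix.SpecialLinearGroup (Fin 2) F} (h : Like L A U π w M)
    (h' : Like L A U π w' M) {v : G} (hv : v ∈ A) : w * v * w⁻¹ = w' * v * w'⁻¹ := by
  obtain ⟨x, hx, h⟩ := h
  obtain ⟨x', hx', h'⟩ := h'
  rw [h v hv, h' v hv, r.is_eq hx hx' v hv]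

theorem Like.conj (r : Rig L A U π) {w : G} {M : Matrix.SpecialLinearGroup (Fin 2) F} (h : Like L A U π w M)
    {v : G} (hv : v ∈ A) : w * v * w⁻¹ ∈ A := by
  obtain ⟨x, hx, h⟩ := h
  rw [h v hv]
  exact r.Vn x hx.mem v hv

variable (b : Base T T' L L' A A' U U' π π' e f g e' f' g')

theorem cc_symm (U U' : Subgroup G) : CC U' U = CC U U' := inf_comm _ _

include b

/-- `A' ≤ O₂(C_G(U U'))` -/
theorem A'O [Finite G] : A' ≤ o2 (CC U U') := by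
  have h1 : CC U U' ≤ normalizer (U' : Set G) := inf_le_right.trans (centralizer_le_normalizer _)
  have h2 : CC U U' ≤ normalizer ((o2 (normalizer (U' : Set G)) ⊓ CC U U' : Subgroup G) : Set G) := by
    intro x hx
    apply mem_normalizer_of_conj
    intro y hy
    rw [mem_inf] at hy ⊢
    exact ⟨(mem_normalizer_iff.1 (le_normalizer_o2 _ (h1 hx)) y).1 hy.1,
      mul_mem (mul_mem hx hy.2) (inv_mem hx)⟩
  exact (le_inf (b.AZ'.trans (zc_le _)) b.A'C).trans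
    (le_o2 inf_le_right ((o2_isPGroup _).to_le inf_le_left) h2)

theorem A'T' [Finite G] : A' ≤ T' := (A'O b).trans b.OT'

/-- a conjugate by `c ∈ C` of `n ∈ A'` acts on `A` as `n` -/
theorem act_cj (c : Core T L A A' U U' π e g s) {c₀ : G} (hc₀ : c₀ ∈ CC U U') {n : G} (hn : n ∈ A') {t : F}
    (hI : Is L A U π n (lo (t ^ 2))) {v : G} (hv : v ∈ A) :
    (c₀ * n * c₀⁻¹) * v * (c₀ * n * c₀⁻¹)⁻¹ = e (t ^ 2 * π v 0) * g (t * π v 0) * v := by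
  have hcU : c₀ ∈ centralizer (U : Set G) := hc₀.1
  have h1 : c₀⁻¹ * v * c₀⁻¹⁻¹ ∈ UG A U := c.MU c₀⁻¹ (inv_mem hcU) v (c.AU hv)
  have h2 := c.s_act t n hn hI _ h1
  have h3 : s (c₀⁻¹ * v * c₀⁻¹⁻¹) = π v 0 := c.s_conj c₀⁻¹ (inv_mem hc₀) v hv
  rw [h3] at h2
  have h4 : c₀ * e (t ^ 2 * π v 0) * c₀⁻¹ = e (t ^ 2 * π v 0) := fix_of_comm (cc_r hc₀ (b.eU' _))
  have h5 : c₀ * g (t * π v 0) * c₀⁻¹ = g (t * π v 0) := fix_of_comm (cc_l hc₀ (b.gU _))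
  calc (c₀ * n * c₀⁻¹) * v * (c₀ * n * c₀⁻¹)⁻¹ = c₀ * (n * (c₀⁻¹ * v * c₀⁻¹⁻¹) * n⁻¹) * c₀⁻¹ := by group
    _ = (c₀ * e (t ^ 2 * π v 0) * c₀⁻¹) * (c₀ * g (t * π v 0) * c₀⁻¹) * v := by rw [h2]; group
    _ = _ := by rw [h4, h5]

theorem like_cj (c : Core T L A A' U U' π e g s) {c₀ : G} (hc₀ : c₀ ∈ CC U U') {n : G} (hn : n ∈ A') {t : F}
    (hI : Is L A U π n (lo (t ^ 2))) : Like L A U π (c₀ * n * c₀⁻¹) (lo (t ^ 2)) :=
  ⟨n, hI, fun v hv => by rw [act_cj b c hc₀ hn hI hv, b.act_n hI hv]⟩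

/-- `[A', T' ∩ C] ≤ U U'` -/
theorem comm_TC [Finite F] {n x : G} (hn : n ∈ A') (hx : x ∈ T') (hC : x ∈ CC U U') :
    ∃ u ∈ U, ∃ u' ∈ U', n * x * n⁻¹ * x⁻¹ = u * u' := by
  obtain ⟨t, ht⟩ := b.symm.tau hx (by rw [cc_symm]; exact hC)
  have h1 := ht n hn
  refine ⟨(e' (t ^ 2 * π' n 0))⁻¹, inv_mem (b.symm.eU' _), (g' (t * π' n 0))⁻¹, inv_mem (b.symm.gU _), ?_⟩
  have h2 : n * x * n⁻¹ * x⁻¹ = n * (x * n * x⁻¹)⁻¹ := by group
  rw [h2, h1]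
  have h3 := b.A'c (b.p.s'.r.DV (b.symm.gU (t * π' n 0))) (b.symm.eA (t ^ 2 * π' n 0))
  calc n * (e' (t ^ 2 * π' n 0) * g' (t * π' n 0) * n)⁻¹ = (e' (t ^ 2 * π' n 0) * g' (t * π' n 0))⁻¹ := by group
    _ = (g' (t * π' n 0) * e' (t ^ 2 * π' n 0))⁻¹ := by rw [h3]
    _ = _ := by group

end like

end EndL

/-- **(10)** -/
theorem end_lemma [Finite G] [Finite F] {T T' L L' A A' U U' : Subgroup G} {π π' : G → Fin 2 → F}
    {e f g e' f' g' : F → G} {s : G → F} (hG : IsCharacteristicTwoType G) (h4 : 4 ≤ Nat.card F)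
    (b : Base T T' L L' A A' U U' π π' e f g e' f' g') (c : Core T L A A' U U' π e g s) {Sh : Subgroup G}
    (hp : IsPGroup 2 Sh) (hC : Sh ≤ CC U U') (hsy : ¬ 2 ∣ Sh.relIndex (CC U U'))
    (hact : ∀ x ∈ Sh, ∃ t : F, ∀ v ∈ A, x * v * x⁻¹ = e (t ^ 2 * π v 0) * g (t * π v 0) * v)
    {c₀ : G} (hc₀ : c₀ ∈ CC U U') (hle : Omega.BTwo.cj c₀ (T' ⊓ CC U U') ≤ Sh)
    (h2 : Nat.card Sh ≤ 2 * Nat.card ↥(T' ⊓ CC U U')) (hhalf : Half L' A')
    (hna : ∃ x ∈ T' ⊓ centralizer (A' : Set G), ∃ y ∈ T' ⊓ centralizer (A' : Set G), x * y ≠ y * x) : False := by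
  have r := b.p.s.r
  have hAA : ∀ v ∈ A, ∀ w ∈ A, v * w = w * v := r.Vc
  -- `A` and `Sh`
  have hAO : A ≤ o2 (CC U U') := c.AU.trans c.UO
  have hOS : o2 (CC U U') ≤ Sh := o2_le_of_sylow hp hsy
  have hcO : ∀ z ∈ CC U U', ∀ x ∈ o2 (CC U U'), z * x * z⁻¹ ∈ o2 (CC U U') := fun z hz x hx =>
    (mem_normalizer_iff.1 (le_normalizer_o2 _ hz) x).1 hx
  have hShA : ∀ x ∈ Sh, ∀ v ∈ A, x * v * x⁻¹ ∈ A := by
    intro x hx v hv
    obtain ⟨t, ht⟩ := hact x hx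
    rw [ht v hv]
    exact mul_mem (mul_mem (b.eA _) (b.gA _)) hv
  have hShN : Sh ≤ normalizer (A : Set G) := fun x hx => mem_normalizer_of_conj (hShA x hx)
  have hNC : normalizer (A : Set G) ≤ normalizer (centralizer (A : Set G) : Set G) := by
    intro x hx
    apply mem_normalizer_of_conj
    intro y hy
    rw [mem_centralizer_iff] at hy ⊢
    intro v hv
    have h1 : x⁻¹ * v * x ∈ A := by
      have := (mem_normalizer_iff.1 (inv_mem hx) v).1 hv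
      rwa [inv_inv] at this
    have h3 := hy _ h1
    calc v * (x * y * x⁻¹) = x * (x⁻¹ * v * x * y) * x⁻¹ := by group
      _ = x * (y * (x⁻¹ * v * x)) * x⁻¹ := by rw [h3]
      _ = _ := by group
  have hCC : centralizer (A : Set G) ≤ CC U U' := fun x hx =>
    ⟨mem_centralizer_iff.2 fun u hu => mem_centralizer_iff.1 hx u (b.UA hu),
      mem_centralizer_iff.2 fun u hu => mem_centralizer_iff.1 hx u (b.U'A hu)⟩
  -- `Q` is a Sylow 2-subgroup of `C_G(A)`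
  set Q : Subgroup G := Sh ⊓ centralizer (A : Set G) with hQ
  have hQ2 : IsPGroup 2 Q := hp.to_le inf_le_left
  have hQA : ∀ q ∈ Q, ∀ a ∈ A, q * a = a * q := fun q hq a ha => (mem_centralizer_iff.1 hq.2 a ha).symm
  have hQodd : ¬ 2 ∣ Q.relIndex (centralizer (A : Set G)) := by
    intro hd
    apply hsy
    rw [hQ, inf_relIndex_right, ← Cv.XNorm.relIndex_sup_eq (hShN.trans hNC)] at hd
    have h1 := relIndex_mul_relIndex Sh (centralizer (A : Set G) ⊔ Sh) (CC U U') le_sup_right (sup_le hCC hC)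
    rw [← h1]
    exact hd.mul_right _
  have hShQ : ∀ x ∈ Sh, ∀ q ∈ Q, x * q * x⁻¹ ∈ Q := fun x hx q hq =>
    mem_inf.2 ⟨mul_mem (mul_mem hx (mem_inf.1 hq).1) (inv_mem hx),
      (mem_normalizer_iff.1 (hNC (hShN hx)) q).1 (mem_inf.1 hq).2⟩
  have hAQ : A ≤ Q := fun a ha => mem_inf.2 ⟨hOS (hAO ha), mem_centralizer_iff.2 fun v hv => hAA v hv a ha⟩
  -- the Weyl element `l`, normalising `Q`
  obtain ⟨n, hn⟩ := b.exists_wm
  have hnA : n ∈ normalizer (A : Set G) := mem_normalizer_of_conj fun v hv => r.Vn n hn.mem v hv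
  obtain ⟨z, hz, hzQ⟩ := EndL.conj_into hQ2 hQodd (X := Omega.BTwo.cj n Q) (hQ2.map _) (by
      intro x hx
      have h1 := (mem_normalizer_iff.1 (hNC hnA) _).1 (mem_inf.1 (mem_cj.1 hx)).2
      have e1 : n * (n⁻¹ * x * n) * n⁻¹ = x := by group
      rwa [e1] at h1)
  obtain ⟨l, hl⟩ : ∃ l, l = z * n := ⟨_, rfl⟩
  have hlQ : l ∈ normalizer (Q : Set G) := mem_normalizer_of_conj fun q hq => by
    have h1 := hzQ _ (conj_mem_cj (g := n) hq)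
    have e1 : z * (n * q * n⁻¹) * z⁻¹ = l * q * l⁻¹ := by rw [hl]; group
    rwa [e1] at h1
  have hlL : EndL.Like L A U π l (wm 1 one_ne_zero) := by
    refine ⟨n, hn, fun v hv => ?_⟩
    have h1 : z * (n * v * n⁻¹) * z⁻¹ = n * v * n⁻¹ :=
      fix_of_comm (mem_centralizer_iff.1 hz _ (r.Vn n hn.mem v hv)).symm
    calc l * v * l⁻¹ = z * (n * v * n⁻¹) * z⁻¹ := by rw [hl]; group
      _ = _ := h1
  have hlA : l ∈ normalizer (A : Set G) := mem_normalizer_of_conj fun v hv => hlL.conj r hv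
  have inv_norm : ∀ {X : Subgroup G} {x : G}, x ∈ normalizer (X : Set G) → ∀ {y : G}, y ∈ X → x⁻¹ * y * x ∈ X := by
    intro X x hx y hy
    have := (mem_normalizer_iff.1 (inv_mem hx) y).1 hy
    rwa [inv_inv] at this
  have norm_c : ∀ {X : Subgroup G} {x : G}, x ∈ normalizer (X : Set G) → ∀ {y : G}, y ∈ X → x * y * x⁻¹ ∈ X := by
    intro X x hx y hy
    exact (mem_normalizer_iff.1 hx y).1 hy
  -- `J`
  set J₁ : Subgroup G := Q ⊓ Omega.BTwo.cj c₀ (T' ⊓ CC U U') with hJ₁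
  set J₂ : Subgroup G := Omega.BTwo.cj l J₁ with hJ₂
  have hOC : o2 (CC U U') ≤ CC U U' := Cfsg.Agent.MinSimple.VModule.o2_le _
  have hAJ₁ : A ≤ J₁ := by
    intro a ha
    refine mem_inf.2 ⟨hAQ ha, mem_cj.2 ?_⟩
    have h1 := hcO _ (inv_mem hc₀) a (hAO ha)
    rw [inv_inv] at h1
    exact mem_inf.2 ⟨b.OT' h1, hOC h1⟩
  have hAJ₂ : A ≤ J₂ := fun a ha => mem_cj.2 (hAJ₁ (inv_norm hlA ha))
  have hJ₁Q : J₁ ≤ Q := inf_le_left
  have hJ₂Q : J₂ ≤ Q := by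
    intro x hx
    have h1 := norm_c hlQ (hJ₁Q (mem_cj.1 hx))
    have e1 : l * (l⁻¹ * x * l) * l⁻¹ = x := by group
    rwa [e1] at h1
  -- index at most 2
  have hi0 : (Omega.BTwo.cj c₀ (T' ⊓ CC U U')).relIndex Sh ≤ 2 := by
    have h1 : Nat.card ↥(Omega.BTwo.cj c₀ (T' ⊓ CC U U')) * (Omega.BTwo.cj c₀ (T' ⊓ CC U U')).relIndex Sh =
        Nat.card Sh := by
      rw [Subgroup.relIndex, ← Nat.card_congr (Subgroup.subgroupOfEquivOfLe hle).toEquiv]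
      exact Subgroup.card_mul_index _
    rw [card_cj] at h1
    have h3 : 0 < Nat.card ↥(T' ⊓ CC U U') := Nat.card_pos
    rw [← h1, mul_comm 2] at h2
    exact Nat.le_of_mul_le_mul_left h2 h3
  have hi1 : J₁.relIndex Q ≤ 2 := by
    rw [hJ₁, inf_relIndex_left]
    refine (relIndex_le_of_le_right inf_le_left ?_).trans hi0
    unfold relIndex
    exact index_ne_zero_of_finite
  have hi2 : J₂.relIndex Q ≤ 2 := by
    have h1 : Omega.BTwo.cj l Q = Q := Omega.BTwo.cj_eq_self_iff.2 hlQ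
    have h3 : (Omega.BTwo.cj l J₁).relIndex (Omega.BTwo.cj l Q) = J₁.relIndex Q := by
      unfold Omega.BTwo.cj
      exact relIndex_map_map_of_injective _ _ (MulAut.conj l).injective
    rw [h1] at h3
    rw [hJ₂, h3]
    exact hi1
  have hn1 : ∀ q ∈ Q, ∀ j ∈ J₁, q * j * q⁻¹ ∈ J₁ := by
    have h1 : (J₁.subgroupOf Q).Normal := by
      have h3 : (J₁.subgroupOf Q).index ≤ 2 := hi1
      have h5 : (J₁.subgroupOf Q).index ≠ 0 := index_ne_zero_of_finite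
      have h6 : (J₁.subgroupOf Q).index = 1 ∨ (J₁.subgroupOf Q).index = 2 := by omega
      rcases h6 with h6 | h6
      · rw [index_eq_one] at h6
        rw [h6]; infer_instance
      · exact normal_of_index_eq_two h6
    intro q hq j hj
    have h3 := h1.conj_mem ⟨j, hJ₁Q hj⟩ (mem_subgroupOf.2 hj) ⟨q, hq⟩
    exact mem_subgroupOf.1 h3
  have hn2 : ∀ q ∈ Q, ∀ j ∈ J₂, q * j * q⁻¹ ∈ J₂ := by
    intro q hq j hj
    rw [hJ₂, mem_cj] at hj ⊢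
    have h1 := hn1 _ (inv_norm hlQ hq) _ hj
    have e1 : l⁻¹ * q * l * (l⁻¹ * j * l) * (l⁻¹ * q * l)⁻¹ = l⁻¹ * (q * j * q⁻¹) * l := by group
    rwa [e1] at h1
  set J : Subgroup G := J₁ ⊓ J₂ with hJ
  have hAJ : A ≤ J := le_inf hAJ₁ hAJ₂
  have hiJ : J.relIndex Q ≤ 4 :=
    relIndex_inf_le.trans ((Nat.mul_le_mul hi1 hi2).trans (by norm_num))
  have hnJ : ∀ q ∈ Q, ∀ j ∈ J, q * j * q⁻¹ ∈ J := fun q hq j hj =>
    mem_inf.2 ⟨hn1 q hq j (mem_inf.1 hj).1, hn2 q hq j (mem_inf.1 hj).2⟩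
  -- the group `W`
  have hUA : U ≤ A := b.UA
  have hU'A : U' ≤ A := b.U'A
  have hA'C : A' ≤ T' ⊓ CC U U' := le_inf (EndL.A'T' b) b.A'C
  have hcSh : ∀ x ∈ A', c₀ * x * c₀⁻¹ ∈ Sh := fun x hx => hle (conj_mem_cj (hA'C hx))
  have hcJ : ∀ x ∈ A', ∀ j ∈ J₁, (c₀ * x * c₀⁻¹) * j * (c₀ * x * c₀⁻¹)⁻¹ * j⁻¹ ∈ A := by
    intro x hx j hj
    have h1 := mem_inf.1 (mem_cj.1 (mem_inf.1 hj).2)
    obtain ⟨u, hu, u', hu', h3⟩ := EndL.comm_TC b hx h1.1 h1.2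
    have e1 : (c₀ * x * c₀⁻¹) * j * (c₀ * x * c₀⁻¹)⁻¹ * j⁻¹ =
        c₀ * (x * (c₀⁻¹ * j * c₀) * x⁻¹ * (c₀⁻¹ * j * c₀)⁻¹) * c₀⁻¹ := by group
    have h5 : c₀ * u * c₀⁻¹ = u := fix_of_comm (cc_l hc₀ hu)
    have h6 : c₀ * u' * c₀⁻¹ = u' := fix_of_comm (cc_r hc₀ hu')
    have e2 : c₀ * (u * u') * c₀⁻¹ = (c₀ * u * c₀⁻¹) * (c₀ * u' * c₀⁻¹) := by group
    rw [e1, h3, e2, h5, h6]
    exact mul_mem (hUA hu) (hU'A hu')
  -- the subgroup of all good elements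
  let Z₁ : Subgroup G :=
    { carrier := {w | w ∈ normalizer (Q : Set G) ∧ w ∈ normalizer (A : Set G) ∧ ∀ j ∈ J, w * j * w⁻¹ * j⁻¹ ∈ A}
      one_mem' := ⟨one_mem _, one_mem _, fun j _ => by
        have e1 : (1 : G) * j * 1⁻¹ * j⁻¹ = 1 := by group
        rw [e1]; exact one_mem _⟩
      mul_mem' := by
        rintro x y ⟨hx1, hx2, hx3⟩ ⟨hy1, hy2, hy3⟩
        refine ⟨mul_mem hx1 hy1, mul_mem hx2 hy2, fun j hj => ?_⟩
        have e1 : x * y * j * (x * y)⁻¹ * j⁻¹ = (x * (y * j * y⁻¹ * j⁻¹) * x⁻¹) * (x * j * x⁻¹ * j⁻¹) := by group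
        rw [e1]
        exact mul_mem (norm_c hx2 (hy3 j hj)) (hx3 j hj)
      inv_mem' := by
        rintro x ⟨hx1, hx2, hx3⟩
        refine ⟨inv_mem hx1, inv_mem hx2, fun j hj => ?_⟩
        have e1 : x⁻¹ * j * x⁻¹⁻¹ * j⁻¹ = x⁻¹ * (x * j * x⁻¹ * j⁻¹)⁻¹ * x := by group
        rw [e1]
        exact inv_norm hx2 (inv_mem (hx3 j hj)) }
  obtain ⟨W, hW⟩ : ∃ W : Subgroup G, W = Omega.BTwo.cj c₀ A' ⊔ Omega.BTwo.cj l (Omega.BTwo.cj c₀ A') := ⟨_, rfl⟩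
  have hWZ : W ≤ Z₁ := by
    rw [hW]
    have h1 : ∀ x ∈ A', c₀ * x * c₀⁻¹ ∈ normalizer (Q : Set G) ∧ c₀ * x * c₀⁻¹ ∈ normalizer (A : Set G) ∧
        ∀ j ∈ J₁, (c₀ * x * c₀⁻¹) * j * (c₀ * x * c₀⁻¹)⁻¹ * j⁻¹ ∈ A := fun x hx =>
      ⟨mem_normalizer_of_conj (hShQ _ (hcSh x hx)), hShN (hcSh x hx), hcJ x hx⟩
    refine sup_le ?_ ?_
    · rintro _ ⟨x, hx, rfl⟩
      obtain ⟨h3, h5, h6⟩ := h1 x hx
      exact ⟨h3, h5, fun j hj => h6 j (mem_inf.1 hj).1⟩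
    · rintro _ ⟨_, ⟨x, hx, rfl⟩, rfl⟩
      obtain ⟨h3, h5, h6⟩ := h1 x hx
      change l * (c₀ * x * c₀⁻¹) * l⁻¹ ∈ Z₁
      refine ⟨mul_mem (mul_mem hlQ h3) (inv_mem hlQ), mul_mem (mul_mem hlA h5) (inv_mem hlA), fun j hj => ?_⟩
      have h7 := norm_c hlA (h6 _ (mem_cj.1 (mem_inf.1 hj).2))
      have e1 : l * ((c₀ * x * c₀⁻¹) * (l⁻¹ * j * l) * (c₀ * x * c₀⁻¹)⁻¹ * (l⁻¹ * j * l)⁻¹) * l⁻¹ =
        l * (c₀ * x * c₀⁻¹) * l⁻¹ * j * (l * (c₀ * x * c₀⁻¹) * l⁻¹)⁻¹ * j⁻¹ := by group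
      rwa [e1] at h7
  -- `W` induces `SL₂(F)`
  have two := r.two
  have hm := EndL.like_mult r
  have hlo : ∀ β, ∃ w ∈ Omega.BTwo.cj c₀ A', EndL.Like L A U π w (lo β) := by
    intro β
    obtain ⟨t, rfl⟩ := b.p.sq β
    obtain ⟨x, hx, hxI⟩ := b.exists_n t
    exact ⟨_, conj_mem_cj hx, EndL.like_cj b c hc₀ hx hxI⟩
  have hWall : ∀ M, ∃ w ∈ W, EndL.Like L A U π w M := by
    intro M
    refine EndL.eq_top_of_up_lo (K := hm.grp W) (fun β => ?_) (fun β => ?_) M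
    · obtain ⟨w, hw, h1⟩ := hlo β
      exact ⟨w, by rw [hW]; exact mem_sup_left hw, h1⟩
    · obtain ⟨w, hw, h1⟩ := hlo (-β)
      refine ⟨l * w * l⁻¹, by rw [hW]; exact mem_sup_right (conj_mem_cj hw), ?_⟩
      have h3 := hm.mul _ _ _ _ (hm.mul _ _ _ _ hlL h1) (hm.inv _ _ hlL)
      have h5 : wm (1 : F) one_ne_zero * lo (-β) * (wm 1 one_ne_zero)⁻¹ = up β := by
        rw [wm_lo, one_pow, mul_one, neg_neg, mul_inv_cancel_right]
      rwa [h5] at h3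
  have hω : ∃ ω : F, ω ≠ 0 ∧ ω ^ 2 ≠ 1 := by
    obtain ⟨ω, h0, h1⟩ := b.p.ω
    refine ⟨ω, h0, fun h3 => h1 ?_⟩
    have h5 : (ω - 1) ^ 2 = 0 := by linear_combination h3 + (1 - ω) * two
    exact sub_eq_zero.1 (pow_eq_zero_iff two_ne_zero |>.1 h5)
  obtain ⟨Y, hYW, hYp, hYall⟩ := EndL.exists_perfect hm hω _ W rfl hWall
  -- `Y` is trivial on `Q / A`
  have hYQA : ∀ y ∈ Y, ∀ q ∈ Q, y * q * y⁻¹ * q⁻¹ ∈ A := by
    have hQN : Q ≤ normalizer (A : Set G) := inf_le_left.trans hShN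
    refine EndL.comm_le_mod hYp hQN (fun y hy => (hWZ (hYW hy)).2.1) hAJ
      (fun y hy q hq => norm_c (hWZ (hYW hy)).1 hq) (fun y hy => (hWZ (hYW hy)).2.2) hnJ hiJ
  -- `K`
  obtain ⟨K, hK⟩ : ∃ K : Subgroup G, K = closure {x | ∃ d ∈ T' ⊓ centralizer (A' : Set G), x = d * d} := ⟨_, rfl⟩
  have hKT : K ≤ T' := by
    rw [hK, closure_le]
    rintro _ ⟨d, hd, rfl⟩
    exact mul_mem (mem_inf.1 hd).1 (mem_inf.1 hd).1
  have hK2 : IsPGroup 2 K := b.T2'.to_le hKT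
  have hK1 : K ≠ ⊥ := by
    intro h0
    obtain ⟨x, hx, y, hy, hxy⟩ := hna
    apply hxy
    have hsq : ∀ d ∈ T' ⊓ centralizer (A' : Set G), d * d = 1 := by
      intro d hd
      rw [← mem_bot, ← h0, hK]
      exact subset_closure ⟨d, hd, rfl⟩
    have h1 := hsq x hx
    have h3 := hsq y hy
    have h5 := hsq _ (mul_mem hx hy)
    calc x * y = x * (x * y * (x * y)) * y := by rw [h5]; group
      _ = (x * x) * y * x * (y * y) := by group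
      _ = y * x := by rw [h1, h3]; group
  have hLK : L' ≤ normalizer (K : Set G) := by
    intro x hx
    apply mem_normalizer_of_conj
    intro y hy
    rw [hK] at hy
    induction hy using closure_induction with
    | mem y hy =>
      obtain ⟨d, hd, rfl⟩ := hy
      have h1 := norm_c (b.QL' hx) hd
      have e1 : x * (d * d) * x⁻¹ = (x * d * x⁻¹) * (x * d * x⁻¹) := by group
      rw [e1, hK]
      exact subset_closure ⟨_, h1, rfl⟩
    | one => rw [mul_one, mul_inv_cancel]; exact one_mem _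
    | mul y z _ _ h1 h3 =>
      have e1 : x * (y * z) * x⁻¹ = (x * y * x⁻¹) * (x * z * x⁻¹) := by group
      rw [e1]; exact mul_mem h1 h3
    | inv y _ h1 =>
      have e1 : x * y⁻¹ * x⁻¹ = (x * y * x⁻¹)⁻¹ := by group
      rw [e1]; exact inv_mem h1
  have hAz := hhalf _ hLK (Cfsg.Agent.MinSimple.Basic.char2_normalizer hG hK2 hK1)
  -- `Y` centralises `K ^ c₀`
  have hYK : ∀ y ∈ Y, ∀ k ∈ K, y * (c₀ * k * c₀⁻¹) = (c₀ * k * c₀⁻¹) * y := by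
    intro y hy k hk
    rw [hK] at hk
    induction hk using closure_induction with
    | mem k hk =>
      obtain ⟨d, hd, rfl⟩ := hk
      have hdC : d ∈ CC U U' := by
        rw [← EndL.cc_symm]; exact b.symm.QC hd
      have hdSh : c₀ * d * c₀⁻¹ ∈ Sh := hle (conj_mem_cj (mem_inf.2 ⟨(mem_inf.1 hd).1, hdC⟩))
      obtain ⟨t, ht⟩ := hact _ hdSh
      obtain ⟨x, hx, hxI⟩ := b.exists_n t
      have hxc := hcSh x hx
      set q := (c₀ * x * c₀⁻¹)⁻¹ * (c₀ * d * c₀⁻¹) with hq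
      have hqQ : q ∈ Q := by
        refine mem_inf.2 ⟨mul_mem (inv_mem hxc) hdSh, mem_centralizer_iff.2 fun v hv => ?_⟩
        have h1 := ht v hv
        have h3 := EndL.act_cj b c hc₀ hx hxI hv
        have h5 : q * v * q⁻¹ = v := by
          calc q * v * q⁻¹ = (c₀ * x * c₀⁻¹)⁻¹ * ((c₀ * d * c₀⁻¹) * v * (c₀ * d * c₀⁻¹)⁻¹) * (c₀ * x * c₀⁻¹) := by
                rw [hq]; group
            _ = (c₀ * x * c₀⁻¹)⁻¹ * ((c₀ * x * c₀⁻¹) * v * (c₀ * x * c₀⁻¹)⁻¹) * (c₀ * x * c₀⁻¹) := by rw [h1, h3]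
            _ = v := by group
        exact (comm_of_fix h5).symm
      have hxd : x * d = d * x := mem_centralizer_iff.1 (mem_inf.1 hd).2 x hx
      have hxx : x * x = 1 := b.p.s'.r.Vs x hx
      have hqq : c₀ * (d * d) * c₀⁻¹ = q * q := by
        have e1 : q * q = c₀ * (x⁻¹ * d * (x⁻¹ * d)) * c₀⁻¹ := by rw [hq]; group
        rw [e1]
        have h1 : x⁻¹ = x := b.p.s'.r.inv hx
        rw [h1]
        calc c₀ * (d * d) * c₀⁻¹ = c₀ * ((x * x) * d * d) * c₀⁻¹ := by rw [hxx, one_mul]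
          _ = c₀ * (x * (x * d) * d) * c₀⁻¹ := by group
          _ = c₀ * (x * (d * x) * d) * c₀⁻¹ := by rw [hxd]
          _ = _ := by group
      rw [hqq]
      have h1 := hYQA y hy q hqQ
      set a := y * q * y⁻¹ * q⁻¹ with ha
      have h3 : y * q * y⁻¹ = a * q := by rw [ha]; group
      have h5 := hQA q hqQ a h1
      have h6 : a * a = 1 := r.Vs a h1
      have h7 : y * (q * q) * y⁻¹ = q * q := by
        calc y * (q * q) * y⁻¹ = (y * q * y⁻¹) * (y * q * y⁻¹) := by group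
          _ = a * (q * a) * q := by rw [h3]; group
          _ = (a * a) * q * q := by rw [h5]; group
          _ = q * q := by rw [h6, one_mul]
      exact comm_of_fix h7
    | one =>
      have e1 : c₀ * 1 * c₀⁻¹ = 1 := by group
      rw [e1, mul_one, one_mul]
    | mul k k' _ _ h1 h3 =>
      have e1 : c₀ * (k * k') * c₀⁻¹ = (c₀ * k * c₀⁻¹) * (c₀ * k' * c₀⁻¹) := by group
      rw [e1]
      exact (Commute.mul_right h1 h3).eq
    | inv k _ h1 =>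
      have e1 : c₀ * k⁻¹ * c₀⁻¹ = (c₀ * k * c₀⁻¹)⁻¹ := by group
      rw [e1]
      exact (Commute.inv_right h1).eq
  -- `cj c₀ (zc (o2 N(K)))` is normalised by `Y`
  obtain ⟨W₀, hW₀⟩ : ∃ W₀ : Subgroup G, W₀ = Omega.BTwo.cj c₀ (zc (o2 (normalizer (K : Set G)))) := ⟨_, rfl⟩
  have hYn : ∀ y ∈ Y, ∀ u ∈ W₀, y * u * y⁻¹ ∈ W₀ := by
    intro y hy u hu
    rw [hW₀, mem_cj] at hu ⊢
    have h1 : c₀⁻¹ * y * c₀ ∈ normalizer (K : Set G) := by
      apply mem_normalizer_of_conj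
      intro k hk
      have h3 := hYK y hy k hk
      have e1 : c₀⁻¹ * y * c₀ * k * (c₀⁻¹ * y * c₀)⁻¹ = c₀⁻¹ * (y * (c₀ * k * c₀⁻¹)) * y⁻¹ * c₀ := by group
      rw [e1, h3]
      have e2 : c₀⁻¹ * (c₀ * k * c₀⁻¹ * y) * y⁻¹ * c₀ = k := by group
      rw [e2]; exact hk
    have h3 := normalizer_le_normalizer_zc _ (le_normalizer_o2 _ h1)
    have h5 := norm_c h3 hu
    have e1 : c₀⁻¹ * y * c₀ * (c₀⁻¹ * u * c₀) * (c₀⁻¹ * y * c₀)⁻¹ = c₀⁻¹ * (y * u * y⁻¹) * c₀ := by group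
    rwa [e1] at h5
  have hfixC : ∀ u ∈ A', (c₀⁻¹ * u * c₀ = u) → u ∈ W₀ := by
    intro u hu h1
    rw [hW₀, mem_cj, h1]
    exact hAz hu
  have hUA' : U ≤ A' := b.symm.U'A
  have hU'A' : U' ≤ A' := b.symm.UA
  have hUW : U ≤ W₀ := fun u hu => hfixC u (hUA' hu) (fix_of_comm' (cc_l hc₀ hu))
  have hU'W : U' ≤ W₀ := fun u hu => hfixC u (hU'A' hu) (fix_of_comm' (cc_r hc₀ hu))
  have hAW : A ≤ W₀ := by
    refine b.A_le hn (fun z => hU'W (b.eU' z)) (fun z => ?_) hUW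
    obtain ⟨y, hy, hyL⟩ := hYall (wm 1 one_ne_zero)
    have h1 := hyL.eq r ⟨n, hn, fun _ _ => rfl⟩ (b.eA z)
    rw [← h1]
    exact hYn y hy _ (hU'W (b.eU' z))
  -- the end
  obtain ⟨x, hx, hxI⟩ := b.exists_n 1
  have hxW : c₀ * x * c₀⁻¹ ∈ W₀ := by
    rw [hW₀]; exact conj_mem_cj (hAz hx)
  have hab : ∀ u ∈ W₀, ∀ v ∈ W₀, u * v = v * u := by
    intro u hu v hv
    rw [hW₀, mem_cj] at hu hv
    have h1 := zc_comm _ _ hu _ hv
    calc u * v = c₀ * ((c₀⁻¹ * u * c₀) * (c₀⁻¹ * v * c₀)) * c₀⁻¹ := by group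
      _ = c₀ * ((c₀⁻¹ * v * c₀) * (c₀⁻¹ * u * c₀)) * c₀⁻¹ := by rw [h1]
      _ = v * u := by group
  have h1 := EndL.act_cj b c hc₀ hx hxI (b.fA 1)
  rw [fix_of_comm (hab _ hxW _ (hAW (b.fA 1))), b.p.φ.fπ] at h1
  simp only [Matrix.cons_val_zero, mul_one, one_pow] at h1
  have h3 : e 0 * g 0 = e 1 * g 1 := by
    rw [b.p.φ.e0, b.p.φ.g0, mul_one]
    exact (right_eq_mul.1 h1).symm
  exact zero_ne_one (b.p.φ.eg_inj r h3).1

end Cfsg.Agent.Omega.IId.Ns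

end
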