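import Cfsg.Agent.Mrg.Omega.IId.Ns.Defs
import Cfsg.Agent.Mrg.Omega.IId.Ns.Half
import Cfsg.Agent.Mrg.Omega.SQT.Rank
import Cfsg.Agent.Mrg.Omega.HOne.NSSide

section


/-!
# II.d, nonsplit: the pair (step (0))

`M : NatK F S P (zl S P) (cv S P) k`, `M' : NatK F' S' P' (zl S' P') (cv S' P') k'`, `Pair S S' P P'`.

* `Nc M i` : `Nc_le`, `Nc_e`, `Nc_ex`, `Nc_comm` (centralised by `Fc M l`, `l ≠ i`);
* `IndK M A I` : `A` induces on `V` exactly the elements `up (b i)`, `b` supported on `I`, and centralises `D`;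
* `exists_match` : for `i ∈ I` there is `i' ∈ I'` such that the elements of `V'` with `b i = 0` are those with
  `M'.e a i' 1 = 0`; `card_eq` : `|F| = |F'|`;
* `Mt M M' i i'` : `Nc M' i'` induces exactly `one1 i (up b)` on `V`, and vice versa.
-/

set_option autoImplicit false
set_option linter.unusedSectionVars false

namespace Cfsg.Agent.Omega.IId.Ns

open Subgroup Cfsg Cfsg.Agent.ZN Cfsg.Agent.ZN.ChoiceSit Cfsg.Agent.ZN.ChoiceBase Cfsg.Agent.Omega.MinPar
open Cfsg.Agent.Omega.FrameFF Cfsg.Agent.Omega.FFThm Cfsg.Agent.Lib.SL2Mat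
open Cfsg.Agent.Omega.NatPair (ap ap_add ap_mul ap_one ap_inj ext2 ap_zero' ap_one' ap_inv_ap ap_ap_inv)
open Cfsg.Agent.Omega.HOne (cv_le conj_mem_zl conj_mem_cv three exists_ap_three_sub)
open Cfsg.Agent.Omega.IId.Cv

universe u

/-! ### `Nc M i` -/

section nc

variable {G : Type u} [Group G] {F : Type} [Field F] {S P : Subgroup G} {k : ℕ}
  (M : NatK F S P (zl S P) (cv S P) k)

theorem Nc_le (i : Fin k) : Nc M i ≤ zl S P := by
  rw [Nc, closure_le]
  rintro _ ⟨x, hx, v, hv, rfl⟩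
  exact mul_mem (conj_mem_zl hx.1 hv) (inv_mem hv)

theorem Nc_e {i : Fin k} {u : G} (hu : u ∈ Nc M i) : ∀ l, l ≠ i → M.e u l = 0 := by
  have h1 : u ∈ zl S P ∧ ∀ l, l ≠ i → M.e u l = 0 := by
    induction hu using closure_induction with
    | mem x hx =>
      obtain ⟨y, ⟨hy, B, hB⟩, v, hv, rfl⟩ := hx
      refine ⟨mul_mem (conj_mem_zl hy hv) (inv_mem hv), fun l hl => ?_⟩
      rw [e_div M (conj_mem_zl hy hv) hv, Pi.sub_apply, hB.1 v hv l, one1_ne hl, ap_one, sub_self]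
    | one => exact ⟨one_mem _, fun l _ => by rw [e_one M]; rfl⟩
    | mul x y _ _ hx hy =>
      refine ⟨mul_mem hx.1 hy.1, fun l hl => ?_⟩
      rw [M.mul x hx.1 y hy.1, Pi.add_apply, hx.2 l hl, hy.2 l hl, add_zero]
    | inv x _ hx =>
      refine ⟨inv_mem hx.1, fun l hl => ?_⟩
      rw [e_inv M hx.1, Pi.neg_apply, hx.2 l hl, neg_zero]
  exact h1.2

open Classical in
theorem Nc_ex [CharP F 2] (i : Fin k) (x : Fin 2 → F) : ∃ u ∈ Nc M i, M.e u i = x := by
  obtain ⟨y, hy, hB⟩ := M.lift (one1 i (three F))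
  obtain ⟨z, hz⟩ := exists_ap_three_sub (F := F) 0 x
  obtain ⟨v, hv, hve⟩ := M.surj fun _ => z
  refine ⟨y * v * y⁻¹ * v⁻¹, subset_closure ⟨y, ⟨hy, three F, hB⟩, v, hv, rfl⟩, ?_⟩
  rw [e_div M (conj_mem_zl hy hv) hv, Pi.sub_apply, hB.1 v hv i, one1_same, hve]
  simpa using hz

end nc

section ncS

variable {G : Type u} [Group G] [Finite G] (hG : IsCharacteristicTwoType G) (S : Sylow 2 G) {P : Subgroup G}
  (h : IsParS (S : Subgroup G) P) {F : Type} [Field F] [CharP F 2] {k : ℕ}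
  (M : NatK F (S : Subgroup G) P (zl (S : Subgroup G) P) (cv (S : Subgroup G) P) k)

include hG h in
/-- `Fc M l` centralises `Nc M i` for `l ≠ i`. -/
theorem Nc_comm {i l : Fin k} (hil : l ≠ i) {x : G} (hx : x ∈ Fc M l) {u : G} (hu : u ∈ Nc M i) : x * u = u * x := by
  have hk : 0 < k := Nat.pos_of_ne_zero fun h => by subst h; exact i.elim0
  obtain ⟨hxP, C, hC⟩ := hx
  suffices h1 : Nc M i ≤ centralizer {x} by
    exact (mem_centralizer_iff.1 (h1 hu) x rfl)
  rw [Nc, closure_le]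
  rintro _ ⟨y, ⟨hy, B, hB⟩, v, hv, rfl⟩
  rw [SetLike.mem_coe, mem_centralizer_iff]
  intro z hz
  rw [Set.mem_singleton_iff] at hz
  rw [hz]
  clear hz z
  have hw := conj_mem_zl hxP hv
  -- `x y x⁻¹` acts as `y`
  have h2 : ActsSL M.e (zl (S : Subgroup G) P) (cv (S : Subgroup G) P) (x * y * x⁻¹) (one1 i B) := by
    have h3 := acts_mul M (mul_mem hxP hy) (inv_mem hxP) (acts_mul M hxP hy hC hB) (acts_inv M hxP hC)
    have e : (fun j => one1 l C j * one1 i B j * (one1 l C j)⁻¹) = one1 i B := by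
      funext j
      by_cases hj : j = l
      · subst hj
        rw [one1_ne hil, mul_one, mul_inv_cancel]
      · rw [one1_ne hj, one_mul, inv_one, mul_one]
    rwa [e] at h3
  have h3 := same_act hG S h M hk (mul_mem (mul_mem hxP hy) (inv_mem hxP)) hy h2 hB _ hw
  -- `y` commutes with `[x, v]`
  have h4 : y * (x * v * x⁻¹ * v⁻¹) = (x * v * x⁻¹ * v⁻¹) * y := by
    refine comm_sup hG S h M hk hy hB (mul_mem hw (inv_mem hv)) fun j hj => ?_
    have hji : j = i := by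
      by_contra h5
      exact hj (one1_ne h5 B)
    rw [e_div M hw hv, Pi.sub_apply, hC.1 v hv j, hji, one1_ne (Ne.symm hil), ap_one, sub_self]
  have hyw := conj_mem_zl hy hw
  have hyv := conj_mem_zl hy hv
  have h5 : y * (x * v * x⁻¹) * y⁻¹ * (y * v * y⁻¹)⁻¹ = x * v * x⁻¹ * v⁻¹ := by
    calc y * (x * v * x⁻¹) * y⁻¹ * (y * v * y⁻¹)⁻¹ = y * (x * v * x⁻¹ * v⁻¹) * y⁻¹ := by group
      _ = _ := by rw [h4]; group
  have e1 : x * (y * v * y⁻¹ * v⁻¹) * x⁻¹ = y * v * y⁻¹ * v⁻¹ := by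
    calc x * (y * v * y⁻¹ * v⁻¹) * x⁻¹ = (x * y * x⁻¹) * (x * v * x⁻¹) * (x * y * x⁻¹)⁻¹ * (x * v * x⁻¹)⁻¹ := by group
      _ = y * (x * v * x⁻¹) * y⁻¹ * (x * v * x⁻¹)⁻¹ := by rw [h3]
      _ = (x * v * x⁻¹ * v⁻¹) * (y * v * y⁻¹) * (x * v * x⁻¹)⁻¹ := by rw [← h5]; group
      _ = (y * v * y⁻¹) * (x * v * x⁻¹ * v⁻¹) * (x * v * x⁻¹)⁻¹ := by
        rw [zl_ab hG S h (mul_mem hw (inv_mem hv)) hyv]
      _ = (y * v * y⁻¹) * ((x * v * x⁻¹) * v⁻¹ * (x * v * x⁻¹)⁻¹) := by group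
      _ = (y * v * y⁻¹) * (v⁻¹ * (x * v * x⁻¹) * (x * v * x⁻¹)⁻¹) := by rw [zl_ab hG S h hw (inv_mem hv)]
      _ = _ := by group
  exact mul_inv_eq_iff_eq_mul.1 e1

end ncS

/-! ### `IndK` -/

section ind

open Classical in
theorem upd_off {n : ℕ} {K : Type} [Zero K] {J : Set (Fin n)} {i : Fin n} (hi : i ∈ J) (x : K) :
    ∀ l, l ∉ J → (Function.update 0 i x : Fin n → K) l = 0 := by
  intro l hl
  have h1 : l ≠ i := fun h => hl (by rw [h]; exact hi)
  rw [Function.update_of_ne h1]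
  rfl

variable {G : Type u} [Group G] {F : Type} [Field F] [CharP F 2] {S P : Subgroup G} {k : ℕ}

/-- `A` induces on `V` exactly the elements `up (b i)`, `b` supported on `I`. -/
structure IndK (M : NatK F S P (zl S P) (cv S P) k) (A : Subgroup G) (I : Set (Fin k)) (b : G → Fin k → F) : Prop where
  act : ∀ a ∈ A, ActsSL M.e (zl S P) (cv S P) a fun i => up (b a i)
  off : ∀ a ∈ A, ∀ i, i ∉ I → b a i = 0
  ex : ∀ c : Fin k → F, (∀ i, i ∉ I → c i = 0) → ∃ a ∈ A, b a = c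

theorem acts_up_unique (M : NatK F S P (zl S P) (cv S P) k) {a : G} {b c : Fin k → F}
    (h1 : ActsSL M.e (zl S P) (cv S P) a fun i => up (b i)) (h2 : ActsSL M.e (zl S P) (cv S P) a fun i => up (c i)) :
    b = c := by
  obtain ⟨v, hv, hve⟩ := M.surj fun _ => ![0, 1]
  funext i
  have e1 := h1.1 v hv i
  rw [h2.1 v hv i, hve, e_ap_up, e_ap_up] at e1
  have := congrFun e1 0
  simpa using this.symm

theorem exists_indK (M : NatK F S P (zl S P) (cv S P) k) {A : Subgroup G} (hA : A ≤ S) (hoff : Off (zl S P) A) :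
    ∃ I b, IndK M A I b := by
  classical
  obtain ⟨I, h1, h2⟩ := M.off A hA hoff
  choose! b hb using h1
  refine ⟨I, b, fun a ha => (hb a ha).2, fun a ha => (hb a ha).1, fun c hc => ?_⟩
  obtain ⟨a, ha, h3⟩ := h2 c hc
  exact ⟨a, ha, acts_up_unique M (hb a ha).2 h3⟩

theorem IndK.mul {M : NatK F S P (zl S P) (cv S P) k} {A : Subgroup G} {I : Set (Fin k)} {b : G → Fin k → F}
    (h : IndK M A I b) (hA : A ≤ P) {a a' : G} (ha : a ∈ A) (ha' : a' ∈ A) : b (a * a') = b a + b a' := by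
  refine acts_up_unique M (h.act _ (mul_mem ha ha')) ?_
  have h3 := acts_mul M (hA ha) (hA ha') (h.act a ha) (h.act a' ha')
  have e : (fun i => up (b a i) * up (b a' i)) = fun i => up ((b a + b a') i) := by
    funext i
    refine ext_ent ?_ ?_ ?_ ?_ <;> simp [ent_mul, add_comm]
  rwa [e] at h3

theorem IndK.one {M : NatK F S P (zl S P) (cv S P) k} {A : Subgroup G} {I : Set (Fin k)} {b : G → Fin k → F}
    (h : IndK M A I b) (hA : A ≤ P) : b 1 = 0 := by
  have := h.mul hA (one_mem A) (one_mem A)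
  rw [mul_one] at this
  exact left_eq_add.1 this

theorem IndK.inv {M : NatK F S P (zl S P) (cv S P) k} {A : Subgroup G} {I : Set (Fin k)} {b : G → Fin k → F}
    (h : IndK M A I b) (hA : A ≤ P) {a : G} (ha : a ∈ A) : b a⁻¹ = - b a := by
  have := h.mul hA (inv_mem ha) ha
  rw [inv_mul_cancel, h.one hA] at this
  exact eq_neg_of_add_eq_zero_left this.symm

end ind

/-! ### The pair -/

section pair

variable {G : Type u} [Group G] [Finite G] {F F' : Type} [Field F] [Field F'] [CharP F 2] [CharP F' 2]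

/-- The data of a pair in normal position. -/
structure PD (S S' : Sylow 2 G) (P P' : Subgroup G) {k k' : ℕ}
    (M : NatK F (S : Subgroup G) P (zl (S : Subgroup G) P) (cv (S : Subgroup G) P) k)
    (M' : NatK F' (S' : Subgroup G) P' (zl (S' : Subgroup G) P') (cv (S' : Subgroup G) P') k')
    (I : Set (Fin k)) (I' : Set (Fin k')) (b : G → Fin k → F) (c : G → Fin k' → F') : Prop where
  hG : IsCharacteristicTwoType G
  hp : Pair S S' P P'
  i1 : IndK M (zl (S' : Subgroup G) P') I b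
  i2 : IndK M' (zl (S : Subgroup G) P) I' c

variable {S S' : Sylow 2 G} {P P' : Subgroup G} {k k' : ℕ}
  {M : NatK F (S : Subgroup G) P (zl (S : Subgroup G) P) (cv (S : Subgroup G) P) k}
  {M' : NatK F' (S' : Subgroup G) P' (zl (S' : Subgroup G) P') (cv (S' : Subgroup G) P') k'}
  {I : Set (Fin k)} {I' : Set (Fin k')} {b : G → Fin k → F} {c : G → Fin k' → F'}

theorem exists_pd (hG : IsCharacteristicTwoType G) (hp : Pair S S' P P')
    (hT : NoOver (zl (S : Subgroup G) P) P) (hT' : NoOver (zl (S' : Subgroup G) P') P')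
    (M : NatK F (S : Subgroup G) P (zl (S : Subgroup G) P) (cv (S : Subgroup G) P) k)
    (M' : NatK F' (S' : Subgroup G) P' (zl (S' : Subgroup G) P') (cv (S' : Subgroup G) P') k') :
    ∃ I I' b c, PD S S' P P' M M' I I' b c := by
  obtain ⟨I, b, h1⟩ := exists_indK M hp.le (hp.off hG hT')
  obtain ⟨I', c, h2⟩ := exists_indK M' hp.le' (hp.symm.off hG hT)
  exact ⟨I, I', b, c, hG, hp, h1, h2⟩

namespace PD

theorem symm (d : PD S S' P P' M M' I I' b c) : PD S' S P' P M' M I' I c b := ⟨d.hG, d.hp.symm, d.i2, d.i1⟩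

variable (d : PD S S' P P' M M' I I' b c)

include d

theorem VP : zl (S' : Subgroup G) P' ≤ P := d.hp.le.trans d.hp.star.le

theorem V'P : zl (S : Subgroup G) P ≤ P' := d.hp.le'.trans d.hp.star'.le

/-- both descriptions of `[v, a] = 1` -/
theorem iff1 (hk : 0 < k) {a v : G} (ha : a ∈ zl (S' : Subgroup G) P') (hv : v ∈ zl (S : Subgroup G) P) :
    a * v = v * a ↔ ∀ i, b a i * M.e v i 1 = 0 :=
  comm_iff d.hG S d.hp.star M hk (d.VP ha) (d.i1.act a ha) hv

theorem iff2 (hk' : 0 < k') {a v : G} (ha : a ∈ zl (S' : Subgroup G) P') (hv : v ∈ zl (S : Subgroup G) P) :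
    a * v = v * a ↔ ∀ j, c v j * M'.e a j 1 = 0 := by
  rw [← comm_iff d.hG S' d.hp.star' M' hk' (d.V'P hv) (d.i2.act v hv) ha]
  exact eq_comm

theorem key (hk : 0 < k) (hk' : 0 < k') {a v : G} (ha : a ∈ zl (S' : Subgroup G) P')
    (hv : v ∈ zl (S : Subgroup G) P) : (∀ i, b a i * M.e v i 1 = 0) ↔ ∀ j, c v j * M'.e a j 1 = 0 := by
  rw [← d.iff1 hk ha hv, d.iff2 hk' ha hv]

open Classical in
/-- **Matching.** -/
theorem exists_match (hk : 0 < k) (hk' : 0 < k') {i : Fin k} (hi : i ∈ I) : ∃ j ∈ I',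
    (∀ a ∈ zl (S' : Subgroup G) P', b a i = 0 ↔ M'.e a j 1 = 0) ∧
      ∀ v ∈ zl (S : Subgroup G) P, M.e v i 1 ≠ 0 → (∀ l, l ≠ i → M.e v l 1 = 0) →
        c v j ≠ 0 ∧ ∀ l, l ≠ j → c v l = 0 := by
  -- the kernel for a vector of weight one
  have hK : ∀ v ∈ zl (S : Subgroup G) P, M.e v i 1 ≠ 0 → (∀ l, l ≠ i → M.e v l 1 = 0) →
      ∀ a ∈ zl (S' : Subgroup G) P', b a i = 0 ↔ ∀ j, c v j * M'.e a j 1 = 0 := by
    intro v hv hv1 hv0 a ha
    rw [← d.key hk hk' ha hv]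
    constructor
    · intro h1 l
      by_cases hl : l = i
      · rw [hl, h1, zero_mul]
      · rw [hv0 l hl, mul_zero]
    · intro h1
      exact (mul_eq_zero.1 (h1 i)).resolve_right hv1
  -- the support is not empty
  have hS : ∀ v ∈ zl (S : Subgroup G) P, M.e v i 1 ≠ 0 → (∀ l, l ≠ i → M.e v l 1 = 0) → ∃ j, c v j ≠ 0 := by
    intro v hv hv1 hv0
    by_contra h0
    push Not at h0
    obtain ⟨a, ha, hb⟩ := d.i1.ex (Function.update 0 i 1) (upd_off hi 1)
    have h1 := (hK v hv hv1 hv0 a ha).2 fun j => by rw [h0 j, zero_mul]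
    rw [hb, Function.update_self] at h1
    exact one_ne_zero h1
  -- one vector
  obtain ⟨v, hv, hve⟩ := M.surj (Function.update 0 i ![0, 1])
  have hv1 : M.e v i 1 ≠ 0 := by
    rw [hve, Function.update_self]
    exact one_ne_zero
  have hv0 : ∀ l, l ≠ i → M.e v l 1 = 0 := by
    intro l hl
    rw [hve, Function.update_of_ne hl]; rfl
  obtain ⟨j, hj⟩ := hS v hv hv1 hv0
  have hjI : j ∈ I' := by
    by_contra h0
    exact hj (d.i2.off v hv j h0)
  have h1 : ∀ a ∈ zl (S' : Subgroup G) P', b a i = 0 → M'.e a j 1 = 0 := fun a ha h0 =>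
    (mul_eq_zero.1 ((hK v hv hv1 hv0 a ha).1 h0 j)).resolve_left hj
  -- the vector acting on the factor `j` only
  obtain ⟨w, hw, hwc⟩ := d.i2.ex (Function.update 0 j 1) (upd_off hjI 1)
  have h2 : ∀ a ∈ zl (S' : Subgroup G) P', M'.e a j 1 = 0 ↔ ∀ l, b a l * M.e w l 1 = 0 := by
    intro a ha
    rw [d.key hk hk' ha hw, hwc]
    constructor
    · intro h3 l
      by_cases hl : l = j
      · rw [hl, h3, mul_zero]
      · rw [Function.update_of_ne hl]
        exact zero_mul _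
    · intro h3
      have := h3 j
      rwa [Function.update_self, one_mul] at this
  obtain ⟨a₀, ha₀, hae₀⟩ := M'.surj fun _ => ![0, 1]
  have h3 : ∃ l, b a₀ l * M.e w l 1 ≠ 0 := by
    by_contra h0
    push Not at h0
    have := (h2 a₀ ha₀).2 h0
    rw [hae₀] at this
    exact one_ne_zero this
  obtain ⟨l, hl⟩ := h3
  have hl1 : b a₀ l ≠ 0 := left_ne_zero_of_mul hl
  have hl2 : M.e w l 1 ≠ 0 := right_ne_zero_of_mul hl
  have hlI : l ∈ I := by
    by_contra h0
    exact hl1 (d.i1.off a₀ ha₀ l h0)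
  have hli : l = i := by
    by_contra h0
    obtain ⟨a, ha, hb⟩ := d.i1.ex (Function.update 0 l 1) (upd_off hlI 1)
    have h4 := h1 a ha (by rw [hb, Function.update_of_ne (Ne.symm h0)]; rfl)
    have h5 := (h2 a ha).1 h4 l
    rw [hb, Function.update_self, one_mul] at h5
    exact hl2 h5
  have h6 : ∀ a ∈ zl (S' : Subgroup G) P', b a i = 0 ↔ M'.e a j 1 = 0 := by
    intro a ha
    refine ⟨h1 a ha, fun h4 => ?_⟩
    have h5 := (h2 a ha).1 h4 l
    rw [hli] at h5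
    rw [hli] at hl2
    exact (mul_eq_zero.1 h5).resolve_right hl2
  refine ⟨j, hjI, h6, fun u hu hu1 hu0 => ?_⟩
  have h7 : ∀ m, m ≠ j → c u m = 0 := by
    intro m hm
    by_contra h0
    obtain ⟨a, ha, hae⟩ := M'.surj (Function.update 0 m ![0, 1])
    have h8 : b a i = 0 := (h6 a ha).2 (by rw [hae, Function.update_of_ne (Ne.symm hm)]; rfl)
    have h9 := (hK u hu hu1 hu0 a ha).1 h8 m
    rw [hae, Function.update_self] at h9
    exact h0 ((mul_eq_zero.1 h9).resolve_right one_ne_zero)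
  obtain ⟨m, hm⟩ := hS u hu hu1 hu0
  have hmj : m = j := by
    by_contra h0
    exact hm (h7 m h0)
  exact ⟨hmj ▸ hm, h7⟩

end PD

end pair

end Cfsg.Agent.Omega.IId.Ns

end

section


/-!
# II.d, nonsplit: the matching of a pair (step (0), (2))

* `Rc M i` : `[N_i, A_i]`, `A_i` the elements acting as `one1 i (up c)`; `Rc_norm`, `Lc_le_Rc` (`k = 2`);
* `MtI b M' i j` : `i`, `j` are matched; `PD.matches`, `MtI.symm`, uniqueness; `PD.card_eq` : `|F| = |F'|`;
* `Mt M M' i j` : `N'_j` induces on `V` exactly the elements `one1 i (up c)`; `C_V(N'_j)` is the set of the `v` with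
  `M.e v i 1 = 0`;  `Rc_eq` : `Rc M i = Rc M' j`;
* `PD.one_of_half` : `k = 2`, `k' = 2`: there is only one matched pair.
-/

set_option autoImplicit false
set_option linter.unusedSectionVars false

namespace Cfsg.Agent.Omega.IId.Ns

open Subgroup Cfsg Cfsg.Agent.ZN Cfsg.Agent.ZN.ChoiceSit Cfsg.Agent.ZN.ChoiceBase Cfsg.Agent.Omega.MinPar
open Cfsg.Agent.Omega.FrameFF Cfsg.Agent.Omega.FFThm Cfsg.Agent.Lib.SL2Mat
open Cfsg.Agent.Omega.NatPair (ap ap_add ap_mul ap_one ap_inj ext2 ap_zero' ap_one' ap_inv_ap ap_ap_inv)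
open Cfsg.Agent.Omega.HOne (cv_le conj_mem_zl conj_mem_cv)
open Cfsg.Agent.Omega.IId.Cv
open Cfsg.Agent.MinSimple.VModule (zc_comm zc_sq zc_le mem_zc le_normalizer_o2)

universe u

/-! ### `Rc M i` -/

section rc

variable {G : Type u} [Group G] {F : Type} [Field F] {S P : Subgroup G} {k : ℕ}
  (M : NatK F S P (zl S P) (cv S P) k)

/-- `[N_i, A_i]` -/
def Rc (i : Fin k) : Subgroup G := closure {y | ∃ x c, Al M i x (up c) ∧ ∃ n ∈ Nc M i, y = x * n * x⁻¹ * n⁻¹}

theorem Rc_le (i : Fin k) : Rc M i ≤ Nc M i := by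
  rw [Rc, closure_le]
  rintro _ ⟨x, c, hx, n, hn, rfl⟩
  exact mem_Nc hx (Nc_le M i hn)

variable {M}

/-- for `g ∈ S`, `x` acting as `up c` in the `i`-th factor, `g x g⁻¹` acts as `up c'` in the `j`-th -/
theorem conj_up [CharP F 2] (hSP : S ≤ P) {g x : G} {i j : Fin k} (hg : g ∈ S) (hm : Mv M g i j) {c : F}
    (hx : Al M i x (up c)) : ∃ c', Al M j (g * x * g⁻¹) (up c') := by
  obtain ⟨m, c', h1⟩ := conj_Al_line hSP hg hm (by simp) hx
  have hgP := hSP hg
  have hsq : Al M i (x * x) 1 := (hx.mul hx).of_eq (by rw [up_mul, CharTwo.add_self_eq_zero, up_zero])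
  have h2 : Al M j (g * x * g⁻¹ * (g * x * g⁻¹)) (dg (m : F) m.ne_zero * up c' * (dg (m : F) m.ne_zero * up c')) :=
    h1.mul h1
  have h3 : ∀ v ∈ zl S P, M.e (g * x * g⁻¹ * (g * x * g⁻¹) * v * (g * x * g⁻¹ * (g * x * g⁻¹))⁻¹) j = M.e v j := by
    intro v hv
    have hu : g⁻¹ * v * g ∈ zl S P := by
      have := conj_mem_zl (inv_mem hgP) hv
      rwa [inv_inv] at this
    have e : g * x * g⁻¹ * (g * x * g⁻¹) * v * (g * x * g⁻¹ * (g * x * g⁻¹))⁻¹ =
      g * ((x * x) * (g⁻¹ * v * g) * (x * x)⁻¹) * g⁻¹ := by group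
    have h5 : M.e ((x * x) * (g⁻¹ * v * g) * (x * x)⁻¹ * (g⁻¹ * v * g)⁻¹) i = 0 := by
      rw [hsq.comm_same hu, ap_one, sub_self]
    have h6 := (hm _ (mul_mem (hsq.V hu) (inv_mem hu))).2 h5
    have e2 : g * ((x * x) * (g⁻¹ * v * g) * (x * x)⁻¹ * (g⁻¹ * v * g)⁻¹) * g⁻¹ =
      (g * ((x * x) * (g⁻¹ * v * g) * (x * x)⁻¹) * g⁻¹) * v⁻¹ := by group
    rw [e2, e_div M (conj_mem_zl hgP (hsq.V hu)) hv, Pi.sub_apply, sub_eq_zero] at h6
    rw [e]; exact h6
  have h4 : dg (m : F) m.ne_zero * up c' * (dg (m : F) m.ne_zero * up c') = 1 := ap_inj fun y => by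
    obtain ⟨v, hv, hvj, -⟩ := exists_single (M := M) j y
    rw [← hvj, ← h2.same hv, h3 v hv, ap_one]
  have h5 := congrArg (fun A => ent A 0 0) h4
  simp only [ent_mul, dg_00, up_00, dg_01, up_10, up_01, dg_10, dg_11, up_11, ent_one_00] at h5
  have h6 : ((m : F) - 1) ^ 2 = 0 := by
    have h2 : (2 : F) = 0 := CharTwo.two_eq_zero
    linear_combination h5 - ((m : F) - 1) * h2
  have h7 : (m : F) = 1 := sub_eq_zero.1 (pow_eq_zero_iff two_ne_zero |>.1 h6)
  refine ⟨c', h1.of_eq ?_⟩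
  refine ext_ent ?_ ?_ ?_ ?_ <;> simp [ent_mul, h7]

/-- the stabiliser of the `i`-th factor in `S` normalises `Rc M i` -/
theorem Rc_norm [CharP F 2] (hSP : S ≤ P) {g : G} {i : Fin k} (hg : g ∈ S) (hm : Mv M g i i) {r : G}
    (hr : r ∈ Rc M i) : g * r * g⁻¹ ∈ Rc M i := by
  induction hr using closure_induction with
  | mem y hy =>
    obtain ⟨x, c, hx, n, hn, rfl⟩ := hy
    obtain ⟨c', hc'⟩ := conj_up hSP hg hm hx
    refine subset_closure ⟨_, c', hc', _, Nc_norm (hSP hg) hm hn, ?_⟩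
    group
  | one => rw [mul_one, mul_inv_cancel]; exact one_mem _
  | mul x y _ _ hx hy =>
    have e : g * (x * y) * g⁻¹ = (g * x * g⁻¹) * (g * y * g⁻¹) := by group
    rw [e]; exact mul_mem hx hy
  | inv x _ hx =>
    have e : g * x⁻¹ * g⁻¹ = (g * x * g⁻¹)⁻¹ := by group
    rw [e]; exact inv_mem hx

end rc

section rcS

variable {G : Type u} [Group G] [Finite G] (hG : IsCharacteristicTwoType G) (S : Sylow 2 G) {P : Subgroup G}
  (h : IsParS (S : Subgroup G) P) {F : Type} [Field F] [CharP F 2] {k : ℕ}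
  (M : NatK F (S : Subgroup G) P (zl (S : Subgroup G) P) (cv (S : Subgroup G) P) k)

/-- for two factors the stabiliser of one factor stabilises the other -/
theorem Mv_of_two {P : Subgroup G} {M : NatK F (S : Subgroup G) P (zl (S : Subgroup G) P) (cv (S : Subgroup G) P) 2}
    {g : G} (hg : g ∈ P) {i l : Fin 2} (hil : i ≠ l) (hm : Mv M g l l) : Mv M g i i := by
  obtain ⟨j, hj⟩ := exists_Mv (M := M) hg i
  have h1 : j ≠ l := by
    rintro rfl
    exact hil (hj.unique' hm hg)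
  have h2 : j = i := by omega
  rwa [h2] at hj

include hG h in
/-- `L_l` normalises `Rc M i`, `i ≠ l` -/
theorem Lc_le_Rc {M : NatK F (S : Subgroup G) P (zl (S : Subgroup G) P) (cv (S : Subgroup G) P) 2}
    {i l : Fin 2} (hil : i ≠ l) : Lc M l ≤ normalizer (Rc M i : Set G) := by
  rw [Lc]
  refine sup_le ?_ ?_
  · refine Two.le_normalizer_of fun t ht r hr => ?_
    exact Rc_norm h.le ht.1.1 (Mv_of_two S ht.1.2 hil ht.2) hr
  · refine Two.le_normalizer_of fun x hx r hr => ?_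
    have h1 := Nc_comm hG S h M (Ne.symm hil) hx.1 (Rc_le M i hr)
    rw [h1, mul_inv_cancel_right]
    exact hr

end rcS

/-! ### Matched factors -/

section mt

variable {G : Type u} [Group G] {F F' : Type} [Field F] [Field F'] {S S' P P' : Subgroup G} {k k' : ℕ}

/-- `N'_j` induces on `V` exactly the elements `one1 i (up c)`; `C_V(N'_j)` is given by `M.e v i 1 = 0`. -/
structure Mt (M : NatK F S P (zl S P) (cv S P) k) (M' : NatK F' S' P' (zl S' P') (cv S' P') k') (i : Fin k)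
    (j : Fin k') : Prop where
  acts : ∀ a ∈ Nc M' j, ∃ c, Al M i a (up c)
  full : ∀ c, ∃ a ∈ Nc M' j, Al M i a (up c)
  cen : ∀ v ∈ zl S P, (∀ a ∈ Nc M' j, a * v = v * a) ↔ M.e v i 1 = 0

theorem Mt.le_Tc {M : NatK F S P (zl S P) (cv S P) k} {M' : NatK F' S' P' (zl S' P') (cv S' P') k'} {i : Fin k}
    {j : Fin k'} (m : Mt M M' i j) (hS : zl S' P' ≤ S) : Nc M' j ≤ Tc M i := by
  intro a ha
  obtain ⟨c, hc⟩ := m.acts a ha
  exact ⟨⟨hS (Nc_le M' j ha), hc.1⟩, hc.mv⟩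

theorem Mt.Rc_le_Rc {S S' : Sylow 2 G} {P P' : Subgroup G} [Finite G] [CharP F 2] (hG : IsCharacteristicTwoType G)
    (h : IsParS (S : Subgroup G) P) (hk : 0 < k)
    {M : NatK F (S : Subgroup G) P (zl (S : Subgroup G) P) (cv (S : Subgroup G) P) k}
    {M' : NatK F' (S' : Subgroup G) P' (zl (S' : Subgroup G) P') (cv (S' : Subgroup G) P') k'} {i : Fin k}
    {j : Fin k'} (m : Mt M M' i j) (m' : Mt M' M j i) : Rc M i ≤ Rc M' j := by
  rw [Rc, closure_le]
  rintro _ ⟨x, c, hx, n, hn, rfl⟩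
  obtain ⟨a, ha, hac⟩ := m.full c
  obtain ⟨c', hc'⟩ := m'.acts n hn
  have e : x * n * x⁻¹ * n⁻¹ = (n * a * n⁻¹ * a⁻¹)⁻¹ := by
    rw [Al.eq_V hG S h hk hx hac (Nc_le M i hn)]; group
  rw [e]
  exact inv_mem (subset_closure ⟨n, c', hc', a, ha, rfl⟩)

end mt

/-! ### The pair -/

theorem card_eq_of_ker {α β γ : Type*} {f : α → β} {g : α → γ} (hf : Function.Surjective f)
    (hg : Function.Surjective g) (h : ∀ x y, f x = f y ↔ g x = g y) : Nat.card β = Nat.card γ := by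
  refine Nat.card_congr (Equiv.ofBijective (fun y => g (Function.surjInv hf y)) ⟨fun x y hxy => ?_, fun z => ?_⟩)
  · have h1 := (h _ _).2 hxy
    rwa [Function.surjInv_eq hf, Function.surjInv_eq hf] at h1
  · obtain ⟨x, rfl⟩ := hg z
    exact ⟨f x, (h _ _).1 (Function.surjInv_eq hf _)⟩

section pair

variable {G : Type u} [Group G] [Finite G] {F F' : Type} [Field F] [Field F'] [CharP F 2] [CharP F' 2]

variable {S S' : Sylow 2 G} {P P' : Subgroup G} {k k' : ℕ}
  {M : NatK F (S : Subgroup G) P (zl (S : Subgroup G) P) (cv (S : Subgroup G) P) k}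
  {M' : NatK F' (S' : Subgroup G) P' (zl (S' : Subgroup G) P') (cv (S' : Subgroup G) P') k'}
  {I : Set (Fin k)} {I' : Set (Fin k')} {b : G → Fin k → F} {c : G → Fin k' → F'}

/-- `i ∈ I` and `j ∈ I'` are matched -/
structure MtI (b : G → Fin k → F) (M' : NatK F' (S' : Subgroup G) P' (zl (S' : Subgroup G) P') (cv (S' : Subgroup G) P') k')
    (I : Set (Fin k)) (I' : Set (Fin k')) (i : Fin k) (j : Fin k') : Prop where
  hi : i ∈ I
  hj : j ∈ I'
  iff : ∀ a ∈ zl (S' : Subgroup G) P', b a i = 0 ↔ M'.e a j 1 = 0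

namespace PD

variable (d : PD S S' P P' M M' I I' b c)

include d

theorem matches_ (hk : 0 < k) (hk' : 0 < k') {i : Fin k} (hi : i ∈ I) : ∃ j, MtI b M' I I' i j := by
  obtain ⟨j, hj, h1, -⟩ := d.exists_match hk hk' hi
  exact ⟨j, hi, hj, h1⟩

open Classical in
theorem msymm (hk : 0 < k) (hk' : 0 < k') {i : Fin k} {j : Fin k'} (m : MtI b M' I I' i j) : MtI c M I' I j i := by
  obtain ⟨i', hi', h1, h2⟩ := d.symm.exists_match hk' hk m.hj
  obtain ⟨a, ha, hae⟩ := M'.surj (Function.update 0 j ![0, 1])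
  have h3 := h2 a ha (by rw [hae, Function.update_self]; exact one_ne_zero) fun l hl => by
    rw [hae, Function.update_of_ne hl]; rfl
  have h4 : i = i' := by
    by_contra hne
    have h5 := h3.2 i hne
    rw [m.iff a ha, hae, Function.update_self] at h5
    exact one_ne_zero h5
  subst h4
  exact ⟨m.hj, hi', h1⟩

omit d in
theorem munique {i : Fin k} {j j' : Fin k'} (m : MtI b M' I I' i j) (m' : MtI b M' I I' i j') : j = j' := by
  classical
  by_contra hne
  obtain ⟨a, ha, hae⟩ := M'.surj (Function.update 0 j ![0, 1])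
  have h1 := (m.iff a ha).1 ((m'.iff a ha).2 (by rw [hae, Function.update_of_ne (Ne.symm hne)]; rfl))
  rw [hae, Function.update_self] at h1
  exact one_ne_zero h1

theorem munique' (hk : 0 < k) (hk' : 0 < k') {i i' : Fin k} {j : Fin k'} (m : MtI b M' I I' i j)
    (m' : MtI b M' I I' i' j) : i = i' := munique (d.msymm hk hk' m) (d.msymm hk hk' m')

theorem card_eq_of (hk : 0 < k) (hk' : 0 < k') {i : Fin k} {j : Fin k'} (m : MtI b M' I I' i j) :
    Nat.card F = Nat.card F' := by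
  classical
  refine card_eq_of_ker (f := fun a : zl (S' : Subgroup G) P' => b a i)
    (g := fun a : zl (S' : Subgroup G) P' => M'.e a j 1) (fun x => ?_) (fun x => ?_) fun x y => ?_
  · obtain ⟨a, ha, h1⟩ := d.i1.ex (Function.update 0 i x) (upd_off m.hi x)
    refine ⟨⟨a, ha⟩, ?_⟩
    change b a i = x
    rw [h1, Function.update_self]
  · obtain ⟨a, ha, h1⟩ := M'.surj fun _ => ![0, x]
    refine ⟨⟨a, ha⟩, ?_⟩
    change M'.e a j 1 = x
    rw [h1]; rfl
  · have h1 := m.iff _ (mul_mem x.2 (inv_mem y.2))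
    rw [d.i1.mul d.VP x.2 (inv_mem y.2), d.i1.inv d.VP y.2, e_div M' x.2 y.2, Pi.add_apply, Pi.neg_apply,
      ← sub_eq_add_neg, sub_eq_zero, Pi.sub_apply, Pi.sub_apply, sub_eq_zero] at h1
    exact h1

theorem I_ne (hk : 0 < k) : I.Nonempty := by
  by_contra h0
  rw [Set.not_nonempty_iff_eq_empty] at h0
  apply d.hp.ne
  rw [commutator_comm, commutator_eq_bot_iff_le_centralizer]
  intro a ha
  refine mem_centralizer_iff.2 fun v hv => ?_
  symm
  rw [d.iff1 hk ha hv]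
  intro i
  rw [d.i1.off a ha i (by rw [h0]; exact Set.notMem_empty i), zero_mul]

/-- `|F| = |F'|` -/
theorem card_eq (hk : 0 < k) (hk' : 0 < k') : Nat.card F = Nat.card F' := by
  obtain ⟨i, hi⟩ := d.I_ne hk
  obtain ⟨j, m⟩ := d.matches_ hk hk' hi
  exact d.card_eq_of hk hk' m

/-- `a ∈ N'_j` acts as `one1 i (up (b a i))` -/
theorem al (hk : 0 < k) (hk' : 0 < k') {i : Fin k} {j : Fin k'} (m : MtI b M' I I' i j) {a : G} (ha : a ∈ Nc M' j) :
    (∀ l, l ≠ i → b a l = 0) ∧ Al M i a (up (b a i)) := by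
  have haV := Nc_le M' j ha
  have h1 : ∀ l, l ≠ i → b a l = 0 := by
    intro l hl
    by_cases hlI : l ∈ I
    · obtain ⟨j', m'⟩ := d.matches_ hk hk' hlI
      have h2 : j' ≠ j := by
        rintro rfl
        exact hl (d.munique' hk hk' m' m)
      rw [m'.iff a haV, Nc_e M' ha j' h2]; rfl
    · exact d.i1.off a haV l hlI
  refine ⟨h1, d.VP haV, ?_⟩
  have h2 := d.i1.act a haV
  have e : (fun l => up (b a l)) = one1 i (up (b a i)) := by
    funext l
    by_cases hl : l = i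
    · subst hl; rw [one1_same]
    · rw [one1_ne hl, h1 l hl, up_zero]
  rwa [e] at h2

theorem mt (hk : 0 < k) (hk' : 0 < k') {i : Fin k} {j : Fin k'} (m : MtI b M' I I' i j) : Mt M M' i j := by
  classical
  have hfull : ∀ x, ∃ a ∈ Nc M' j, b a i = x := by
    intro x
    obtain ⟨a, ha, h1⟩ := d.i1.ex (Function.update 0 i x) (upd_off m.hi x)
    obtain ⟨u, hu, hue⟩ := Nc_ex M' j (M'.e a j)
    have huV := Nc_le M' j hu
    refine ⟨u, hu, ?_⟩
    have h2 : b (u * a⁻¹) i = 0 := by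
      rw [m.iff _ (mul_mem huV (inv_mem ha)), e_div M' huV ha, Pi.sub_apply, hue, sub_self]; rfl
    rw [d.i1.mul d.VP huV (inv_mem ha), d.i1.inv d.VP ha, h1, Pi.add_apply, Pi.neg_apply, Function.update_self,
      ← sub_eq_add_neg, sub_eq_zero] at h2
    exact h2
  refine ⟨fun a ha => ⟨_, (d.al hk hk' m ha).2⟩, fun x => ?_, fun v hv => ?_⟩
  · obtain ⟨a, ha, rfl⟩ := hfull x
    exact ⟨a, ha, (d.al hk hk' m ha).2⟩
  · constructor
    · intro h1
      obtain ⟨a, ha, hx⟩ := hfull 1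
      have h2 := (d.iff1 hk (Nc_le M' j ha) hv).1 (h1 a ha) i
      rwa [hx, one_mul] at h2
    · intro h1 a ha
      rw [d.iff1 hk (Nc_le M' j ha) hv]
      intro l
      by_cases hl : l = i
      · rw [hl, h1, mul_zero]
      · rw [(d.al hk hk' m ha).1 l hl, zero_mul]

/-- a matched pair, both directions -/
theorem exists_mt (hk : 0 < k) (hk' : 0 < k') : ∃ i j, Mt M M' i j ∧ Mt M' M j i := by
  obtain ⟨i, hi⟩ := d.I_ne hk
  obtain ⟨j, m⟩ := d.matches_ hk hk' hi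
  exact ⟨i, j, d.mt hk hk' m, d.symm.mt hk' hk (d.msymm hk hk' m)⟩

end PD

end pair

end Cfsg.Agent.Omega.IId.Ns

end

section


/-!
# II.d: `U_i = 1` implies that `V` splits

* `Nc_mv`, `Uc_mv` : `g ∈ P` mapping the `i`-th factor to the `j`-th maps `N_i` to `N_j`, `U_i` to `U_j`;
* `splitPar_of_Uc` : `Uc M i = ⊥` for one `i` implies `SplitPar S P` (any `k`);
* `Uc_ne` : if `SplitPar S P` fails, then all `Uc M i ≠ ⊥`; `four_le` : `|F| ≥ 4`.
-/

set_option autoImplicit false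
set_option linter.unusedSectionVars false

namespace Cfsg.Agent.Omega.IId.Ns

open Subgroup Cfsg Cfsg.Agent.ZN Cfsg.Agent.ZN.ChoiceSit Cfsg.Agent.ZN.ChoiceBase Cfsg.Agent.Omega.MinPar
open Cfsg.Agent.Omega.FrameFF Cfsg.Agent.Omega.FFThm Cfsg.Agent.Lib.SL2Mat
open Cfsg.Agent.Omega.NatPair (ap ap_add ap_mul ap_one ap_inj ext2 ap_zero' ap_one' ap_inv_ap ap_ap_inv)
open Cfsg.Agent.Omega.HOne (cv_le conj_mem_zl conj_mem_cv)
open Cfsg.Agent.Omega.HOne.Main (vx SplitPar)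
open Cfsg.Agent.Omega.IId.Cv
open Cfsg.Agent.MinSimple.VModule (oddGen oddGen_le)
open scoped commutatorElement

universe u

section gen

variable {G : Type u} [Group G] {F : Type} [Field F] {S P : Subgroup G} {k : ℕ}
  {M : NatK F S P (zl S P) (cv S P) k}

theorem Nc_mv {i j : Fin k} {g : G} (hg : g ∈ P) (hm : Mv M g i j) {n : G} (hn : n ∈ Nc M i) :
    g * n * g⁻¹ ∈ Nc M j := by
  induction hn using closure_induction with
  | mem x hx =>
    obtain ⟨y, hy, v, hv, rfl⟩ := hx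
    obtain ⟨B, hB⟩ := exists_of_Fc hy
    obtain ⟨B', hB'⟩ := conj_Al hg hm hB
    have e : g * (y * v * y⁻¹ * v⁻¹) * g⁻¹ =
      (g * y * g⁻¹) * (g * v * g⁻¹) * (g * y * g⁻¹)⁻¹ * (g * v * g⁻¹)⁻¹ := by group
    rw [e]
    exact mem_Nc hB' (conj_mem_zl hg hv)
  | one => rw [mul_one, mul_inv_cancel]; exact one_mem _
  | mul x y _ _ hx hy =>
    have e : g * (x * y) * g⁻¹ = (g * x * g⁻¹) * (g * y * g⁻¹) := by group
    rw [e]; exact mul_mem hx hy
  | inv x _ hx =>
    have e : g * x⁻¹ * g⁻¹ = (g * x * g⁻¹)⁻¹ := by group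
    rw [e]; exact inv_mem hx

theorem Uc_mv {i j : Fin k} {g : G} (hg : g ∈ P) (hm : Mv M g i j) {n : G} (hn : n ∈ Uc M i) :
    g * n * g⁻¹ ∈ Uc M j := mem_inf.2 ⟨Nc_mv hg hm hn.1, conj_mem_cv hg hn.2⟩

theorem Uc_bot_all (hSP : S ≤ P) {i : Fin k} (hi : Uc M i = ⊥) (j : Fin k) : Uc M j = ⊥ := by
  rw [eq_bot_iff]
  intro u hu
  obtain ⟨t, ht, h1⟩ := M.trans j i
  have h2 := Uc_mv (hSP ht) (fun v hv => h1 v hv) hu
  rw [hi, mem_bot] at h2
  have e : u = t⁻¹ * (t * u * t⁻¹) * t := by group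
  rw [mem_bot, e, h2]; group

end gen

section split

variable {G : Type u} [Group G] [Finite G] (hG : IsCharacteristicTwoType G) (S : Sylow 2 G) {P : Subgroup G}
  (h : IsParS (S : Subgroup G) P) {F : Type} [Field F] [CharP F 2] {k : ℕ}
  {M : NatK F (S : Subgroup G) P (zl (S : Subgroup G) P) (cv (S : Subgroup G) P) k}

include hG h in
/-- an element of `⨆ i ∈ s, N_i` with zero coordinates is trivial -/
theorem iSup_aux (hU : ∀ i, Uc M i = ⊥) (s : Finset (Fin k)) : ∃ W : Subgroup G, W ≤ zl (S : Subgroup G) P ∧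
    (∀ i ∈ s, Nc M i ≤ W) ∧ (W ≤ ⨆ i, Nc M i) ∧ (∀ w ∈ W, ∀ i, i ∉ s → M.e w i = 0) ∧
      ∀ w ∈ W, M.e w = 0 → w = 1 := by
  classical
  induction s using Finset.induction with
  | empty =>
    refine ⟨⊥, bot_le, fun i hi => absurd hi (Finset.notMem_empty i), bot_le, fun w hw i _ => ?_, fun w hw _ => hw⟩
    rw [mem_bot.1 hw, e_one M]; rfl
  | insert i s his ih =>
    obtain ⟨W, h1, h2, h3, h4, h5⟩ := ih
    have hN := Nc_le M i
    let K : Subgroup G :=
      { carrier := {x | ∃ n ∈ Nc M i, ∃ w ∈ W, x = n * w}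
        one_mem' := ⟨1, one_mem _, 1, one_mem _, (mul_one 1).symm⟩
        mul_mem' := by
          rintro _ _ ⟨n, hn, w, hw, rfl⟩ ⟨n', hn', w', hw', rfl⟩
          refine ⟨n * n', mul_mem hn hn', w * w', mul_mem hw hw', ?_⟩
          calc n * w * (n' * w') = n * (w * n') * w' := by group
            _ = n * (n' * w) * w' := by rw [zl_ab hG S h (h1 hw) (hN hn')]
            _ = _ := by group
        inv_mem' := by
          rintro _ ⟨n, hn, w, hw, rfl⟩
          refine ⟨n⁻¹, inv_mem hn, w⁻¹, inv_mem hw, ?_⟩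
          rw [mul_inv_rev, zl_ab hG S h (h1 (inv_mem hw)) (hN (inv_mem hn))] }
    refine ⟨K, ?_, ?_, ?_, ?_, ?_⟩
    · rintro _ ⟨n, hn, w, hw, rfl⟩
      exact mul_mem (hN hn) (h1 hw)
    · intro j hj x hx
      rcases Finset.mem_insert.1 hj with rfl | hj
      · exact ⟨x, hx, 1, one_mem _, (mul_one x).symm⟩
      · exact ⟨1, one_mem _, x, h2 j hj hx, (one_mul x).symm⟩
    · rintro _ ⟨n, hn, w, hw, rfl⟩
      exact mul_mem (le_iSup (fun i => Nc M i) i hn) (h3 hw)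
    · rintro _ ⟨n, hn, w, hw, rfl⟩ j hj
      rw [Finset.mem_insert, not_or] at hj
      rw [M.mul _ (hN hn) _ (h1 hw), Pi.add_apply, Nc_e M hn j hj.1, h4 w hw j hj.2, add_zero]
    · rintro _ ⟨n, hn, w, hw, rfl⟩ h0
      rw [M.mul _ (hN hn) _ (h1 hw)] at h0
      have h6 : M.e n = 0 := by
        funext j
        by_cases hj : j = i
        · subst hj
          have := congrFun h0 j
          rw [Pi.add_apply, h4 w hw j his, add_zero] at this
          exact this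
        · exact Nc_e M hn j hj
      have h7 : n = 1 := by
        have h8 : n ∈ Uc M i := mem_inf.2 ⟨hn, (M.ker n (hN hn)).1 h6⟩
        rw [hU i] at h8
        exact mem_bot.1 h8
      rw [h6, zero_add] at h0
      rw [h7, h5 w hw h0, mul_one]

/-- `V = (∏ N_i) D` -/
theorem exists_div_mem (v : G) (hv : v ∈ zl (S : Subgroup G) P) : ∃ w ∈ (⨆ i, Nc M i : Subgroup G),
    w ∈ zl (S : Subgroup G) P ∧ w⁻¹ * v ∈ cv (S : Subgroup G) P := by
  classical
  have h1 : ∀ s : Finset (Fin k), ∃ w ∈ (⨆ i, Nc M i : Subgroup G), w ∈ zl (S : Subgroup G) P ∧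
      (∀ i ∈ s, M.e w i = M.e v i) ∧ ∀ i, i ∉ s → M.e w i = 0 := by
    intro s
    induction s using Finset.induction with
    | empty => exact ⟨1, one_mem _, one_mem _, fun i hi => absurd hi (Finset.notMem_empty i), fun i _ => by
        rw [e_one M]; rfl⟩
    | insert i s his ih =>
      obtain ⟨w, hw, hwV, h1, h2⟩ := ih
      obtain ⟨u, hu, hue⟩ := Nc_ex M i (M.e v i)
      have huV := Nc_le M i hu
      refine ⟨u * w, mul_mem (le_iSup (fun i => Nc M i) i hu) hw, mul_mem huV hwV, fun j hj => ?_, fun j hj => ?_⟩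
      · rw [M.mul _ huV _ hwV, Pi.add_apply]
        by_cases hji : j = i
        · subst hji; rw [hue, h2 j his, add_zero]
        · rw [Nc_e M hu j hji, zero_add]
          exact h1 j ((Finset.mem_insert.1 hj).resolve_left hji)
      · rw [Finset.mem_insert, not_or] at hj
        rw [M.mul _ huV _ hwV, Pi.add_apply, Nc_e M hu j hj.1, h2 j hj.2, add_zero]
  obtain ⟨w, hw, hwV, h2, -⟩ := h1 Finset.univ
  refine ⟨w, hw, hwV, (M.ker _ (mul_mem (inv_mem hwV) hv)).1 ?_⟩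
  rw [M.mul _ (inv_mem hwV) _ hv, e_inv M hwV]
  funext i
  rw [Pi.add_apply, Pi.neg_apply, h2 i (Finset.mem_univ i), neg_add_cancel]; rfl

/-- `∏ N_i` is `P`-invariant -/
theorem iSup_norm {g : G} (hg : g ∈ P) {w : G} (hw : w ∈ (⨆ i, Nc M i : Subgroup G)) :
    g * w * g⁻¹ ∈ (⨆ i, Nc M i : Subgroup G) := by
  have h1 : (⨆ i, Nc M i : Subgroup G) ≤ (⨆ i, Nc M i : Subgroup G).comap (MulAut.conj g).toMonoidHom := by
    refine iSup_le fun i n hn => ?_
    obtain ⟨j, hj⟩ := exists_Mv (M := M) hg i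
    exact le_iSup (fun i => Nc M i) j (Nc_mv hg hj hn)
  exact h1 hw

include hG h in
/-- **`U_i = 1` implies `SplitPar`.** -/
theorem splitPar_of_Uc {i : Fin k} (hi : Uc M i = ⊥) : SplitPar (S : Subgroup G) P := by
  obtain ⟨W, h1, h2, -, -, h5⟩ := iSup_aux hG S h (fun j => Uc_bot_all h.le hi j) Finset.univ
  have h3 : (⨆ i, Nc M i : Subgroup G) ≤ W := iSup_le fun j => h2 j (Finset.mem_univ j)
  have h4 : vx (S : Subgroup G) P ≤ (⨆ i, Nc M i : Subgroup G) := by
    unfold vx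
    rw [commutator_le]
    intro v hv x hx
    obtain ⟨w, hw, hwV, hd⟩ := exists_div_mem S (M := M) v hv
    have hxP : x ∈ P := oddGen_le P hx
    obtain ⟨d, hdd⟩ : ∃ d, d = w⁻¹ * v := ⟨_, rfl⟩
    rw [← hdd] at hd
    have e1 : v = w * d := by rw [hdd]; group
    have h6 : d⁻¹ * x = x * d⁻¹ := mem_centralizer_iff.1 (inv_mem hd.2) x hx |>.symm
    have e2 : ⁅v, x⁆ = w * (x * w⁻¹ * x⁻¹) := by
      rw [commutatorElement_def, e1]
      calc w * d * x * (w * d)⁻¹ * x⁻¹ = w * (d * (x * d⁻¹)) * w⁻¹ * x⁻¹ := by group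
        _ = w * (d * (d⁻¹ * x)) * w⁻¹ * x⁻¹ := by rw [h6]
        _ = _ := by group
    rw [e2]
    exact mul_mem hw (iSup_norm S hxP (inv_mem hw))
  unfold SplitPar
  rw [eq_bot_iff]
  rintro x ⟨hx, hx'⟩
  exact mem_bot.2 (h5 x (h3 (h4 hx)) ((M.ker x (cv_le _ _ hx')).2 hx'))

include hG h in
theorem Uc_ne (hs : ¬ SplitPar (S : Subgroup G) P) (i : Fin k) : Uc M i ≠ ⊥ := fun hi =>
  hs (splitPar_of_Uc hG S h hi)

end split

end Cfsg.Agent.Omega.IId.Ns

end

section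


/-!
# II.d, nonsplit: `PairF` for a matched pair

* `half_one` : `Half (Lc M i) (Nc M i)` if the stabiliser of the `i`-th factor is the whole Sylow 2-subgroup (`k = 1`);
* `exists_pairF` : the pair `(N_i, N'_j)` over one field;
* `PO` : the output: `PairF` and the second alternative of the dichotomy; `exists_po`.
-/

set_option autoImplicit false
set_option linter.unusedSectionVars false

namespace Cfsg.Agent.Omega.IId.Ns

open Subgroup Cfsg Cfsg.Agent.ZN Cfsg.Agent.ZN.ChoiceSit Cfsg.Agent.ZN.ChoiceBase Cfsg.Agent.Omega.MinPar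
open Cfsg.Agent.Omega.FrameFF Cfsg.Agent.Omega.FFThm Cfsg.Agent.Lib.SL2Mat
open Cfsg.Agent.Omega.NatPair (ap ap_add ap_mul ap_one ap_inj ext2 ap_zero' ap_one' ap_inv_ap ap_ap_inv)
open Cfsg.Agent.Omega.HOne (cv_le conj_mem_zl conj_mem_cv)
open Cfsg.Agent.Omega.HOne.Main (vx SplitPar)
open Cfsg.Agent.Omega.IId.Cv
open Cfsg.Agent.Omega.HOne.NSMod Cfsg.Agent.Omega.HOne.NSSide Cfsg.Agent.Omega.HOne.NSPair
open Cfsg.Agent.MinSimple.VModule (oddGen oddGen_le zc_comm zc_sq zc_le mem_zc o2_isPGroup)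

universe u

section half

variable {G : Type u} [Group G] [Finite G] (hG : IsCharacteristicTwoType G) (S : Sylow 2 G) {P : Subgroup G}
  (h : IsParS (S : Subgroup G) P) {F : Type} [Field F] [Finite F] [CharP F 2] {k : ℕ}
  {M : NatK F (S : Subgroup G) P (zl (S : Subgroup G) P) (cv (S : Subgroup G) P) k}

include hG h in
/-- HALF* if `S` stabilises the `i`-th factor -/
theorem half_of_sylow (hF : 4 ≤ Nat.card F) {i : Fin k} (hT : (S : Subgroup G) ≤ Tc M i) :
    Half (Lc M i) (Nc M i) := by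
  intro H hL hH
  have hk : 0 < k := i.pos
  have hω := exists_omega hF
  have hTH : (S : Subgroup G) ≤ H := hT.trans (le_sup_left.trans hL)
  -- `O₂(H) ≤ S`
  have hOS : o2 H ≤ (S : Subgroup G) := by
    have h1 : IsPGroup 2 ((S : Subgroup G) ⊔ o2 H : Subgroup G) :=
      LemX.isPGroup_sup S.isPGroup' (o2_isPGroup H) (hTH.trans (le_normalizer_o2 H))
    have h2 := S.is_maximal' h1 le_sup_left
    rw [← h2]; exact le_sup_right
  have hOT := hOS.trans hT
  have h1 := triv_of_norm S (M := M) (K := o2 H) (o2_isPGroup H) (hOS.trans h.le) (i := i)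
    (fun w hw => (hOT hw).2) fun B => by
      obtain ⟨x, hx⟩ := exists_Al M i B
      obtain ⟨y, hy, hyx⟩ := Sd.exists_Ec hG S h M hω hx.mem_Fc
      obtain ⟨C, hC⟩ := exists_of_Fc hy.1
      have hCB : C = B := ap_inj fun z => by
        obtain ⟨v, hv, hvi, -⟩ := exists_single (M := M) i z
        rw [← hvi, ← hC.same hv, hyx v hv, hx.same hv]
      refine ⟨y, hC.of_eq hCB, fun w hw => ?_⟩
      have hyH := hL ((le_sup_right : Ec M i ≤ Lc M i) hy)
      have h2 := (mem_normalizer_iff.1 (le_normalizer_o2 H (inv_mem hyH)) w).1 hw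
      rwa [inv_inv] at h2
  have h2 : o2 H ≤ centralizer (Nc M i : Set G) := fun w hw =>
    cent_Nc hG S h hk hF ((hOS.trans h.le) hw) (h1 w hw)
  intro n hn
  have hnc : n ∈ centralizer (o2 H : Set G) := mem_centralizer_iff.2 fun w hw =>
    (mem_centralizer_iff.1 (h2 hw) n hn).symm
  have hnH : n ∈ H := hTH (Sd.V_le_S hG S h (Nc_le M i hn))
  have hno := hH (mem_inf.2 ⟨hnH, hnc⟩)
  exact mem_zc.2 ⟨hno, fun w hw => mem_centralizer_iff.1 hnc w hw, by
    rw [pow_two]; exact sq_zl hG S h (Nc_le M i hn)⟩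

end half

section po

variable {G : Type u} [Group G] [Finite G] {F : Type} [Field F] [Finite F] [CharP F 2]
  (hG : IsCharacteristicTwoType G) {S S' : Sylow 2 G} {P P' : Subgroup G} (hp : Pair S S' P P') {k k' : ℕ}
  {M : NatK F (S : Subgroup G) P (zl (S : Subgroup G) P) (cv (S : Subgroup G) P) k}
  {M' : NatK F (S' : Subgroup G) P' (zl (S' : Subgroup G) P') (cv (S' : Subgroup G) P') k'}
  (hω : ∃ ω : F, ω ≠ 0 ∧ ω ≠ 1)

include hG hp in
theorem Mt.sideS {i : Fin k} {j : Fin k'} (m : Mt M M' i j) :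
    SideS (Tc M i) (Lc M i) (Nc M i) (Uc M i) (Nc M' j) (Sd.natOver hG S hp.star M hω i).e :=
  Sd.sideS_of hG S hp.star M hω (m.le_Tc hp.le) (fun a ha => by
    obtain ⟨c, hc⟩ := m.acts a ha
    exact ⟨c, hc.2⟩) (fun b => by
    obtain ⟨a, ha, hc⟩ := m.full b
    exact ⟨a, ha, hc.2⟩) fun v hv h0 => (m.cen v (Nc_le M i hv)).2 h0

include hG hp in
/-- **`PairF` for a matched pair.** -/
theorem exists_pairF {i : Fin k} {j : Fin k'} (m : Mt M M' i j) (m' : Mt M' M j i) :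
    ∃ e f g e' f' g' : F → G, PairF (Tc M i) (Tc M' j) (Lc M i) (Lc M' j) (Nc M i) (Nc M' j) (Uc M i) (Uc M' j)
      (Sd.natOver hG S hp.star M hω i).e (Sd.natOver hG S' hp.star' M' hω j).e e f g e' f' g' (Nc M i) (Nc M' j) := by
  have s := m.sideS hG hp hω
  have s' := m'.sideS hG hp.symm hω
  obtain ⟨e, f, g, φ⟩ := Sd.exists_form hG S hp.star M hω s rfl
  obtain ⟨e', f', g', φ'⟩ := Sd.exists_form hG S' hp.star' M' hω s' rfl
  have : Fintype F := Fintype.ofFinite F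
  refine ⟨e, f, g, e', f', g', s, s', φ, φ', fun b => ?_, hω⟩
  obtain ⟨t, ht⟩ := (FiniteField.isSquare_of_char_two (ringChar.eq F 2) b)
  exact ⟨t, by rw [ht, pow_two]⟩

/-- The output of the dichotomy. -/
structure PO (M : NatK F (S : Subgroup G) P (zl (S : Subgroup G) P) (cv (S : Subgroup G) P) k)
    (M' : NatK F (S' : Subgroup G) P' (zl (S' : Subgroup G) P') (cv (S' : Subgroup G) P') k') (i : Fin k) (j : Fin k')
    (π π' : G → Fin 2 → F) (e f g e' f' g' : F → G) : Prop where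
  m : Mt M M' i j
  m' : Mt M' M j i
  p : PairF (Tc M i) (Tc M' j) (Lc M i) (Lc M' j) (Nc M i) (Nc M' j) (Uc M i) (Uc M' j) π π' e f g e' f' g'
    (Nc M i) (Nc M' j)
  c1 : ∀ z, ∃ y, e z = g' y
  c2 : ∀ z, ∃ y, e' z = g y
  g1 : ∀ y, g y = 1 → y = 0
  g1' : ∀ y, g' y = 1 → y = 0
  π0 : ∀ v, π v 0 = M.e v i 1
  π0' : ∀ v, π' v 0 = M'.e v j 1

include hG hp hω in
/-- **The dichotomy.** -/
theorem exists_po {i : Fin k} {j : Fin k'} (m : Mt M M' i j) (m' : Mt M' M j i)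
    (hh : Half (Lc M i) (Nc M i)) (hh' : Half (Lc M' j) (Nc M' j))
    (hs : ¬ (SplitPar (S : Subgroup G) P ∧ SplitPar (S' : Subgroup G) P')) :
    ∃ π π' e f g e' f' g', PO M M' i j π π' e f g e' f' g' := by
  obtain ⟨e, f, g, e', f', g', p⟩ := exists_pairF hG hp hω m m'
  rcases p.dich with ⟨h1, h2⟩ | ⟨h1, h2, h3, h4⟩
  · exfalso
    have hU : Uc M i = Uc M' j := by
      apply le_antisymm
      · intro u hu
        obtain ⟨y, rfl⟩ := p.φ.ND u hu.1 hu
        obtain ⟨y', hy'⟩ := h1 y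
        rw [hy']; exact p.φ'.gD y'
      · intro u hu
        obtain ⟨y, rfl⟩ := p.φ'.ND u hu.1 hu
        obtain ⟨y', hy'⟩ := h2 y
        rw [hy']; exact p.φ.gD y'
    by_cases h0 : Uc M i = ⊥
    · exact hs ⟨splitPar_of_Uc hG S hp.star h0, splitPar_of_Uc hG S' hp.star' (by rw [← hU]; exact h0)⟩
    · have hU2 : IsPGroup 2 (Uc M i) := (S.isPGroup'.to_le (Sd.V_le_S hG S hp.star)).to_le
        (inf_le_left.trans (Nc_le M i))
      have hc := MinSimple.Basic.char2_normalizer hG hU2 h0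
      have hL : Lc M i ≤ normalizer (Uc M i : Set G) := (Sd.Lc_le_St S M i).trans (Sd.St_norm_Uc M i)
      have hL' : Lc M' j ≤ normalizer (Uc M i : Set G) := by
        rw [hU]
        exact (Sd.Lc_le_St S' M' j).trans (Sd.St_norm_Uc M' j)
      have a1 := hh _ hL hc
      have a2 := hh' _ hL' hc
      obtain ⟨v, hv, hve⟩ := Nc_ex M i ![0, 1]
      have h5 := (m.cen v (Nc_le M i hv)).1 fun a ha => zc_comm _ _ (a2 ha) _ (a1 hv)
      rw [hve] at h5
      exact one_ne_zero h5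
  · exact ⟨_, _, e, f, g, e', f', g', m, m', p, h1, h2, h3, h4, fun v => Sd.pc_zero S M i v, fun v => Sd.pc_zero S' M' j v⟩

end po

end Cfsg.Agent.Omega.IId.Ns

end
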