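import Cfsg.Agent.Mrg.Omega.IId.Ns.NineB
import Cfsg.Agent.Mrg.Omega.IId.Ns.NineA
import Cfsg.Agent.Mrg.Omega.IId.Ns.Defs
import Cfsg.Agent.Mrg.Omega.IId.Ns.Pair
import Cfsg.Agent.Mrg.Omega.IId.Ns.Half
import Cfsg.Agent.Mrg.Omega.SQT.Rank
import Cfsg.Agent.Mrg.Omega.FFMutual

section


/-!
# II.d, `k = 2`, nonsplit: (8) and the contradiction

* `Base.false_two` : `k' = 2`;
* `Base.false_one` : `k' = 1` (`T'` is a Sylow 2-subgroup).
-/

set_option autoImplicit false
set_option linter.unusedSectionVars false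

namespace Cfsg.Agent.Omega.IId.Ns

open Subgroup Cfsg Cfsg.Agent.ZN Cfsg.Agent.Lib.SL2Mat
open Cfsg.Agent.Omega.HOne.NSMod Cfsg.Agent.Omega.HOne.NSSide Cfsg.Agent.Omega.HOne.NSPair Cfsg.Agent.Omega.HOne.NSDat
open Cfsg.Agent.Omega.NatPair (ap ap_add ap_mul ap_one ap_inj ext2 ap_zero' ap_one' ap_inv_ap ap_ap_inv)
open Cfsg.Agent.Omega.BTwo (cj mem_cj conj_mem_cj card_cj cj_mul mem_normalizer_of_conj cj_eq_self_iff)

universe u

variable {G : Type u} [Group G] {F : Type} [Field F]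
  {T T' L L' A A' U U' : Subgroup G} {π π' : G → Fin 2 → F} {e f g e' f' g' : F → G}

theorem Base.Un (b : Base T T' L L' A A' U U' π π' e f g e' f' g') {t : G} (ht : t ∈ T) {u : G} (hu : u ∈ U) :
    t * u * t⁻¹ ∈ U := b.p.s.r.Dn t (b.TL ht) u hu

theorem Base.U'n [Finite F] (b : Base T T' L L' A A' U U' π π' e f g e' f' g') {t : G} (ht : t ∈ T) {u : G}
    (hu : u ∈ U') : t * u * t⁻¹ ∈ U' := by
  obtain ⟨z, rfl⟩ := b.U'_e hu
  obtain ⟨z', hz'⟩ := b.p.norm_e b.g1 ht z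
  rw [hz']; exact b.eU' z'

/-- **(8)** -/
theorem Base.syl [Finite G] [Finite F] (b : Base T T' L L' A A' U U' π π' e f g e' f' g') :
    ∃ Th : Subgroup G, IsPGroup 2 Th ∧ T ≤ Th ∧ Nat.card Th ≤ 2 * Nat.card T ∧
      ¬ 2 ∣ (Th ⊓ CC U U').relIndex (CC U U') ∧ Nat.card ↥(Th ⊓ CC U U') ≤ 2 * Nat.card ↥(T ⊓ CC U U') := by
  have : Fact (Nat.Prime 2) := ⟨Nat.prime_two⟩
  set BB : Subgroup G := normalizer (U : Set G) ⊓ normalizer (U' : Set G) with hBB
  have hTB : T ≤ BB := fun t ht => mem_inf.2 ⟨mem_normalizer_of_conj fun u hu => b.Un ht hu,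
    mem_normalizer_of_conj fun u hu => b.U'n ht hu⟩
  have hCB : CC U U' ≤ BB := inf_le_inf (centralizer_le_normalizer _) (centralizer_le_normalizer _)
  have hT' : IsPGroup 2 (T.subgroupOf BB) := b.T2.comap_of_injective BB.subtype Subtype.val_injective
  obtain ⟨Q, hQ⟩ := hT'.exists_le_sylow
  have hTh : IsPGroup 2 ((Q : Subgroup BB).map BB.subtype) := Q.isPGroup'.map _
  have hTT : T ≤ (Q : Subgroup BB).map BB.subtype := fun t ht => ⟨⟨t, hTB ht⟩, hQ (mem_subgroupOf.2 ht), rfl⟩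
  have hcd := b.two _ hTh hTT
  refine ⟨(Q : Subgroup BB).map BB.subtype, hTh, hTT, hcd, ?_, ?_⟩
  · -- `CC` is normal in `BB`
    have hn : ((CC U U').subgroupOf BB).Normal := by
      rw [normal_subgroupOf_iff_le_normalizer hCB]
      intro x hx
      refine mem_normalizer_of_conj fun c hc => ?_
      have h1 : ∀ u ∈ U, x⁻¹ * u * x ∈ U := fun u hu => by
        have := (mem_normalizer_iff.1 (inv_mem hx.1) u).1 hu
        rwa [inv_inv] at this
      have h2 : ∀ u ∈ U', x⁻¹ * u * x ∈ U' := fun u hu => by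
        have := (mem_normalizer_iff.1 (inv_mem hx.2) u).1 hu
        rwa [inv_inv] at this
      refine ⟨mem_centralizer_iff.2 fun u hu => ?_, mem_centralizer_iff.2 fun u hu => ?_⟩
      · have h3 := cc_l hc (h1 u hu)
        calc u * (x * c * x⁻¹) = x * ((x⁻¹ * u * x) * c) * x⁻¹ := by group
          _ = x * (c * (x⁻¹ * u * x)) * x⁻¹ := by rw [h3]
          _ = _ := by group
      · have h3 := cc_r hc (h2 u hu)
        calc u * (x * c * x⁻¹) = x * ((x⁻¹ * u * x) * c) * x⁻¹ := by group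
          _ = x * (c * (x⁻¹ * u * x)) * x⁻¹ := by rw [h3]
          _ = _ := by group
    have h1 : (Q : Subgroup BB).relIndex ((CC U U').subgroupOf BB) ∣ (Q : Subgroup BB).index :=
      Cfsg.Agent.Lib.GoldschmidtFusion.relIndex_dvd_index_of_normal_right _ _
    have h2 : (((Q : Subgroup BB).map BB.subtype) ⊓ CC U U').relIndex (CC U U') =
        (Q : Subgroup BB).relIndex ((CC U U').subgroupOf BB) := by
      rw [inf_relIndex_right, ← relIndex_subgroupOf hCB]
      congr 1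
      ext x
      rw [mem_subgroupOf]
      constructor
      · rintro ⟨y, hy, hyx⟩
        have : y = x := Subtype.ext hyx
        rwa [← this]
      · intro hx
        exact ⟨x, hx, rfl⟩
    rw [h2]
    exact fun h3 => Q.not_dvd_index (h3.trans h1)
  · set Th : Subgroup G := (Q : Subgroup BB).map BB.subtype with hThd
    have h1 : Nat.card T * T.relIndex Th = Nat.card Th := Cfsg.Agent.Lib.SylowNormalInf.card_mul_relIndex T Th hTT
    have h2 : T.relIndex Th ≤ 2 := by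
      by_contra h3
      have h4 : 0 < Nat.card T := Nat.card_pos
      nlinarith
    have h3 : T.relIndex (Th ⊓ CC U U') ≤ T.relIndex Th := relIndex_le_of_le_right inf_le_left index_ne_zero_of_finite
    have h4 := Cfsg.Agent.Lib.SylowNormalInf.card_inf_mul_relIndex T (Th ⊓ CC U U')
    have h5 : T ⊓ (Th ⊓ CC U U') = T ⊓ CC U U' := by
      rw [← inf_assoc, inf_eq_left.2 hTT]
    rw [h5] at h4
    rw [← h4, mul_comm]
    exact Nat.mul_le_mul_right _ (h3.trans h2)

/-- `Th` acts on `A` as `A'` -/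
theorem Base.act [Finite G] [Finite F] {s : G → F} (b : Base T T' L L' A A' U U' π π' e f g e' f' g')
    (c : Core T L A A' U U' π e g s) {Th : Subgroup G} (hTh : IsPGroup 2 Th) (hT : T ≤ Th)
    (hcd : Nat.card Th ≤ 2 * Nat.card T) {x : G} (hx : x ∈ Th) (hxC : x ∈ CC U U') :
    ∃ t : F, ∀ v ∈ A, x * v * x⁻¹ = e (t ^ 2 * π v 0) * g (t * π v 0) * v := by
  by_cases hxT : x ∈ T
  · exact b.tau hxT hxC
  obtain ⟨n, hn⟩ := b.exists_wm
  have h1 : Nat.card T * T.relIndex Th = Nat.card Th := Cfsg.Agent.Lib.SylowNormalInf.card_mul_relIndex T Th hT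
  have h2 : T.relIndex Th ≤ 2 := by
    by_contra h3
    have h4 : 0 < Nat.card T := Nat.card_pos
    nlinarith
  have h3 : T.relIndex Th ≠ 1 := fun h4 => hxT (relIndex_eq_one.1 h4 hx)
  have h4 : T.relIndex Th ≠ 0 := index_ne_zero_of_finite
  have h5 : (T.subgroupOf Th).index = 2 := by
    change T.relIndex Th = 2
    omega
  have h6 := normal_of_index_eq_two h5
  have hw : NW T T' L L' A A' U U' π π' e f g e' f' g' s x n :=
    { b := b
      c := c
      O' := EndL.A'O b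
      wC := hxC
      wT := mem_normalizer_of_conj fun t ht => mem_subgroupOf.1 (h6.conj_mem ⟨t, hT ht⟩ (mem_subgroupOf.2 ht) ⟨x, hx⟩)
      w2 := mem_subgroupOf.1 (mul_self_mem_of_index_two h5 ⟨x, hx⟩)
      tw := hTh.to_le (sup_le hT (by rw [zpowers_le]; exact hx))
      nT := hxT
      hn := hn }
  obtain ⟨n0, hn0, h7⟩ := hw.main
  obtain ⟨l, hl⟩ := b.p.s.typ n0 hn0
  obtain ⟨t, rfl⟩ := b.p.sq l
  exact ⟨t, fun v hv => by rw [h7 v hv]; exact b.act_n hl hv⟩

/-- two Sylow 2-subgroups of `C` have the same order -/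
theorem card_syl_le [Finite G] {C X Y : Subgroup G} (hX : X ≤ C) (hXp : IsPGroup 2 X) (hYp : IsPGroup 2 Y)
    (hY : ¬ 2 ∣ Y.relIndex C) : Nat.card X ≤ Nat.card Y := by
  obtain ⟨c, -, hc⟩ := exists_conj_le_syl hX hYp hXp hY
  have h1 := Subgroup.card_le_of_le hc
  rwa [card_cj] at h1

/-- **`k' = 2`** -/
theorem Base.false_two [Finite G] [Finite F] (hG : IsCharacteristicTwoType G) (h4 : 4 ≤ Nat.card F)
    (b : Base T T' L L' A A' U U' π π' e f g e' f' g') (hhalf : Half L' A')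
    (hna : ∃ x ∈ T' ⊓ centralizer (A' : Set G), ∃ y ∈ T' ⊓ centralizer (A' : Set G), x * y ≠ y * x) : False := by
  obtain ⟨s, c⟩ := b.exists_core
  obtain ⟨Th, hp, hT, hcd, hsy, hcd2⟩ := b.syl
  obtain ⟨Th', hp', hT', hcd', hsy', hcd2'⟩ := b.symm.syl
  have e1 : CC U' U = CC U U' := inf_comm _ _
  rw [e1] at hsy' hcd2'
  obtain ⟨c₀, hc₀, hle⟩ := exists_conj_le_syl (C := CC U U') (T := Th ⊓ CC U U') (X := T' ⊓ CC U U') inf_le_right
    (hp.to_le inf_le_left) (b.T2'.to_le inf_le_left) hsy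
  have h2 : Nat.card ↥(Th ⊓ CC U U') ≤ Nat.card ↥(Th' ⊓ CC U U') :=
    card_syl_le inf_le_right (hp.to_le inf_le_left) (hp'.to_le inf_le_left) hsy'
  exact end_lemma hG h4 b c (Sh := Th ⊓ CC U U') (hp.to_le inf_le_left) inf_le_right hsy
    (fun x hx => b.act c hp hT hcd hx.1 hx.2) hc₀ hle (h2.trans hcd2') hhalf hna

/-- **`k' = 1`** -/
theorem Base.false_one [Finite G] [Finite F] (hG : IsCharacteristicTwoType G) (h4 : 4 ≤ Nat.card F)
    (b : Base T T' L L' A A' U U' π π' e f g e' f' g')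
    (hS' : ∀ X : Subgroup G, IsPGroup 2 X → T' ≤ X → X ≤ T') (hhalf : Half L A)
    (hna : ∃ x ∈ T ⊓ centralizer (A : Set G), ∃ y ∈ T ⊓ centralizer (A : Set G), x * y ≠ y * x) : False := by
  obtain ⟨s, c⟩ := b.symm.exists_core
  obtain ⟨Th, hp, hT, hcd, hsy, hcd2⟩ := b.syl
  obtain ⟨Th', hp', hT', hcd', hsy', hcd2'⟩ := b.symm.syl
  have hTT : Th' = T' := le_antisymm (hS' _ hp' hT') hT'
  subst hTT
  have e1 : CC U' U = CC U U' := inf_comm _ _
  rw [← e1] at hsy hcd2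
  obtain ⟨c₀, hc₀, hle⟩ := exists_conj_le_syl (C := CC U' U) (T := Th' ⊓ CC U' U) (X := T ⊓ CC U' U) inf_le_right
    (hp'.to_le inf_le_left) (b.T2.to_le inf_le_left) hsy'
  have h2 : Nat.card ↥(Th' ⊓ CC U' U) ≤ Nat.card ↥(Th ⊓ CC U' U) :=
    card_syl_le inf_le_right (hp'.to_le inf_le_left) (hp.to_le inf_le_left) hsy
  exact end_lemma hG h4 b.symm c (Sh := Th' ⊓ CC U' U) (hp'.to_le inf_le_left) inf_le_right hsy'
    (fun x hx => b.symm.tau hx.1 hx.2) hc₀ hle (h2.trans hcd2) hhalf hna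

end Cfsg.Agent.Omega.IId.Ns

end

section


/-!
# II.d, nonsplit, `k = 2`, `k' ≤ 2`: impossible

* `base_of` : the configuration `Base` of the pair `(N_i, N'_j)`;
* `nonsplit_two` : there is no pair `(P, P')` of natural members with `k = 2`, `k' ≤ 2`, which are not both split.
-/

set_option autoImplicit false
set_option linter.unusedSectionVars false

namespace Cfsg.Agent.Omega.IId.Ns

open Subgroup Cfsg Cfsg.Agent.ZN Cfsg.Agent.ZN.ChoiceSit Cfsg.Agent.ZN.ChoiceBase Cfsg.Agent.Omega.MinPar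
open Cfsg.Agent.Omega.FrameFF Cfsg.Agent.Omega.FFThm Cfsg.Agent.Lib.SL2Mat
open Cfsg.Agent.Omega.NatPair (ap ap_add ap_mul ap_one ap_inj ext2 ap_zero' ap_one' ap_inv_ap ap_ap_inv)
open Cfsg.Agent.Omega.HOne (cv_le conj_mem_zl conj_mem_cv)
open Cfsg.Agent.Omega.HOne.Main (vx SplitPar)
open Cfsg.Agent.Omega.IId.Cv
open Cfsg.Agent.Omega.HOne.NSMod Cfsg.Agent.Omega.HOne.NSSide Cfsg.Agent.Omega.HOne.NSPair
open Cfsg.Agent.MinSimple.VModule (oddGen oddGen_le zc_comm zc_sq zc_le mem_zc o2_isPGroup)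
open Cfsg.Agent.Omega.FrameMulti (IsNat)

universe u

section po

variable {G : Type u} [Group G] [Finite G] {F : Type} [Field F] [Finite F] [CharP F 2]
  {S S' : Sylow 2 G} {P P' : Subgroup G} {k k' : ℕ}
  {M : NatK F (S : Subgroup G) P (zl (S : Subgroup G) P) (cv (S : Subgroup G) P) k}
  {M' : NatK F (S' : Subgroup G) P' (zl (S' : Subgroup G) P') (cv (S' : Subgroup G) P') k'}
  {i : Fin k} {j : Fin k'} {π π' : G → Fin 2 → F} {e f g e' f' g' : F → G}

theorem PO.symm (o : PO M M' i j π π' e f g e' f' g') : PO M' M j i π' π e' f' g' e f g where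
  m := o.m'
  m' := o.m
  p := o.p.symm
  c1 := o.c2
  c2 := o.c1
  g1 := o.g1'
  g1' := o.g1
  π0 := o.π0'
  π0' := o.π0

variable (o : PO M M' i j π π' e f g e' f' g')

include o

theorem PO.U_ne : Uc M i ≠ ⊥ := fun h0 => by
  have h1 := o.p.φ.gD (1 : F)
  rw [h0, mem_bot] at h1
  exact one_ne_zero (o.g1 1 h1)

/-- `U' = e(F)` -/
theorem PO.U'_iff (x : G) : x ∈ Uc M' j ↔ ∃ z, x = e z := by
  constructor
  · intro hx
    obtain ⟨y, rfl⟩ := o.p.φ'.ND x hx.1 hx
    choose θ hθ using o.c1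
    have hθi : Function.Injective θ := fun x y hxy => o.p.φ.e_inj o.p.s.r (by rw [hθ, hθ, hxy])
    obtain ⟨z, rfl⟩ := Finite.surjective_of_injective hθi y
    exact ⟨z, (hθ z).symm⟩
  · rintro ⟨z, rfl⟩
    obtain ⟨y, hy⟩ := o.c1 z
    rw [hy]; exact o.p.φ'.gD y

theorem PO.U'_le : Uc M' j ≤ Nc M i := fun x hx => by
  obtain ⟨z, rfl⟩ := (o.U'_iff x).1 hx
  exact o.p.φ.eV z

/-- `T` normalises `U` -/
theorem PO.T_U : Tc M i ≤ normalizer (Uc M i : Set G) := (Sd.Tc_le_St M i).trans (Sd.St_norm_Uc M i)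

/-- `T` normalises `U'` -/
theorem PO.T_U' : Tc M i ≤ normalizer (Uc M' j : Set G) := by
  refine Sd.le_normalizer_of_conj fun t ht u hu => ?_
  obtain ⟨z, rfl⟩ := (o.U'_iff u).1 hu
  obtain ⟨z', hz'⟩ := o.p.norm_e o.g1 ht z
  exact (o.U'_iff _).2 ⟨z', hz'⟩

theorem PO.T2 : IsPGroup 2 (Tc M i) := S.isPGroup'.to_le (Sd.Tc_le M i)

theorem PO.card_le {X : Subgroup G} (hX : IsPGroup 2 X) : Nat.card X ≤ Nat.card (S : Subgroup G) := by
  obtain ⟨Q, hQ⟩ := hX.exists_le_sylow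
  refine (Subgroup.card_le_of_le hQ).trans ?_
  have : Nat.card (Q : Subgroup G) = Nat.card (S : Subgroup G) := by
    rw [Q.card_eq_multiplicity, S.card_eq_multiplicity]
  exact this.le

variable (hG : IsCharacteristicTwoType G) (hp : Pair S S' P P')

include hG hp

theorem PO.AZ (hh : Half (Lc M i) (Nc M i)) : Nc M i ≤ zc (o2 (normalizer (Uc M i : Set G))) :=
  hh _ ((Sd.Lc_le_St S M i).trans (Sd.St_norm_Uc M i))
    (MinSimple.Basic.char2_normalizer hG ((S.isPGroup'.to_le (Sd.V_le_S hG S hp.star)).to_le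
      (inf_le_left.trans (Nc_le M i))) o.U_ne)

end po

section two

variable {G : Type u} [Group G] [Finite G] {F : Type} [Field F] [Finite F] [CharP F 2]
  {S S' : Sylow 2 G} {P P' : Subgroup G} {k' : ℕ}
  {M : NatK F (S : Subgroup G) P (zl (S : Subgroup G) P) (cv (S : Subgroup G) P) 2}
  {M' : NatK F (S' : Subgroup G) P' (zl (S' : Subgroup G) P') (cv (S' : Subgroup G) P') k'}
  {i : Fin 2} {j : Fin k'} {π π' : G → Fin 2 → F} {e f g e' f' g' : F → G}
  (o : PO M M' i j π π' e f g e' f' g') (hG : IsCharacteristicTwoType G) (hp : Pair S S' P P')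

include o hG hp

theorem PO.two : ∀ X : Subgroup G, IsPGroup 2 X → Tc M i ≤ X → Nat.card X ≤ 2 * Nat.card (Tc M i) :=
  fun _ hX _ => (o.card_le hX).trans (Sd.card_Tc S hp.star M i).le

/-- LEMMA X -/
theorem PO.OT (hF : 4 ≤ Nat.card F) : o2 (CC (Uc M i) (Uc M' j)) ≤ Tc M i := by
  obtain ⟨l, hil⟩ := exists_ne i
  obtain ⟨s, hs, hsm⟩ := M.trans i l
  have hSP := hp.star.le
  have hsP := hSP hs
  have hsm' : Mv M s i l := fun v hv => hsm v hv
  have hω := exists_omega hF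
  -- `Tc M l = Tc M i`
  have hTT : Tc M l ≤ Tc M i := fun t ht => ⟨ht.1, Mv_of_two S ht.1.2 hil ht.2⟩
  have hTT' : Tc M i ≤ Tc M l := fun t ht => ⟨ht.1, Mv_of_two S ht.1.2 hil.symm ht.2⟩
  have hsl : Mv M s l i := by
    obtain ⟨m, hm⟩ := exists_Mv (M := M) hsP l
    have h1 : m ≠ l := by
      rintro rfl
      exact hil (Mv.unique' hsm' hm hsP)
    have h2 : m = i := by omega
    rwa [h2] at hm
  have hUU : Uc M i ⊔ Uc M' j ≤ Nc M i := sup_le inf_le_left o.U'_le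
  refine LemX.o2_CC_le_pair o.p o.g1 o.U'_iff S.isPGroup' (Sd.Tc_le M i) hs ?_ ?_ (o.two hG hp) ?_ ?_
  · intro t ht
    have ht' := hTT' ht
    exact ⟨⟨mul_mem (mul_mem (inv_mem hs) ht.1.1) hs, mul_mem (mul_mem (inv_mem hsP) ht.1.2) hsP⟩,
      ((hsm'.inv hsP).mul (show Mv M t l l from ht'.2) ht.1.2).mul hsm' hsP⟩
  · exact ⟨⟨mul_mem hs hs, mul_mem hsP hsP⟩, hsl.mul hsm' hsP⟩
  · intro z
    have hL : Lc M l ≤ normalizer ((Uc M i ⊔ Uc M' j : Subgroup G) : Set G) := by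
      refine sup_le ?_ ?_
      · refine Sd.le_normalizer_of_conj fun t ht v hv => ?_
        have hti := hTT ht
        have h1 : Uc M i ⊔ Uc M' j ≤ (Uc M i ⊔ Uc M' j : Subgroup G).comap (MulAut.conj t).toMonoidHom := by
          refine sup_le (fun u hu => ?_) fun u hu => ?_
          · exact (le_sup_left : Uc M i ≤ Uc M i ⊔ Uc M' j) ((mem_normalizer_iff.1 (o.T_U hti) u).1 hu)
          · exact (le_sup_right : Uc M' j ≤ Uc M i ⊔ Uc M' j) ((mem_normalizer_iff.1 (o.T_U' hti) u).1 hu)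
        exact h1 hv
      · refine Sd.le_normalizer_of_conj fun x hx v hv => ?_
        have h1 := Sd.Fc_comm_Nc hG S hp.star M hω hil (Sd.Ec_le S M l hx) (hUU hv)
        rw [h1, mul_inv_cancel_right]
        exact hv
    have hne : Uc M i ⊔ Uc M' j ≠ ⊥ := fun h0 => o.U_ne (eq_bot_iff.2 (le_sup_left.trans h0.le))
    have h2 : IsPGroup 2 (Uc M i ⊔ Uc M' j : Subgroup G) :=
      (S.isPGroup'.to_le (Sd.V_le_S hG S hp.star)).to_le (hUU.trans (Nc_le M i))
    exact half_Lc hG S hp.star hF l _ hL (MinSimple.Basic.char2_normalizer hG h2 hne)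
      (Nc_mv hsP hsm' (o.p.φ.eV z))
  · intro z hz he
    have h1 : e z ∈ Nc M l := by
      rw [← he]; exact Nc_mv hsP hsm' (o.p.φ.eV z)
    have h2 : M.e (e z) i = 0 := Nc_e M h1 i hil
    have h3 : e z ∈ Uc M i := (Sd.mem_Uc_iff S M (o.p.φ.eV z)).2 h2
    have h4 := (o.p.s.r.ker _ (o.p.φ.eV z)).2 h3
    rw [o.p.φ.eπ] at h4
    have h5 := congrFun h4 1
    exact hz (by simpa using h5)

end two

section fin

variable {G : Type u} [Group G] [Finite G] {F : Type} [Field F] [Finite F] [CharP F 2]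
  {S S' : Sylow 2 G} {P P' : Subgroup G}
  {M : NatK F (S : Subgroup G) P (zl (S : Subgroup G) P) (cv (S : Subgroup G) P) 2}
  (hG : IsCharacteristicTwoType G) (hp : Pair S S' P P')

include hG hp

/-- **`k = k' = 2`** -/
theorem PO.false_two {M' : NatK F (S' : Subgroup G) P' (zl (S' : Subgroup G) P') (cv (S' : Subgroup G) P') 2}
    {i : Fin 2} {j : Fin 2} {π π' : G → Fin 2 → F} {e f g e' f' g' : F → G}
    (o : PO M M' i j π π' e f g e' f' g') (hF : 4 ≤ Nat.card F) : False := by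
  have hω := exists_omega hF
  have b : Base (Tc M i) (Tc M' j) (Lc M i) (Lc M' j) (Nc M i) (Nc M' j) (Uc M i) (Uc M' j) π π' e f g e' f' g' :=
    { p := o.p
      c1 := o.c1
      c2 := o.c2
      g1 := o.g1
      g1' := o.g1'
      T2 := o.T2
      T2' := o.symm.T2
      two := o.two hG hp
      two' := o.symm.two hG hp.symm
      QL := Sd.Lc_le_norm_Qc S M i
      QL' := Sd.Lc_le_norm_Qc S' M' j
      AZ := o.AZ hG hp (half_Lc hG S hp.star hF i)
      AZ' := o.symm.AZ hG hp.symm (half_Lc hG S' hp.star' hF j)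
      OT := o.OT hG hp hF
      OT' := by
        have h1 := o.symm.OT hG hp.symm hF
        have e1 : CC (Uc M' j) (Uc M i) = CC (Uc M i) (Uc M' j) := inf_comm _ _
        rw [e1] at h1
        exact h1 }
  obtain ⟨l, hjl⟩ := exists_ne j
  exact b.false_two hG hF (half_Lc hG S' hp.star' hF j) (Sd.exists_Qc_ne hG S' hp.star' M' hω hjl)

/-- **`k = 2`, `k' = 1`** -/
theorem PO.false_one {M' : NatK F (S' : Subgroup G) P' (zl (S' : Subgroup G) P') (cv (S' : Subgroup G) P') 1}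
    {i : Fin 2} {j : Fin 1} {π π' : G → Fin 2 → F} {e f g e' f' g' : F → G}
    (o : PO M M' i j π π' e f g e' f' g') (hF : 4 ≤ Nat.card F) : False := by
  have hω := exists_omega hF
  have hcT : Nat.card (S' : Subgroup G) = Nat.card (Tc M' j) := by
    have h1 := Sd.card_Tc S' hp.star' M' j
    rwa [one_mul] at h1
  have hTS : Tc M' j = (S' : Subgroup G) := Subgroup.eq_of_le_of_card_ge (Sd.Tc_le M' j) hcT.le
  have hS' : ∀ X : Subgroup G, IsPGroup 2 X → Tc M' j ≤ X → X ≤ Tc M' j := by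
    intro X hX hle
    rw [hTS] at hle ⊢
    exact (S'.is_maximal' hX hle).le
  have b : Base (Tc M i) (Tc M' j) (Lc M i) (Lc M' j) (Nc M i) (Nc M' j) (Uc M i) (Uc M' j) π π' e f g e' f' g' :=
    { p := o.p
      c1 := o.c1
      c2 := o.c2
      g1 := o.g1
      g1' := o.g1'
      T2 := o.T2
      T2' := o.symm.T2
      two := o.two hG hp
      two' := fun X hX hle => by
        have h1 := Subgroup.card_le_of_le (hS' X hX hle)
        omega
      QL := Sd.Lc_le_norm_Qc S M i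
      QL' := Sd.Lc_le_norm_Qc S' M' j
      AZ := o.AZ hG hp (half_Lc hG S hp.star hF i)
      AZ' := o.symm.AZ hG hp.symm (half_of_sylow hG S' hp.star' hF hTS.ge)
      OT := o.OT hG hp hF
      OT' := LemX.o2_CC_le_of_sylow o.symm.T2 hS' o.symm.T_U' o.symm.T_U }
  obtain ⟨l, hil⟩ := exists_ne i
  exact b.false_one hG hF hS' (half_Lc hG S hp.star hF i) (Sd.exists_Qc_ne hG S hp.star M hω hil)

end fin

/-- **Nonsplit, `k = 2`, `k' ≤ 2`: impossible.** -/
theorem nonsplit_two {G : Type u} [Group G] [Finite G] (hG : IsCharacteristicTwoType G) {S S' : Sylow 2 G}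
    {P P' : Subgroup G} (hp : Pair S S' P P') (hT : NoOver (zl (S : Subgroup G) P) P)
    (hT' : NoOver (zl (S' : Subgroup G) P') P') {k' : ℕ} (hk1 : 1 ≤ k') (hk2 : k' ≤ 2)
    (hM : IsNat (S : Subgroup G) P 2) (hM' : IsNat (S' : Subgroup G) P' k')
    (hs : ¬ (SplitPar (S : Subgroup G) P ∧ SplitPar (S' : Subgroup G) P')) : False := by
  obtain ⟨F, _, _, _, ⟨M⟩⟩ := hM
  obtain ⟨F', _, _, _, ⟨M₁⟩⟩ := hM'
  obtain ⟨I, I', b, c, d⟩ := exists_pd hG hp hT hT' M M₁
  have hcard := d.card_eq two_pos (by omega)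
  -- `|F| ≥ 4`
  have hF : 4 ≤ Nat.card F := by
    by_contra hlt
    have : Fintype F := Fintype.ofFinite F
    have h1 : 1 < Nat.card F := Finite.one_lt_card
    have h2 : 2 ∣ Nat.card F := two_dvd_card
    have h3 : Nat.card F = 2 := by omega
    exact hs ⟨splitPar_two hG S hp.star M two_pos h3, splitPar_two hG S' hp.star' M₁ (by omega) (hcard ▸ h3)⟩
  -- one field
  have : Fintype F := Fintype.ofFinite F
  have : Fintype F' := Fintype.ofFinite F'
  have hσ : Nonempty (F' ≃+* F) := by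
    rw [Nat.card_eq_fintype_card, Nat.card_eq_fintype_card] at hcard
    exact ⟨FiniteField.ringEquivOfCardEq hcard.symm⟩
  obtain ⟨σ⟩ := hσ
  obtain ⟨M', hM'⟩ : ∃ M' : NatK F (S' : Subgroup G) P' (zl (S' : Subgroup G) P') (cv (S' : Subgroup G) P') k',
      M' = natKFld σ M₁ := ⟨_, rfl⟩
  obtain ⟨I, I', b, c, d⟩ := exists_pd hG hp hT hT' M M'
  obtain ⟨i, j, m, m'⟩ := d.exists_mt two_pos (by omega)
  have hω := exists_omega hF
  rcases Nat.lt_or_ge k' 2 with hk | hk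
  · obtain rfl : k' = 1 := by omega
    have hcT : Nat.card (S' : Subgroup G) = Nat.card (Tc M' j) := by
      have h1 := Sd.card_Tc S' hp.star' M' j
      rwa [one_mul] at h1
    have hTS : Tc M' j = (S' : Subgroup G) := Subgroup.eq_of_le_of_card_ge (Sd.Tc_le M' j) hcT.le
    obtain ⟨π, π', e, f, g, e', f', g', o⟩ := exists_po hG hp hω m m' (half_Lc hG S hp.star hF i)
      (half_of_sylow hG S' hp.star' hF hTS.ge) hs
    exact PO.false_one hG hp o hF
  · obtain rfl : k' = 2 := by omega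
    obtain ⟨π, π', e, f, g, e', f', g', o⟩ := exists_po hG hp hω m m' (half_Lc hG S hp.star hF i)
      (half_Lc hG S' hp.star' hF j) hs
    exact PO.false_two hG hp o hF

end Cfsg.Agent.Omega.IId.Ns

end
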