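import Cfsg.Agent.Mrg.Omega.IId.Ns.NineA
import Cfsg.Agent.Mrg.Omega.HOne.NSK.Lin
import Cfsg.Agent.Lib.GoldschmidtFusion
import Cfsg.Agent.Lib.EssentialFusion

section


/-!
# II.d, `k = 2`, nonsplit: the group `GG = ⟨X, w, T ∩ C⟩` on `Y = A (w A w⁻¹) = A B`
-/

set_option autoImplicit false
set_option linter.unusedSectionVars false

namespace Cfsg.Agent.Omega.IId.Ns

open Subgroup Cfsg Cfsg.Agent.ZN Cfsg.Agent.Lib.SL2Mat
open Cfsg.Agent.Omega.HOne.NSMod Cfsg.Agent.Omega.HOne.NSSide Cfsg.Agent.Omega.HOne.NSPair Cfsg.Agent.Omega.HOne.NSDat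
open Cfsg.Agent.Omega.NatPair (ap ap_add ap_mul ap_one ap_inj ext2 ap_zero' ap_one' ap_inv_ap ap_ap_inv)
open Cfsg.Agent.Omega.BTwo (cj mem_cj conj_mem_cj card_cj cj_mul isPGroup_cj mem_normalizer_of_conj)

universe u

variable {G : Type u} [Group G] {F : Type} [Field F]
  {T T' L L' A A' U U' : Subgroup G} {π π' : G → Fin 2 → F} {e f g e' f' g' : F → G} {s : G → F}

/-- The situation of (9): `w ∈ C`, `w ∈ N(T) - T`, `T⟨w⟩` a 2-group. -/
structure NW (T T' L L' A A' U U' : Subgroup G) (π π' : G → Fin 2 → F) (e f g e' f' g' : F → G) (s : G → F)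
    (w n : G) : Prop where
  b : Base T T' L L' A A' U U' π π' e f g e' f' g'
  c : Core T L A A' U U' π e g s
  O' : A' ≤ o2 (CC U U')
  wC : w ∈ CC U U'
  wT : w ∈ normalizer (T : Set G)
  w2 : w * w ∈ T
  tw : IsPGroup 2 ↥(T ⊔ zpowers w)
  nT : w ∉ T
  hn : Is L A U π n (wm 1 one_ne_zero)

namespace NW

variable [Finite G] [Finite F] {w n : G} (h : NW T T' L L' A A' U U' π π' e f g e' f' g' s w n)

/-- `Y = A (w A w⁻¹)` -/
def Y (A : Subgroup G) (w : G) : Subgroup G := A ⊔ cj w A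

/-- `B = C_Y(X)` -/
def B (A A' U : Subgroup G) (w n : G) : Subgroup G := Y A w ⊓ K0 A A' U n

/-- `S₀ = T ∩ C` -/
def S0 (T U U' : Subgroup G) : Subgroup G := T ⊓ CC U U'

/-- `X = ⟨A', n⁻¹ A' n⟩` -/
def X (A' : Subgroup G) (n : G) : Subgroup G := A' ⊔ cj n⁻¹ A'

/-- `GG = ⟨X, T ∩ C, w⟩` -/
def GG (T A' U U' : Subgroup G) (w n : G) : Subgroup G := X A' n ⊔ (S0 T U U' ⊔ zpowers w)

/-- the kernel on `Y` -/
def KK (T A A' U U' : Subgroup G) (w n : G) : Subgroup G := GG T A' U U' w n ⊓ centralizer (Y A w : Set G)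

include h

theorem nM : n ∈ centralizer (U : Set G) := mem_centralizer_iff.2 fun u hu => (h.hn.cen u hu).symm

theorem nM' : n⁻¹ ∈ centralizer (U : Set G) := inv_mem h.nM

theorem AY : A ≤ Y A w := le_sup_left

theorem wAY {a : G} (ha : a ∈ A) : w * a * w⁻¹ ∈ Y A w := le_sup_right (a := A) (conj_mem_cj ha)

theorem Y_le : Y A w ≤ UG A U :=
  sup_le h.c.AU (by rintro _ ⟨a, ha, rfl⟩; exact h.c.MU w h.wC.1 a (h.c.AU ha))

theorem Yc {x y : G} (hx : x ∈ Y A w) (hy : y ∈ Y A w) : x * y = y * x := h.c.ab x (h.Y_le hx) y (h.Y_le hy)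

/-- `T` normalises `C` -/
theorem TC {t : G} (ht : t ∈ T) {x : G} (hx : x ∈ CC U U') : t * x * t⁻¹ ∈ CC U U' := by
  have hU : ∀ y ∈ T, ∀ u ∈ U, y * u * y⁻¹ ∈ U := fun y hy u hu => h.b.p.s.r.Dn y (h.b.TL hy) u hu
  have hU' : ∀ y ∈ T, ∀ u ∈ U', y * u * y⁻¹ ∈ U' := by
    intro y hy u hu
    obtain ⟨z, rfl⟩ := h.b.p.φ'.ND u (h.b.p.s'.r.DV hu) hu
    -- `g'(F) = e(F)`
    have hsurj : ∀ z, ∃ y, g' z = e y := by
      choose θ hθ using h.b.c1
      have hθi : Function.Injective θ := fun x y hxy => h.b.p.φ.e_inj h.b.p.s.r (by rw [hθ, hθ, hxy])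
      intro z
      obtain ⟨x, rfl⟩ := Finite.surjective_of_injective hθi z
      exact ⟨x, (hθ x).symm⟩
    obtain ⟨x, hx⟩ := hsurj z
    rw [hx]
    obtain ⟨z', hz'⟩ := h.b.p.norm_e h.b.g1 hy x
    rw [hz']; exact h.b.eU' z'
  refine ⟨mem_centralizer_iff.2 fun u hu => ?_, mem_centralizer_iff.2 fun u hu => ?_⟩
  · have h1 := hU t⁻¹ (inv_mem ht) u hu
    rw [inv_inv] at h1
    have h2 := cc_l hx h1
    calc u * (t * x * t⁻¹) = t * ((t⁻¹ * u * t) * x) * t⁻¹ := by group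
      _ = t * (x * (t⁻¹ * u * t)) * t⁻¹ := by rw [h2]
      _ = _ := by group
  · have h1 := hU' t⁻¹ (inv_mem ht) u hu
    rw [inv_inv] at h1
    have h2 := cc_r hx h1
    calc u * (t * x * t⁻¹) = t * ((t⁻¹ * u * t) * x) * t⁻¹ := by group
      _ = t * (x * (t⁻¹ * u * t)) * t⁻¹ := by rw [h2]
      _ = _ := by group

/-- `w` normalises `S₀` -/
theorem wS {y : G} (hy : y ∈ S0 T U U') : w * y * w⁻¹ ∈ S0 T U U' :=
  mem_inf.2 ⟨(mem_normalizer_iff.1 h.wT y).1 hy.1, mul_mem (mul_mem h.wC hy.2) (inv_mem h.wC)⟩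

theorem wS' {y : G} (hy : y ∈ S0 T U U') : w⁻¹ * y * w ∈ S0 T U U' := by
  have h1 := (mem_normalizer_iff.1 (inv_mem h.wT) y).1 hy.1
  rw [inv_inv] at h1
  exact mem_inf.2 ⟨h1, mul_mem (mul_mem (inv_mem h.wC) hy.2) h.wC⟩

theorem wwS : w * w ∈ S0 T U U' := ⟨h.w2, mul_mem h.wC h.wC⟩

/-- `C_T(A)` centralises `Y` -/
theorem QY {q : G} (hq : q ∈ T ⊓ centralizer (A : Set G)) {y : G} (hy : y ∈ Y A w) : q * y = y * q := by
  have h1 : Y A w ≤ centralizer ({q} : Set G) := by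
    refine sup_le (fun a ha => ?_) ?_
    · rw [mem_centralizer_iff]
      rintro _ rfl
      exact (mem_centralizer_iff.1 hq.2 a ha).symm
    · rintro _ ⟨a, ha, rfl⟩
      change w * a * w⁻¹ ∈ _
      rw [mem_centralizer_iff]
      rintro _ rfl
      exact comm_Q h.b h.c h.O' h.wC h.wT hq ha
  exact mem_centralizer_iff.1 (h1 hy) q rfl

/-- `S₀` acts on `Y` as `A'` -/
theorem actS {y : G} (hy : y ∈ S0 T U U') : ∃ t : F, (∀ v ∈ A, y * v * y⁻¹ = e (t ^ 2 * π v 0) * g (t * π v 0) * v) ∧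
    ∀ u ∈ Y A w, y * u * y⁻¹ = e (t ^ 2 * s u) * g (t * s u) * u := by
  obtain ⟨t, ht⟩ := h.b.tau hy.1 hy.2
  refine ⟨t, ht, fun u hu => ?_⟩
  obtain ⟨k, hk, hkI⟩ := h.b.exists_n t
  have hq : k⁻¹ * y ∈ T ⊓ centralizer (A : Set G) := by
    refine mem_inf.2 ⟨mul_mem (inv_mem (h.b.A'T hk)) hy.1, mem_centralizer_iff.2 fun v hv => ?_⟩
    have h1 := ht v hv
    have h2 := h.b.act_n hkI hv
    have h3 : k⁻¹ * (y * v * y⁻¹) * k = v := by
      rw [h1, ← h2]; group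
    calc v * (k⁻¹ * y) = (k⁻¹ * (y * v * y⁻¹) * k) * (k⁻¹ * y) := by rw [h3]
      _ = _ := by group
  have h4 := h.QY hq hu
  have h5 := h.c.s_act t k hk hkI u (h.Y_le hu)
  calc y * u * y⁻¹ = k * ((k⁻¹ * y) * u) * (k⁻¹ * y)⁻¹ * k⁻¹ := by group
    _ = k * u * k⁻¹ := by rw [h4]; group
    _ = _ := h5

/-- the parameter is determined -/
theorem t_inj {t t' : F} (h1 : e (t ^ 2 * π (f 1) 0) * g (t * π (f 1) 0) = e (t' ^ 2 * π (f 1) 0) * g (t' * π (f 1) 0)) :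
    t = t' := by
  have hf : π (f 1) 0 = 1 := by rw [h.b.p.φ.fπ]; rfl
  rw [hf, mul_one, mul_one, mul_one, mul_one] at h1
  have h2 := (h.b.p.φ.eg_inj h.b.p.s.r h1).1
  have two := h.b.p.s.r.two
  have h3 : (t - t') ^ 2 = 0 := by linear_combination h2 + (t' ^ 2 - t * t') * two
  exact sub_eq_zero.1 (pow_eq_zero_iff two_ne_zero |>.1 h3)

/-- `Y = A B` -/
theorem Y_dec {u : G} (hu : u ∈ Y A w) : ∃ a ∈ A, ∃ k ∈ B A A' U w n, u = a * k := by
  have hBA : B A A' U w n ≤ normalizer (A : Set G) := by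
    intro k hk
    rw [mem_normalizer_iff]
    intro a
    constructor
    · intro ha
      rw [h.Yc hk.1 (h.AY ha), mul_inv_cancel_right]; exact ha
    · intro ha
      have h1 := h.Yc hk.1 (h.AY ha)
      have h2 : a = k⁻¹ * (k * a * k⁻¹) * k := by group
      have h3 : k⁻¹ * (k * a * k⁻¹) * k = k * a * k⁻¹ := by
        rw [mul_assoc, ← h1, inv_mul_cancel_left]
      rw [h2, h3]; exact ha
  have h1 : Y A w ≤ A ⊔ B A A' U w n := by
    refine sup_le le_sup_left ?_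
    rintro _ ⟨a, ha, rfl⟩
    change w * a * w⁻¹ ∈ _
    have haU := h.c.AU ha
    have hwa : w * a * w⁻¹ ∈ UG A U := h.c.MU w h.wC.1 a haU
    have hd : a⁻¹ * (w * a * w⁻¹) ∈ UG A U := mul_mem (inv_mem haU) hwa
    have hs : s (a⁻¹ * (w * a * w⁻¹)) = 0 := by
      rw [h.c.s_add _ (inv_mem haU) _ hwa, h.c.s_conj w h.wC a ha, h.c.s_A _ (inv_mem ha), h.b.p.s.r.map_inv ha]
      simp
    obtain ⟨z, hz⟩ := dec_ker h.b h.c h.hn hd hs
    have e1 : w * a * w⁻¹ = (a * e z) * ((e z)⁻¹ * (a⁻¹ * (w * a * w⁻¹))) := by group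
    rw [e1]
    refine mul_mem (le_sup_left (a := A) (mul_mem ha (h.b.eA z))) (le_sup_right (a := A) (mem_inf.2 ⟨?_, hz⟩))
    exact mul_mem (inv_mem (h.AY (h.b.eA z))) (mul_mem (inv_mem (h.AY ha)) (h.wAY ha))
  have h2 : u ∈ ((A ⊔ B A A' U w n : Subgroup G) : Set G) := h1 hu
  rw [coe_mul_of_right_le_normalizer_left _ _ hBA] at h2
  obtain ⟨a, ha, k, hk, rfl⟩ := h2
  exact ⟨a, ha, k, hk, rfl⟩

/-- `s = 0` on `B` -/
theorem sB {k : G} (hk : k ∈ B A A' U w n) : s k = 0 :=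
  ((mem_K0_iff h.b h.c h.hn (h.Y_le hk.1)).1 hk.2).1

/-- `X` centralises `B` -/
theorem XB {x : G} (hx : x ∈ X A' n) {k : G} (hk : k ∈ B A A' U w n) : x * k = k * x := by
  have h1 : X A' n ≤ centralizer ({k} : Set G) := by
    refine sup_le (fun a ha => ?_) (fun a ha => ?_)
    · rw [mem_centralizer_iff]
      rintro _ rfl
      exact ((mem_K0.1 hk.2).2.1 a ha).symm
    · rw [mem_centralizer_iff]
      rintro _ rfl
      exact (mem_centralizer_iff.1 hk.2.2 a ha).symm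
  exact (mem_centralizer_iff.1 (h1 hx) k rfl).symm

/-- `X ≤ L` -/
theorem XL : X A' n ≤ L :=
  sup_le (h.b.A'T.trans h.b.TL) (by
    rintro _ ⟨a, ha, rfl⟩
    exact mul_mem (mul_mem (inv_mem h.hn.mem) (h.b.TL (h.b.A'T ha))) (by simpa using h.hn.mem))

/-- `X ≤ C(U)` -/
theorem XM : X A' n ≤ centralizer (U : Set G) :=
  sup_le (fun a ha => (h.b.A'C ha).1) (by
    rintro _ ⟨a, ha, rfl⟩
    exact mul_mem (mul_mem h.nM' (h.b.A'C ha).1) (inv_mem h.nM'))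

/-- `X` normalises `Y` -/
theorem XY {x : G} (hx : x ∈ X A' n) {u : G} (hu : u ∈ Y A w) : x * u * x⁻¹ ∈ Y A w := by
  obtain ⟨a, ha, k, hk, rfl⟩ := h.Y_dec hu
  have h1 : x * a * x⁻¹ ∈ A := h.b.p.s.r.Vn x (h.XL hx) a ha
  have e1 : x * (a * k) * x⁻¹ = (x * a * x⁻¹) * (x * k * x⁻¹) := by group
  rw [e1, fix_of_comm (h.XB hx hk)]
  exact mul_mem (h.AY h1) hk.1

theorem SY {x : G} (hx : x ∈ S0 T U U') {u : G} (hu : u ∈ Y A w) : x * u * x⁻¹ ∈ Y A w := by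
  obtain ⟨t, -, h1⟩ := h.actS hx
  rw [h1 u hu]
  exact mul_mem (mul_mem (h.AY (h.b.eA _)) (h.AY (h.b.gA _))) hu

theorem wY {u : G} (hu : u ∈ Y A w) : w * u * w⁻¹ ∈ Y A w := by
  have h1 : cj w (Y A w) ≤ Y A w := by
    unfold Y
    rw [BTwo.cj_sup]
    refine sup_le le_sup_right ?_
    rintro _ ⟨_, ⟨a, ha, rfl⟩, rfl⟩
    change w * (w * a * w⁻¹) * w⁻¹ ∈ _
    have e1 : w * (w * a * w⁻¹) * w⁻¹ = (w * w) * a * (w * w)⁻¹ := by group
    rw [e1]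
    exact le_sup_left (a := A) (h.b.p.s.r.Vn _ (h.b.TL h.w2) a ha)
  exact h1 (conj_mem_cj hu)

/-- `GG` normalises `Y` -/
theorem GY : GG T A' U U' w n ≤ normalizer (Y A w : Set G) := by
  refine sup_le (fun x hx => mem_normalizer_of_conj fun u hu => h.XY hx hu)
    (sup_le (fun x hx => mem_normalizer_of_conj fun u hu => h.SY hx hu) ?_)
  rw [zpowers_le]
  exact mem_normalizer_of_conj fun u hu => h.wY hu

theorem GY' {x : G} (hx : x ∈ GG T A' U U' w n) {u : G} (hu : u ∈ Y A w) : x * u * x⁻¹ ∈ Y A w :=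
  (mem_normalizer_iff.1 (h.GY hx) u).1 hu

theorem GM : GG T A' U U' w n ≤ centralizer (U : Set G) :=
  sup_le h.XM (sup_le (fun _ hx => hx.2.1) (by rw [zpowers_le]; exact h.wC.1))

theorem XG : X A' n ≤ GG T A' U U' w n := le_sup_left

theorem SG : S0 T U U' ≤ GG T A' U U' w n := le_sup_left.trans le_sup_right

theorem wG : w ∈ GG T A' U U' w n :=
  (le_sup_right.trans (le_sup_right (a := X A' n)) : zpowers w ≤ GG T A' U U' w n) (mem_zpowers w)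

theorem ShG : S0 T U U' ⊔ zpowers w ≤ GG T A' U U' w n := le_sup_right

theorem KG : KK T A A' U U' w n ≤ GG T A' U U' w n := inf_le_left

theorem mem_KK {x : G} : x ∈ KK T A A' U U' w n ↔ x ∈ GG T A' U U' w n ∧ ∀ u ∈ Y A w, x * u = u * x := by
  unfold KK
  rw [mem_inf, mem_centralizer_iff]
  exact ⟨fun ⟨h1, h2⟩ => ⟨h1, fun u hu => (h2 u hu).symm⟩, fun ⟨h1, h2⟩ => ⟨h1, fun u hu => (h2 u hu).symm⟩⟩

/-- `KK` is normal in `GG` -/
theorem GK : GG T A' U U' w n ≤ normalizer (KK T A A' U U' w n : Set G) := by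
  intro x hx
  refine mem_normalizer_of_conj fun k hk => ?_
  rw [h.mem_KK] at hk ⊢
  refine ⟨mul_mem (mul_mem hx hk.1) (inv_mem hx), fun u hu => ?_⟩
  have h1 : x⁻¹ * u * x ∈ Y A w := by
    have := h.GY' (inv_mem hx) hu
    rwa [inv_inv] at this
  have h2 := hk.2 _ h1
  calc x * k * x⁻¹ * u = x * (k * (x⁻¹ * u * x)) * x⁻¹ := by group
    _ = x * (x⁻¹ * u * x * k) * x⁻¹ := by rw [h2]
    _ = _ := by group

/-- `C_T(A) ≤ KK` -/
theorem QK : T ⊓ centralizer (A : Set G) ≤ KK T A A' U U' w n := by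
  intro q hq
  rw [h.mem_KK]
  exact ⟨h.SG ⟨hq.1, h.b.QC hq⟩, fun u hu => h.QY hq hu⟩

end NW

end Cfsg.Agent.Omega.IId.Ns

end

section


/-!
# II.d, `k = 2`, nonsplit: (9c) `w² ∈ KK`
-/

set_option autoImplicit false
set_option linter.unusedSectionVars false

namespace Cfsg.Agent.Omega.IId.Ns

open Subgroup Cfsg Cfsg.Agent.ZN Cfsg.Agent.Lib.SL2Mat
open Cfsg.Agent.Omega.HOne.NSMod Cfsg.Agent.Omega.HOne.NSSide Cfsg.Agent.Omega.HOne.NSPair Cfsg.Agent.Omega.HOne.NSDat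
open Cfsg.Agent.Omega.NatPair (ap ap_add ap_mul ap_one ap_inj ext2 ap_zero' ap_one' ap_inv_ap ap_ap_inv)
open Cfsg.Agent.Omega.BTwo (cj mem_cj conj_mem_cj card_cj cj_mul mem_normalizer_of_conj cj_eq_self_iff)

universe u

variable {G : Type u} [Group G] {F : Type} [Field F]
  {T T' L L' A A' U U' : Subgroup G} {π π' : G → Fin 2 → F} {e f g e' f' g' : F → G} {s : G → F}

/-- the elements of `H` commuting with `y` modulo `K` -/
def cenMod (H K : Subgroup G) (hK : H ≤ normalizer (K : Set G)) (y : G) : Subgroup G where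
  carrier := {c | c ∈ H ∧ c * y * c⁻¹ * y⁻¹ ∈ K}
  one_mem' := ⟨one_mem _, by simp⟩
  mul_mem' := by
    rintro c d ⟨hc, hc'⟩ ⟨hd, hd'⟩
    refine ⟨mul_mem hc hd, ?_⟩
    have e1 : c * d * y * (c * d)⁻¹ * y⁻¹ = c * (d * y * d⁻¹ * y⁻¹) * c⁻¹ * (c * y * c⁻¹ * y⁻¹) := by group
    rw [e1]
    exact mul_mem ((mem_normalizer_iff.1 (hK hc) _).1 hd') hc'
  inv_mem' := by
    rintro c ⟨hc, hc'⟩
    refine ⟨inv_mem hc, ?_⟩
    have e1 : c⁻¹ * y * c⁻¹⁻¹ * y⁻¹ = (c⁻¹ * (c * y * c⁻¹ * y⁻¹) * c⁻¹⁻¹)⁻¹ := by group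
    rw [e1]
    exact inv_mem ((mem_normalizer_iff.1 (hK (inv_mem hc)) _).1 hc')

theorem Base.U'_e [Finite F] (b : Base T T' L L' A A' U U' π π' e f g e' f' g') {u : G} (hu : u ∈ U') :
    ∃ z, u = e z := by
  obtain ⟨z, rfl⟩ := b.p.φ'.ND u (b.p.s'.r.DV hu) hu
  choose θ hθ using b.c1
  have hθi : Function.Injective θ := fun x y hxy => b.p.φ.e_inj b.p.s.r (by rw [hθ, hθ, hxy])
  obtain ⟨x, rfl⟩ := Finite.surjective_of_injective hθi z
  exact ⟨x, (hθ x).symm⟩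

theorem Base.U_g (b : Base T T' L L' A A' U U' π π' e f g e' f' g') {u : G} (hu : u ∈ U) :
    ∃ z, u = g z := b.p.φ.ND u (b.p.s.r.DV hu) hu

namespace NW

variable [Finite G] [Finite F] {w n : G} (h : NW T T' L L' A A' U U' π π' e f g e' f' g' s w n)

/-- `Sh = S₀ ⟨w⟩` -/
def Sh (T U U' : Subgroup G) (w : G) : Subgroup G := S0 T U U' ⊔ zpowers w

include h

/-- lifts of `SL₂` in `X` -/
theorem X_lift (M : Matrix.SpecialLinearGroup (Fin 2) F) : ∃ x ∈ X A' n, Is L A U π x M := by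
  have r := h.b.p.s.r
  have h1 : ∀ b : F, ∃ x ∈ X A' n, Is L A U π x (lo b) := fun b => by
    obtain ⟨a, ha, hI⟩ := h.b.p.s.full b
    exact ⟨a, (le_sup_left : A' ≤ X A' n) ha, hI⟩
  have h2 : ∀ b : F, ∃ x ∈ X A' n, Is L A U π x (up b) := fun b => by
    obtain ⟨a, ha, hI⟩ := h.b.p.s.full (-b)
    refine ⟨n⁻¹ * a * n, ?_, ?_⟩
    · have := conj_mem_cj (g := n⁻¹) ha
      rw [inv_inv] at this
      exact (le_sup_right : cj n⁻¹ A' ≤ X A' n) this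
    · have h3 := r.is_mul (r.is_mul (r.is_inv h.hn) hI) h.hn
      have h4 : (wm (1 : F) one_ne_zero)⁻¹ * lo (-b) * wm 1 one_ne_zero = up b := by
        rw [mul_assoc, inv_mul_eq_iff_eq_mul]
        apply ext_ent <;> simp [ent_mul]
      rwa [h4] at h3
  obtain ⟨a, b, c, d, rfl⟩ := exists_up_lo M
  obtain ⟨x1, hx1, i1⟩ := h2 a
  obtain ⟨x2, hx2, i2⟩ := h1 b
  obtain ⟨x3, hx3, i3⟩ := h2 c
  obtain ⟨x4, hx4, i4⟩ := h1 d
  exact ⟨x1 * x2 * x3 * x4, mul_mem (mul_mem (mul_mem hx1 hx2) hx3) hx4,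
    r.is_mul (r.is_mul (r.is_mul i1 i2) i3) i4⟩

/-- `S₀` centralises `B` -/
theorem SB {x : G} (hx : x ∈ S0 T U U') {k : G} (hk : k ∈ B A A' U w n) : x * k = k * x := by
  obtain ⟨t, -, h1⟩ := h.actS hx
  have h2 := h1 k hk.1
  rw [h.sB hk, mul_zero, mul_zero, h.b.p.φ.e0, h.b.p.φ.g0, one_mul, one_mul] at h2
  exact comm_of_fix h2

/-- what centralises `A` and `B` is in `KK` -/
theorem mem_KK' {x : G} (hx : x ∈ GG T A' U U' w n) (hA : ∀ a ∈ A, x * a * x⁻¹ = a)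
    (hB : ∀ k ∈ B A A' U w n, x * k = k * x) : x ∈ KK T A A' U U' w n := by
  rw [h.mem_KK]
  refine ⟨hx, fun u hu => ?_⟩
  obtain ⟨a, ha, k, hk, rfl⟩ := h.Y_dec hu
  rw [← mul_assoc, comm_of_fix (hA a ha), mul_assoc, hB k hk, mul_assoc]

/-- elements of `X` with the same action on `A` agree modulo `KK` -/
theorem X_KK {x y : G} (hx : x ∈ X A' n) (hy : y ∈ X A' n) {M : Matrix.SpecialLinearGroup (Fin 2) F}
    (hxM : Is L A U π x M) (hyM : Is L A U π y M) : x * y⁻¹ ∈ KK T A A' U U' w n := by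
  refine h.mem_KK' (h.XG (mul_mem hx (inv_mem hy))) (fun a ha => ?_) fun k hk => ?_
  · have h1 : y⁻¹ * a * y ∈ A := by
      have := h.b.p.s.r.Vn y⁻¹ (inv_mem hyM.mem) a ha
      rwa [inv_inv] at this
    have h2 := h.b.p.s.r.is_eq hxM hyM _ h1
    calc x * y⁻¹ * a * (x * y⁻¹)⁻¹ = x * (y⁻¹ * a * y) * x⁻¹ := by group
      _ = y * (y⁻¹ * a * y) * y⁻¹ := h2
      _ = a := by group
  · exact h.XB (mul_mem hx (inv_mem hy)) hk

theorem KKn {x k : G} (hx : x ∈ GG T A' U U' w n) (hk : k ∈ KK T A A' U U' w n) :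
    x * k * x⁻¹ ∈ KK T A A' U U' w n := (mem_normalizer_iff.1 (h.GK hx) k).1 hk

theorem ShG' : Sh T U U' w ≤ GG T A' U U' w n := h.ShG

/-- the elements of `Sh` -/
theorem Sh_dec {x : G} (hx : x ∈ Sh T U U' w) : x ∈ S0 T U U' ∨ ∃ y ∈ S0 T U U', x = w * y := by
  have h1 : zpowers w ≤ normalizer (S0 T U U' : Set G) := by
    rw [zpowers_le]
    exact mem_normalizer_of_conj fun y hy => h.wS hy
  have h2 : x ∈ ((zpowers w ⊔ S0 T U U' : Subgroup G) : Set G) := by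
    rw [sup_comm]; exact hx
  rw [coe_mul_of_left_le_normalizer_right _ _ h1] at h2
  obtain ⟨z, ⟨i, rfl⟩, y, hy, rfl⟩ := h2
  change w ^ i * y ∈ _ ∨ _
  rcases Int.even_or_odd' i with ⟨j, hj | hj⟩
  · left
    have e1 : w ^ i = (w * w) ^ j := by rw [hj, zpow_mul, zpow_two]
    rw [e1]
    exact mul_mem (zpow_mem h.wwS j) hy
  · right
    have e1 : w ^ i = w * (w * w) ^ j := by rw [hj, add_comm, zpow_add, zpow_one, zpow_mul, zpow_two]
    refine ⟨(w * w) ^ j * y, mul_mem (zpow_mem h.wwS j) hy, ?_⟩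
    change w ^ i * y = _
    rw [e1, mul_assoc]

theorem Sh_T : Sh T U U' w ≤ T ⊔ zpowers w := sup_le_sup_right inf_le_left _

theorem Sh2 : IsPGroup 2 (Sh T U U' w) := h.tw.to_le h.Sh_T

theorem wSh : w ∈ Sh T U U' w := (le_sup_right : zpowers w ≤ Sh T U U' w) (mem_zpowers w)

theorem SSh : S0 T U U' ≤ Sh T U U' w := le_sup_left

/-- `T ⟨w⟩` is a Sylow 2-subgroup of `G`, `Sh = T ⟨w⟩ ∩ C(U)` is a Sylow 2-subgroup of `C(U)`. -/
theorem sylC : ¬ 2 ∣ (Sh T U U' w).relIndex (centralizer (U : Set G)) := by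
  have : Fact (Nat.Prime 2) := ⟨Nat.prime_two⟩
  set Th : Subgroup G := T ⊔ zpowers w with hTh
  have hwn : zpowers w ≤ normalizer (T : Set G) := by rw [zpowers_le]; exact h.wT
  -- `|Th| = 2 |T|`
  have hlt : T < Th := lt_of_le_of_ne le_sup_left fun he => h.nT (by
    rw [he]; exact (le_sup_right : zpowers w ≤ Th) (mem_zpowers w))
  have hcard : 2 * Nat.card T ≤ Nat.card Th := by
    have h1 := Subgroup.card_dvd_of_le hlt.le
    obtain ⟨m, hm⟩ := h1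
    have h2 : m ≠ 0 := by
      rintro rfl
      rw [mul_zero] at hm
      exact Nat.card_pos.ne' hm
    have h3 : m ≠ 1 := by
      rintro rfl
      rw [mul_one] at hm
      exact hlt.ne (Subgroup.eq_of_le_of_card_ge hlt.le hm.le)
    rw [hm, mul_comm]
    exact Nat.mul_le_mul_left _ (by omega)
  obtain ⟨Q, hQ⟩ := h.tw.exists_le_sylow
  have hQT : (Q : Subgroup G) = Th := by
    have h1 := h.b.two Q Q.isPGroup' (hlt.le.trans hQ)
    exact (Subgroup.eq_of_le_of_card_ge hQ (h1.trans hcard)).symm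
  -- `Th` normalises `U`
  have hN : Th ≤ normalizer (U : Set G) := by
    refine sup_le (fun t ht => mem_normalizer_of_conj fun u hu => h.b.p.s.r.Dn t (h.b.TL ht) u hu) ?_
    rw [zpowers_le]
    exact centralizer_le_normalizer _ h.wC.1
  have h1 : ¬ 2 ∣ ((Q : Subgroup G) ⊓ normalizer (U : Set G)).relIndex (normalizer (U : Set G)) := by
    have e1 : (Q : Subgroup G) ⊓ normalizer (U : Set G) = Q := inf_eq_left.2 (by rw [hQT]; exact hN)
    rw [e1]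
    intro h2
    exact Q.not_dvd_index (h2.trans (relIndex_dvd_index_of_le (by rw [hQT]; exact hN)))
  have h2 := Cfsg.Agent.Lib.GoldschmidtFusion.not_dvd_relIndex_centralizer Q h1
  have h3 : centralizer (U : Set G) ⊓ (Q : Subgroup G) ≤ Sh T U U' w := by
    rintro x ⟨hx1, hx2⟩
    rw [hQT] at hx2
    have h4 : x ∈ ((T ⊔ zpowers w : Subgroup G) : Set G) := hx2
    rw [coe_mul_of_right_le_normalizer_left _ _ hwn] at h4
    obtain ⟨t, ht, z, hz, rfl⟩ := h4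
    have hz' : z ∈ CC U U' := (zpowers_le.2 h.wC) hz
    have ht' : t ∈ centralizer (U : Set G) := by
      have hz1 : z ∈ centralizer (U : Set G) := hz'.1
      have h5 : t * z * z⁻¹ ∈ centralizer (U : Set G) := mul_mem hx1 (inv_mem hz1)
      rwa [mul_inv_cancel_right] at h5
    have ht2 : t ∈ S0 T U U' := by
      refine ⟨ht, ht', mem_centralizer_iff.2 fun u hu => ?_⟩
      obtain ⟨y, rfl⟩ := h.b.U'_e hu
      exact (cen_e h.b ht (fun y => (mem_centralizer_iff.1 ht' _ (h.b.gU y)).symm) y).symm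
    exact mul_mem (h.SSh ht2) ((le_sup_right : zpowers w ≤ Sh T U U' w) hz)
  intro h4
  exact h2 (h4.trans (relIndex_dvd_of_le_left _ h3))

theorem syl : ¬ 2 ∣ (Sh T U U' w).relIndex (GG T A' U U' w n) :=
  Cfsg.Agent.Lib.EssentialFusion.not_dvd_relIndex_of_le h.ShG' h.GM h.sylC

omit h in
/-- `x` acts on `A` as the element of `A'` with parameter `t` -/
def Par (A : Subgroup G) (π : G → Fin 2 → F) (e g : F → G) (x : G) (t : F) : Prop :=
  ∀ v ∈ A, x * v * x⁻¹ = e (t ^ 2 * π v 0) * g (t * π v 0) * v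

theorem par_uniq {x : G} {t t' : F} (h1 : Par A π e g x t) (h2 : Par A π e g x t') : t = t' := by
  have h3 := h1 (f 1) (h.b.p.φ.fV 1)
  rw [h2 (f 1) (h.b.p.φ.fV 1)] at h3
  exact h.t_inj (mul_right_cancel h3).symm

theorem exists_par {x : G} (hx : x ∈ S0 T U U') : ∃ t, Par A π e g x t := h.b.tau hx.1 hx.2

theorem par_Y {x : G} (hx : x ∈ S0 T U U') {t : F} (ht : Par A π e g x t) {u : G} (hu : u ∈ Y A w) :
    x * u * x⁻¹ = e (t ^ 2 * s u) * g (t * s u) * u := by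
  obtain ⟨t', h1, h2⟩ := h.actS hx
  rw [h.par_uniq ht h1]
  exact h2 u hu

theorem par_KK {x y : G} (hx : x ∈ S0 T U U') (hy : y ∈ S0 T U U') {t : F} (h1 : Par A π e g x t)
    (h2 : Par A π e g y t) : x⁻¹ * y ∈ KK T A A' U U' w n := by
  have hx1 : x ∈ T := hx.1
  have hy1 : y ∈ T := hy.1
  refine h.QK (mem_inf.2 ⟨mul_mem (inv_mem hx1) hy1, mem_centralizer_iff.2 fun v hv => ?_⟩)
  have h3 : x * v * x⁻¹ = y * v * y⁻¹ := (h1 v hv).trans (h2 v hv).symm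
  calc v * (x⁻¹ * y) = x⁻¹ * (x * v * x⁻¹) * y := by group
    _ = x⁻¹ * (y * v * y⁻¹) * y := by rw [h3]
    _ = _ := by group

theorem par_KK' {x y : G} (hx : x ∈ S0 T U U') (hy : y ∈ S0 T U U') {t : F} (h1 : Par A π e g x t)
    (h2 : Par A π e g y t) : x * y⁻¹ ∈ KK T A A' U U' w n := by
  have h3 := h.KKn (h.SG hy) (h.par_KK hy hx h2 h1)
  have e1 : y * (y⁻¹ * x) * y⁻¹ = x * y⁻¹ := by group
  rwa [e1] at h3

theorem par_zero {x : G} (hx : x ∈ S0 T U U') (h1 : Par A π e g x 0) : x ∈ KK T A A' U U' w n := by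
  have h2 : Par A π e g (1 : G) 0 := fun v _ => by
    have h0 : (0 : F) ^ 2 = 0 := by norm_num
    rw [h0, zero_mul, h.b.p.φ.e0, h.b.p.φ.g0]; group
  have h3 := h.par_KK (one_mem _) hx h2 h1
  rwa [inv_one, one_mul] at h3

theorem par_mul {x y : G} (hx : x ∈ CC U U') {t t' : F} (h1 : Par A π e g x t)
    (h2 : Par A π e g y t') : Par A π e g (x * y) (t + t') := by
  intro v hv
  have h3 := h2 v hv
  have hex : ∀ z, x * e z = e z * x := fun z => cc_r hx (h.b.eU' z)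
  have hgx : ∀ z, x * g z = g z * x := fun z => cc_l hx (h.b.gU z)
  have two := h.b.p.s.r.two
  have e2 : (t + t') ^ 2 * π v 0 = t' ^ 2 * π v 0 + t ^ 2 * π v 0 := by linear_combination t * t' * π v 0 * two
  have e3 : (t + t') * π v 0 = t' * π v 0 + t * π v 0 := by ring
  have h4 := h1 v hv
  calc x * y * v * (x * y)⁻¹ = x * (y * v * y⁻¹) * x⁻¹ := by group
    _ = x * (e (t' ^ 2 * π v 0) * g (t' * π v 0) * v) * x⁻¹ := by rw [h3]
    _ = (x * e (t' ^ 2 * π v 0)) * g (t' * π v 0) * v * x⁻¹ := by group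
    _ = e (t' ^ 2 * π v 0) * (x * g (t' * π v 0)) * v * x⁻¹ := by rw [hex]; group
    _ = e (t' ^ 2 * π v 0) * g (t' * π v 0) * (x * v * x⁻¹) := by rw [hgx]; group
    _ = e (t' ^ 2 * π v 0) * (g (t' * π v 0) * e (t ^ 2 * π v 0)) * g (t * π v 0) * v := by rw [h4]; group
    _ = e (t' ^ 2 * π v 0) * (e (t ^ 2 * π v 0) * g (t' * π v 0)) * g (t * π v 0) * v := by
      rw [h.b.Ac (h.b.gA _) (h.b.eA _)]
    _ = e ((t + t') ^ 2 * π v 0) * g ((t + t') * π v 0) * v := by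
      rw [e2, e3, h.b.p.φ.e_add, h.b.p.φ.g_add]; group

theorem par_w {x : G} (hx : x ∈ S0 T U U') {t : F} (ht : Par A π e g x t) : Par A π e g (w⁻¹ * x * w) t := by
  intro v hv
  have h1 := h.par_Y hx ht (h.wAY hv)
  rw [h.c.s_conj w h.wC v hv] at h1
  have hew : ∀ z, w * e z = e z * w := fun z => cc_r h.wC (h.b.eU' z)
  have hgw : ∀ z, w * g z = g z * w := fun z => cc_l h.wC (h.b.gU z)
  have e1 : w⁻¹ * x * w * v * (w⁻¹ * x * w)⁻¹ = w⁻¹ * (x * (w * v * w⁻¹) * x⁻¹) * w := by group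
  rw [e1, h1]
  calc w⁻¹ * (e (t ^ 2 * π v 0) * g (t * π v 0) * (w * v * w⁻¹)) * w
      = w⁻¹ * (e (t ^ 2 * π v 0) * (g (t * π v 0) * w)) * v := by group
    _ = w⁻¹ * ((e (t ^ 2 * π v 0) * w) * g (t * π v 0)) * v := by rw [← hgw]; group
    _ = _ := by rw [← hew]; group

/-- squares in `S₀` -/
theorem sq_S {x y : G} (hx : x ∈ S0 T U U') (hy : y ∈ S0 T U U') {t : F} (h1 : Par A π e g x t)
    (h2 : Par A π e g y t) : x * y ∈ KK T A A' U U' w n := by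
  refine h.par_zero (mul_mem hx hy) ?_
  have h3 := h.par_mul hx.2 h1 h2
  have e1 : t + t = 0 := by have := h.b.p.s.r.two; linear_combination t * this
  rwa [e1] at h3

/-- squares in `Sh` -/
theorem sq_Sh {x : G} (hx : x ∈ Sh T U U' w) :
    x * x ∈ KK T A A' U U' w n ∨ x * x * (w * w)⁻¹ ∈ KK T A A' U U' w n := by
  rcases h.Sh_dec hx with hx | ⟨y, hy, rfl⟩
  · obtain ⟨t, ht⟩ := h.exists_par hx
    exact Or.inl (h.sq_S hx hx ht ht)
  · right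
    obtain ⟨t, ht⟩ := h.exists_par hy
    have h1 := h.sq_S (h.wS' hy) hy (h.par_w hy ht) ht
    have h2 := h.KKn (mul_mem h.wG h.wG) h1
    have e1 : w * w * (w⁻¹ * y * w * y) * (w * w)⁻¹ = w * y * (w * y) * (w * w)⁻¹ := by group
    rwa [e1] at h2

/-- `Sh` is abelian modulo `KK` -/
theorem ab_Sh {x y : G} (hx : x ∈ Sh T U U' w) (hy : y ∈ Sh T U U' w) :
    x * y * x⁻¹ * y⁻¹ ∈ KK T A A' U U' w n := by
  have hSS : ∀ x ∈ S0 T U U', ∀ y ∈ S0 T U U', x * y * x⁻¹ * y⁻¹ ∈ KK T A A' U U' w n := by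
    intro x hx y hy
    obtain ⟨t, ht⟩ := h.exists_par hx
    obtain ⟨t', ht'⟩ := h.exists_par hy
    have h1 := h.par_mul hx.2 ht ht'
    have h2 := h.par_mul hy.2 ht' ht
    rw [add_comm] at h2
    have h3 := h.par_KK' (mul_mem hx hy) (mul_mem hy hx) h1 h2
    have e1 : x * y * (y * x)⁻¹ = x * y * x⁻¹ * y⁻¹ := by group
    rwa [e1] at h3
  have hwS : ∀ y ∈ S0 T U U', w * y * w⁻¹ * y⁻¹ ∈ KK T A A' U U' w n := by
    intro y hy
    obtain ⟨t, ht⟩ := h.exists_par hy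
    have h1 := h.par_KK' hy (h.wS' hy) ht (h.par_w hy ht)
    have h2 := h.KKn h.wG h1
    have e1 : w * (y * (w⁻¹ * y * w)⁻¹) * w⁻¹ = w * y * w⁻¹ * y⁻¹ := by group
    rwa [e1] at h2
  have hc : ∀ {x y : G}, x * y * x⁻¹ * y⁻¹ ∈ KK T A A' U U' w n → y * x * y⁻¹ * x⁻¹ ∈ KK T A A' U U' w n := by
    intro x y h1
    have e1 : y * x * y⁻¹ * x⁻¹ = (x * y * x⁻¹ * y⁻¹)⁻¹ := by group
    rw [e1]; exact inv_mem h1
  have h1 : ∀ y ∈ S0 T U U', Sh T U U' w ≤ cenMod (GG T A' U U' w n) (KK T A A' U U' w n) h.GK y := by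
    intro y hy
    refine sup_le (fun x hx => ⟨h.SG hx, hSS x hx y hy⟩) ?_
    rw [zpowers_le]
    exact ⟨h.wG, hwS y hy⟩
  have h2 : Sh T U U' w ≤ cenMod (GG T A' U U' w n) (KK T A A' U U' w n) h.GK w := by
    refine sup_le (fun x hx => ⟨h.SG hx, hc (hwS x hx)⟩) ?_
    rw [zpowers_le]
    refine ⟨h.wG, ?_⟩
    have e1 : w * w * w⁻¹ * w⁻¹ = 1 := by group
    rw [e1]; exact one_mem _
  have h3 : Sh T U U' w ≤ cenMod (GG T A' U U' w n) (KK T A A' U U' w n) h.GK x := by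
    refine sup_le (fun y hy => ⟨h.SG hy, hc (h1 y hy hx).2⟩) ?_
    rw [zpowers_le]
    exact ⟨h.wG, hc (h2 hx).2⟩
  exact hc (h3 hy).2

/-- **(9c)** -/
theorem ww : w * w ∈ KK T A A' U U' w n := by
  by_contra hn
  obtain ⟨t, ht⟩ := h.exists_par h.wwS
  have ht0 : t ≠ 0 := by
    rintro rfl
    exact hn (h.par_zero h.wwS ht)
  obtain ⟨a, ha0, ha1⟩ := h.b.p.ω
  have r := h.b.p.s.r
  obtain ⟨x, hxX, hx⟩ := h.X_lift (dg a⁻¹ (inv_ne_zero ha0))
  obtain ⟨m, hm, hmI⟩ := h.b.exists_n t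
  obtain ⟨m', hm', hm'I⟩ := h.b.exists_n (a * t)
  have hA'S : A' ≤ S0 T U U' := fun y hy => ⟨h.b.A'T hy, h.b.A'C hy⟩
  have hpm : Par A π e g m t := fun v hv => h.b.act_n hmI hv
  have hpm' : Par A π e g m' (a * t) := fun v hv => h.b.act_n hm'I hv
  -- `x m x⁻¹ = m'` modulo `KK`
  have h1 : x * m * x⁻¹ * m'⁻¹ ∈ KK T A A' U U' w n := by
    refine h.X_KK (mul_mem (mul_mem hxX ((le_sup_left : A' ≤ X A' n) hm)) (inv_mem hxX))
      ((le_sup_left : A' ≤ X A' n) hm') (M := lo ((a * t) ^ 2)) ?_ hm'I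
    have h2 := r.is_mul (r.is_mul hx hmI) (r.is_inv hx)
    have h3 : dg a⁻¹ (inv_ne_zero ha0) * lo (t ^ 2) * (dg a⁻¹ (inv_ne_zero ha0))⁻¹ = lo ((a * t) ^ 2) := by
      rw [mul_inv_eq_iff_eq_mul]
      apply ext_ent <;> simp [ent_mul]
      field_simp
    rwa [h3] at h2
  have h2 : w * w * m⁻¹ ∈ KK T A A' U U' w n := h.par_KK' h.wwS (hA'S hm) ht hpm
  have h3 : x * (w * w) * x⁻¹ * m'⁻¹ ∈ KK T A A' U U' w n := by
    have h4 := mul_mem (h.KKn (h.XG hxX) h2) h1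
    have e1 : x * (w * w * m⁻¹) * x⁻¹ * (x * m * x⁻¹ * m'⁻¹) = x * (w * w) * x⁻¹ * m'⁻¹ := by group
    rwa [e1] at h4
  obtain ⟨c, hcG, hcP, hc⟩ := burn h.ShG' h.Sh2 h.syl h.GK (fun x hx y hy => h.ab_Sh hx hy)
    (h.SSh h.wwS) (h.SSh (hA'S hm')) (h.XG hxX) h3
  have h5 := hcP w h.wSh
  have e2 : c * w * c⁻¹ * (c * w * c⁻¹) = c * (w * w) * c⁻¹ := by group
  rcases h.sq_Sh h5 with h6 | h6
  · rw [e2] at h6
    -- `m' ∈ KK`
    have h7 : m' ∈ KK T A A' U U' w n := by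
      have := mul_mem (inv_mem hc) h6
      have e3 : (c * (w * w) * c⁻¹ * m'⁻¹)⁻¹ * (c * (w * w) * c⁻¹) = m' := by group
      rwa [e3] at this
    have h8 : Par A π e g m' 0 := fun v hv => by
      have h0 : (0 : F) ^ 2 = 0 := by norm_num
      rw [h0, zero_mul, h.b.p.φ.e0, h.b.p.φ.g0, one_mul, one_mul]
      exact fix_of_comm ((h.mem_KK.1 h7).2 v (h.AY hv))
    have h9 := h.par_uniq hpm' h8
    exact mul_ne_zero ha0 ht0 h9
  · rw [e2] at h6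
    -- `w² m'⁻¹ ∈ KK`
    have h7 : w * w * m'⁻¹ ∈ KK T A A' U U' w n := by
      have h8 := mul_mem (inv_mem h6) hc
      have e3 : ∀ a b d : G, (a * b⁻¹)⁻¹ * (a * d) = b * d := fun a b d => by group
      rwa [e3] at h8
    have h8 : Par A π e g (w * w) (a * t) := fun v hv => by
      have h9 := (h.mem_KK.1 h7).2 _ (h.AY (show m' * v * m'⁻¹ ∈ A from r.Vn m' (h.b.TL (h.b.A'T hm')) v hv))
      rw [← hpm' v hv]
      calc w * w * v * (w * w)⁻¹ = (w * w * m'⁻¹) * (m' * v * m'⁻¹) * (w * w * m'⁻¹)⁻¹ := by group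
        _ = m' * v * m'⁻¹ := fix_of_comm h9
    have h9 := h.par_uniq ht h8
    apply ha1
    have h10 : a * t = 1 * t := by rw [one_mul]; exact h9.symm
    exact mul_right_cancel₀ ht0 h10

end NW

end Cfsg.Agent.Omega.IId.Ns

end

section


/-!
# II.d, `k = 2`, nonsplit: (9d) `w` acts on `A` as an element of `A'`
-/

set_option autoImplicit false
set_option linter.unusedSectionVars false

namespace Cfsg.Agent.Omega.IId.Ns

open Subgroup Cfsg Cfsg.Agent.ZN Cfsg.Agent.Lib.SL2Mat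
open Cfsg.Agent.Omega.HOne.NSMod Cfsg.Agent.Omega.HOne.NSSide Cfsg.Agent.Omega.HOne.NSPair Cfsg.Agent.Omega.HOne.NSDat
open Cfsg.Agent.Omega.NatPair (ap ap_add ap_mul ap_one ap_inj ext2 ap_zero' ap_one' ap_inv_ap ap_ap_inv)
open Cfsg.Agent.Omega.BTwo (cj mem_cj conj_mem_cj card_cj cj_mul mem_normalizer_of_conj cj_eq_self_iff)

universe u

variable {G : Type u} [Group G] {F : Type} [Field F]
  {T T' L L' A A' U U' : Subgroup G} {π π' : G → Fin 2 → F} {e f g e' f' g' : F → G} {s : G → F}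

/-- coordinates on `Y / B` -/
def pt (s : G → F) (n : G) (u : G) : Fin 2 → F := ![s u, s (n * u * n⁻¹)]

/-- If `D / K` is a 2-group, `K ≤ D` normal in `H`, `S` Sylow in `H`, then `D ≤ K (S ∩ D)`. -/
theorem le_sup_syl [Finite G] {H D K S : Subgroup G} (hDH : D ≤ H) (hn : H ≤ normalizer (D : Set G))
    (hK : H ≤ normalizer (K : Set G)) (hs : ¬ 2 ∣ S.relIndex H) (hSH : S ≤ H)
    (h2 : ∀ x ∈ D, x * x ∈ K) {x : G} (hx : x ∈ D) : ∃ k ∈ K, ∃ y ∈ S ⊓ D, x = k * y := by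
  have hp : Fact (Nat.Prime 2) := ⟨Nat.prime_two⟩
  have hKn : (K.subgroupOf D).Normal := by
    constructor
    intro a ha b
    rw [mem_subgroupOf] at ha ⊢
    exact (mem_normalizer_iff.1 (hK (hDH b.2)) _).1 ha
  have hq : IsPGroup 2 (D ⧸ K.subgroupOf D) := by
    intro y
    obtain ⟨x, rfl⟩ := QuotientGroup.mk_surjective y
    refine ⟨1, ?_⟩
    rw [← QuotientGroup.mk_pow, QuotientGroup.eq_one_iff, mem_subgroupOf, pow_one, pow_two]
    exact h2 x x.2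
  obtain ⟨m, hm⟩ := IsPGroup.iff_card.mp hq
  have h1 : K.relIndex D = 2 ^ m := hm
  have h3 : (K ⊔ (S ⊓ D)).relIndex D ∣ 2 ^ m := by
    rw [← h1]
    exact Subgroup.relIndex_dvd_of_le_left D le_sup_left
  have hDn : (D.subgroupOf H).Normal := by
    rw [normal_subgroupOf_iff_le_normalizer hDH]; exact hn
  have h4 : S.relIndex D ∣ S.relIndex H := by
    have e1 : S.relIndex D = (S.subgroupOf H).relIndex (D.subgroupOf H) := by rw [relIndex_subgroupOf hDH]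
    have e2 : S.relIndex H = (S.subgroupOf H).index := rfl
    rw [e1, e2]
    exact Cfsg.Agent.Lib.GoldschmidtFusion.relIndex_dvd_index_of_normal_right _ _
  have h5 : (K ⊔ (S ⊓ D)).relIndex D ∣ S.relIndex D := by
    rw [← inf_relIndex_right S D]
    exact Subgroup.relIndex_dvd_of_le_left D le_sup_right
  have h6 : (K ⊔ (S ⊓ D)).relIndex D = 1 := by
    obtain ⟨i, -, hi⟩ := (Nat.dvd_prime_pow Nat.prime_two).1 h3
    rcases Nat.eq_zero_or_pos i with rfl | hi0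
    · rw [hi]; rfl
    · exfalso
      apply hs
      refine dvd_trans ?_ (h5.trans h4)
      rw [hi]
      exact dvd_pow_self 2 hi0.ne'
  have h7 : D ≤ K ⊔ (S ⊓ D) := relIndex_eq_one.1 h6
  have h8 : x ∈ ((K ⊔ (S ⊓ D) : Subgroup G) : Set G) := h7 hx
  rw [coe_mul_of_right_le_normalizer_left _ _ (inf_le_left.trans (hSH.trans hK))] at h8
  obtain ⟨k, hk, y, hy, rfl⟩ := h8
  exact ⟨k, hk, y, hy, rfl⟩

namespace NW

variable [Finite G] [Finite F] {w n : G} (h : NW T T' L L' A A' U U' π π' e f g e' f' g' s w n)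

include h

theorem A'S : A' ≤ S0 T U U' := fun _ hy => ⟨h.b.A'T hy, h.b.A'C hy⟩

/-- `|Sh : KK ∩ Sh| ≤ 2 q` -/
theorem card_Sh : (KK T A A' U U' w n).relIndex (Sh T U U' w) ≤ 2 * Nat.card F := by
  classical
  choose nt hnt hntI using fun t : F => h.b.exists_n t
  have hmem : ∀ p : Bool × F, (if p.1 then w else 1) * nt p.2 ∈ Sh T U U' w := by
    rintro ⟨b, t⟩
    refine mul_mem ?_ (h.SSh (h.A'S (hnt t)))
    cases b
    · simp
    · simpa using h.wSh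
  let φ : Bool × F → (Sh T U U' w) ⧸ (KK T A A' U U' w n).subgroupOf (Sh T U U' w) :=
    fun p => QuotientGroup.mk ⟨_, hmem p⟩
  have hS : ∀ y ∈ S0 T U U', ∃ t, (nt t)⁻¹ * y ∈ KK T A A' U U' w n := by
    intro y hy
    obtain ⟨t, ht⟩ := h.exists_par hy
    exact ⟨t, h.par_KK (h.A'S (hnt t)) hy (fun v hv => h.b.act_n (hntI t) hv) ht⟩
  have hφ : Function.Surjective φ := by
    intro q
    obtain ⟨⟨x, hx⟩, rfl⟩ := QuotientGroup.mk_surjective q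
    rcases h.Sh_dec hx with h1 | ⟨y, hy, rfl⟩
    · obtain ⟨t, ht⟩ := hS x h1
      refine ⟨(false, t), ?_⟩
      rw [QuotientGroup.eq, mem_subgroupOf]
      simpa using ht
    · obtain ⟨t, ht⟩ := hS y hy
      refine ⟨(true, t), ?_⟩
      rw [QuotientGroup.eq, mem_subgroupOf]
      have e1 : (w * nt t)⁻¹ * (w * y) = (nt t)⁻¹ * y := by group
      simpa [e1] using ht
  have h1 := Nat.card_le_card_of_surjective φ hφ
  rw [Nat.card_prod] at h1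
  have h2 : Nat.card Bool = 2 := by simp
  rw [h2] at h1
  exact h1

theorem into_Sh {R : Subgroup G} (hR : R ≤ GG T A' U U' w n) (hp : IsPGroup 2 R) :
    ∃ c ∈ GG T A' U U' w n, cj c R ≤ Sh T U U' w := exists_conj_le_syl hR h.Sh2 hp h.syl

theorem card_2 {R : Subgroup G} (hR : R ≤ GG T A' U U' w n) (hp : IsPGroup 2 R) :
    (KK T A A' U U' w n).relIndex R ≤ 2 * Nat.card F := by
  obtain ⟨c, hc, hcR⟩ := h.into_Sh hR hp
  have h1 : (cj c (KK T A A' U U' w n)).relIndex (cj c R) = (KK T A A' U U' w n).relIndex R :=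
    Subgroup.relIndex_map_map_of_injective _ _ (MulAut.conj c).injective
  rw [← h1, cj_eq_self_iff.2 (h.GK hc)]
  exact (relIndex_le_of_le_right hcR (Nat.pos_iff_ne_zero.1 (Nat.pos_of_ne_zero (by
    exact index_ne_zero_of_finite)))).trans h.card_Sh

theorem sq_Sh' {x : G} (hx : x ∈ Sh T U U' w) : x * x ∈ KK T A A' U U' w n := by
  rcases h.sq_Sh hx with h1 | h1
  · exact h1
  · have h2 := mul_mem h1 h.ww
    rwa [inv_mul_cancel_right] at h2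

theorem sq_2 {R : Subgroup G} (hR : R ≤ GG T A' U U' w n) (hp : IsPGroup 2 R) {x : G} (hx : x ∈ R) :
    x * x ∈ KK T A A' U U' w n := by
  obtain ⟨c, hc, hcR⟩ := h.into_Sh hR hp
  have h1 := h.sq_Sh' (hcR (conj_mem_cj hx))
  have h2 := h.KKn (inv_mem hc) h1
  have e1 : c⁻¹ * (c * x * c⁻¹ * (c * x * c⁻¹)) * c⁻¹⁻¹ = x * x := by group
  rwa [e1] at h2

theorem w_eU {a : G} (ha : a ∈ A) (h0 : π a 0 = 0) : w * a = a * w := by
  have h1 : (e (π a 1))⁻¹ * a ∈ U := by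
    refine h.b.mem_U (mul_mem (inv_mem (h.b.eA _)) ha) ?_
    rw [h.b.p.s.r.mul _ (inv_mem (h.b.eA _)) _ ha, h.b.p.s.r.map_inv (h.b.eA _), h.b.p.φ.eπ]
    apply ext2
    · simp [h0]
    · simp
  have h2 := cc_l h.wC h1
  have h3 := cc_r h.wC (h.b.eU' (π a 1))
  calc w * a = w * e (π a 1) * ((e (π a 1))⁻¹ * a) := by group
    _ = e (π a 1) * (w * ((e (π a 1))⁻¹ * a)) := by rw [h3]; group
    _ = _ := by rw [h2]; group

/-- `w` centralises `B` -/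
theorem wB {k : G} (hk : k ∈ B A A' U w n) : w * k = k * w := by
  have h1 : k ∈ ((A ⊔ cj w A : Subgroup G) : Set G) := hk.1
  have hn1 : cj w A ≤ normalizer (A : Set G) := by
    rintro _ ⟨a, ha, rfl⟩
    change w * a * w⁻¹ ∈ _
    refine mem_normalizer_of_conj fun b hb => ?_
    rw [h.Yc (h.wAY ha) (h.AY hb), mul_inv_cancel_right]; exact hb
  rw [coe_mul_of_right_le_normalizer_left _ _ hn1] at h1
  obtain ⟨a, ha, x, ⟨c, hc, rfl⟩, hk'⟩ := h1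
  have hk'' : k = a * (w * c * w⁻¹) := hk'.symm
  have haU := h.c.AU ha
  have hcU := h.c.AU hc
  have hwc : w * c * w⁻¹ ∈ UG A U := h.c.MU w h.wC.1 c hcU
  have h0 := h.sB hk
  rw [hk'', h.c.s_add _ haU _ hwc, h.c.s_A a ha, h.c.s_conj w h.wC c hc] at h0
  have h2 : w * (a * c) = a * c * w := h.w_eU (mul_mem ha hc) (by
    rw [h.b.p.s.r.mul a ha c hc]; exact h0)
  -- `k = (a c) (c⁻¹ (w c w⁻¹))`
  have h3 : w * (c⁻¹ * (w * c * w⁻¹)) * w⁻¹ = c⁻¹ * (w * c * w⁻¹) := by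
    have h4 := fix_of_comm ((h.mem_KK.1 h.ww).2 c (h.AY hc))
    have h5 : (w * c * w⁻¹)⁻¹ = w * c * w⁻¹ := inv_eq_of_mul_eq_one_left (h.c.sq _ hwc)
    have h6 : c⁻¹ = c := h.b.Ai hc
    calc w * (c⁻¹ * (w * c * w⁻¹)) * w⁻¹ = (w * c * w⁻¹)⁻¹ * (w * w * c * (w * w)⁻¹) := by group
      _ = (w * c * w⁻¹) * c := by rw [h4, h5]
      _ = c * (w * c * w⁻¹) := h.c.ab _ hwc _ hcU
      _ = _ := by rw [h6]
  have h7 : k = (a * c) * (c⁻¹ * (w * c * w⁻¹)) := by rw [hk'']; group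
  have h8 : w * k * w⁻¹ = k := by
    calc w * k * w⁻¹ = (w * (a * c) * w⁻¹) * (w * (c⁻¹ * (w * c * w⁻¹)) * w⁻¹) := by rw [h7]; group
      _ = k := by rw [fix_of_comm h2, h3, ← h7]
  exact comm_of_fix h8

/-- `GG` centralises `B` -/
theorem GB {x : G} (hx : x ∈ GG T A' U U' w n) {k : G} (hk : k ∈ B A A' U w n) : x * k = k * x := by
  have h1 : GG T A' U U' w n ≤ centralizer (B A A' U w n : Set G) := by
    refine sup_le (fun x hx => mem_centralizer_iff.2 fun k hk => (h.XB hx hk).symm)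
      (sup_le (fun x hx => mem_centralizer_iff.2 fun k hk => (h.SB hx hk).symm) ?_)
    rw [zpowers_le]
    exact mem_centralizer_iff.2 fun k hk => (h.wB hk).symm
  exact (mem_centralizer_iff.1 (h1 hx) k hk).symm

/-! ### coordinates -/

theorem pt_A {a : G} (ha : a ∈ A) : pt s n a = π a := by
  have h1 : n * a * n⁻¹ ∈ A := h.b.p.s.r.Vn n h.hn.mem a ha
  unfold pt
  rw [h.c.s_A a ha, h.c.s_A _ h1, h.b.pi_n h.hn ha]
  apply ext2 <;> simp

theorem pt_mul {u v : G} (hu : u ∈ UG A U) (hv : v ∈ UG A U) : pt s n (u * v) = pt s n u + pt s n v := by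
  unfold pt
  have e1 : n * (u * v) * n⁻¹ = (n * u * n⁻¹) * (n * v * n⁻¹) := by group
  rw [e1, h.c.s_add u hu v hv, h.c.s_add _ (h.c.MU n h.nM u hu) _ (h.c.MU n h.nM v hv)]
  apply ext2 <;> simp

theorem pt_B {u : G} (hu : u ∈ Y A w) : pt s n u = 0 ↔ u ∈ B A A' U w n := by
  unfold B
  rw [mem_inf, mem_K0_iff h.b h.c h.hn (h.Y_le hu)]
  unfold pt
  constructor
  · intro h1
    refine ⟨hu, ?_, ?_⟩
    · have := congrFun h1 0; simpa using this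
    · have := congrFun h1 1; simpa using this
  · rintro ⟨-, h1, h2⟩
    rw [h1, h2]
    apply ext2 <;> simp

theorem pt_hmul : ∀ y ∈ Y A w, ∀ y' ∈ Y A w, pt s n (y * y') = pt s n y + pt s n y' :=
  fun _ hy _ hy' => h.pt_mul (h.Y_le hy) (h.Y_le hy')

/-- the action of a lift on `Y / B` -/
theorem pt_X {x : G} (hx : x ∈ X A' n) {M : Matrix.SpecialLinearGroup (Fin 2) F} (hM : Is L A U π x M) {y : G}
    (hy : y ∈ Y A w) : pt s n (x * y * x⁻¹) = ap M (pt s n y) := by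
  obtain ⟨a, ha, k, hk, rfl⟩ := h.Y_dec hy
  have h1 : x * a * x⁻¹ ∈ A := h.b.p.s.r.Vn x hM.mem a ha
  have e1 : x * (a * k) * x⁻¹ = (x * a * x⁻¹) * (x * k * x⁻¹) := by group
  have h2 : pt s n k = 0 := (h.pt_B hk.1).2 hk
  rw [e1, fix_of_comm (h.XB hx hk), h.pt_mul (h.c.AU h1) (h.Y_le hk.1), h.pt_mul (h.c.AU ha) (h.Y_le hk.1), h2,
    add_zero, add_zero, h.pt_A h1, h.pt_A ha, hM.act a ha]

/-- `w` on `Y / B` -/
theorem pt_w {y : G} (hy : y ∈ Y A w) : pt s n (w * y * w⁻¹) =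
    ![pt s n y 0, pt s n y 1 + s (n * (w * f (pt s n y 0) * w⁻¹) * n⁻¹)] := by
  set z := pt s n y 0 with hz
  have hfA := h.b.fA z
  have hfU := h.c.AU hfA
  have hyU := h.Y_le hy
  have hr : (f z)⁻¹ * y ∈ Y A w := mul_mem (inv_mem (h.AY hfA)) hy
  have hf0 : pt s n (f z) = ![z, 0] := by rw [h.pt_A hfA, h.b.p.φ.fπ]
  have hfi : (f z)⁻¹ = f z := h.b.Ai hfA
  have h1 : pt s n ((f z)⁻¹ * y) = ![0, pt s n y 1] := by
    have two := h.b.p.s.r.two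
    rw [hfi, h.pt_mul hfU hyU, hf0]
    apply ext2
    · rw [Pi.add_apply, ← hz]
      simp only [Matrix.cons_val_zero]
      linear_combination z * two
    · simp
  have hs0 : s ((f z)⁻¹ * y) = 0 := congrFun h1 0
  obtain ⟨x, hx⟩ := dec_ker h.b h.c h.hn (h.Y_le hr) hs0
  have hxY : (e x)⁻¹ * ((f z)⁻¹ * y) ∈ Y A w := mul_mem (inv_mem (h.AY (h.b.eA x))) hr
  have hxB : (e x)⁻¹ * ((f z)⁻¹ * y) ∈ B A A' U w n := mem_inf.2 ⟨hxY, hx⟩
  have h2 : w * ((f z)⁻¹ * y) = (f z)⁻¹ * y * w := by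
    have h3 := h.wB hxB
    have h4 := cc_r h.wC (h.b.eU' x)
    calc w * ((f z)⁻¹ * y) = w * e x * ((e x)⁻¹ * ((f z)⁻¹ * y)) := by group
      _ = e x * (w * ((e x)⁻¹ * ((f z)⁻¹ * y))) := by rw [h4]; group
      _ = _ := by rw [h3]; group
  have h5 : w * y * w⁻¹ = (w * f z * w⁻¹) * ((f z)⁻¹ * y) := by
    calc w * y * w⁻¹ = (w * f z * w⁻¹) * (w * ((f z)⁻¹ * y) * w⁻¹) := by group
      _ = _ := by rw [fix_of_comm h2]
  have hwf : w * f z * w⁻¹ ∈ UG A U := h.c.MU w h.wC.1 _ hfU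
  rw [h5, h.pt_mul hwf (h.Y_le hr), h1]
  have h6 : s (w * f z * w⁻¹) = z := by
    rw [h.c.s_conj w h.wC _ hfA, h.b.p.φ.fπ]; rfl
  apply ext2
  · unfold pt
    simp [h6]
  · unfold pt
    simp [add_comm]

/-- **(9d)**: `w` acts on `Y / B` as a scalar -/
theorem exists_l : ∃ l : F, ∀ z, s (n * (w * f z * w⁻¹) * n⁻¹) = l * z := by
  have hchar : CharP F 2 := CharTwo.of_one_ne_zero_of_two_eq_zero one_ne_zero h.b.p.s.r.two
  refine Cfsg.Agent.Omega.HOne.NSK.scalar_of_act (Y := Y A w) (B := B A A' U w n) (X := GG T A' U U' w n)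
    (π := pt s n) h.pt_hmul (fun y hy => h.pt_B hy) ?_ (fun x hx y hy => h.GY' hx hy) ?_ ?_
    (KK T A A' U U' w n) ?_ (fun R hR hp => h.card_2 hR hp) (fun R hR hp x hx => h.sq_2 hR hp hx) h.wG
    (α := fun z => s (n * (w * f z * w⁻¹) * n⁻¹)) (fun y hy => h.pt_w hy)
  · intro v
    obtain ⟨a, ha, hv⟩ := h.b.p.s.r.surj v
    exact ⟨a, h.AY ha, by rw [h.pt_A ha, hv]⟩
  · intro x hx y hy
    rw [fix_of_comm (h.GB hx hy)]; exact hy
  · intro M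
    obtain ⟨x, hx, hM⟩ := h.X_lift M
    exact ⟨x, h.XG hx, fun y hy => h.pt_X hx hM hy⟩
  · intro c hc y hy
    rw [fix_of_comm ((h.mem_KK.1 hc).2 y hy)]

/-! ### the elements trivial on `Y / B` -/

omit h in
/-- the elements of `GG` which are trivial on `Y / B` -/
def D0 (T A A' U U' : Subgroup G) (s : G → F) (w n : G) : Set G :=
  {x | x ∈ GG T A' U U' w n ∧ ∀ y ∈ Y A w, pt s n (x * y * x⁻¹) = pt s n y}

theorem pt_conj {x : G} (hx : x ∈ GG T A' U U' w n) {y y' : G} (hy : y ∈ Y A w) (hy' : y' ∈ Y A w)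
    (hyy : pt s n y = pt s n y') : pt s n (x * y * x⁻¹) = pt s n (x * y' * x⁻¹) :=
  Cfsg.Agent.Omega.HOne.NSK.pi_conj (Y := Y A w) (B := B A A' U w n) h.pt_hmul (fun y hy => h.pt_B hy)
    (fun y hy => h.GY' hx hy) (fun y hy => by rw [fix_of_comm (h.GB hx hy)]; exact hy) hy hy' hyy

omit h in
/-- `D0` as a subgroup -/
def D0' (h : NW T T' L L' A A' U U' π π' e f g e' f' g' s w n) : Subgroup G where
  carrier := D0 T A A' U U' s w n
  one_mem' := ⟨one_mem _, fun y _ => by rw [one_mul, inv_one, mul_one]⟩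
  mul_mem' := by
    rintro x x' ⟨hx, h1⟩ ⟨hx', h2⟩
    refine ⟨mul_mem hx hx', fun y hy => ?_⟩
    have e1 : x * x' * y * (x * x')⁻¹ = x * (x' * y * x'⁻¹) * x⁻¹ := by group
    rw [e1, h1 _ (h.GY' hx' hy), h2 y hy]
  inv_mem' := by
    rintro x ⟨hx, h1⟩
    refine ⟨inv_mem hx, fun y hy => ?_⟩
    have h2 := h1 _ (h.GY' (inv_mem hx) hy)
    have e1 : x * (x⁻¹ * y * x⁻¹⁻¹) * x⁻¹ = y := by group
    rw [e1] at h2
    exact h2.symm

theorem mem_D0 {x : G} : x ∈ h.D0' ↔ x ∈ GG T A' U U' w n ∧ ∀ y ∈ Y A w, pt s n (x * y * x⁻¹) = pt s n y := Iff.rfl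

theorem D0n : GG T A' U U' w n ≤ normalizer (h.D0' : Set G) := by
  intro x hx
  refine mem_normalizer_of_conj fun c hc => ?_
  rw [h.mem_D0] at hc ⊢
  refine ⟨mul_mem (mul_mem hx hc.1) (inv_mem hx), fun y hy => ?_⟩
  have h1 := h.GY' (inv_mem hx) hy
  have h2 := hc.2 _ h1
  have h3 := h.pt_conj hx (h.GY' hc.1 h1) h1 h2
  have e1 : x * c * x⁻¹ * y * (x * c * x⁻¹)⁻¹ = x * (c * (x⁻¹ * y * x⁻¹⁻¹) * c⁻¹) * x⁻¹ := by group
  have e2 : x * (x⁻¹ * y * x⁻¹⁻¹) * x⁻¹ = y := by group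
  rw [e1, h3, e2]

/-- `x y x⁻¹ y⁻¹ ∈ B` for `x` in `D0` -/
theorem D0_b {x : G} (hx : x ∈ h.D0') {y : G} (hy : y ∈ Y A w) : x * y * x⁻¹ * y⁻¹ ∈ B A A' U w n := by
  rw [h.mem_D0] at hx
  have h1 := h.GY' hx.1 hy
  rw [← h.pt_B (mul_mem h1 (inv_mem hy))]
  have h2 := h.pt_hmul (x * y * x⁻¹ * y⁻¹) (mul_mem h1 (inv_mem hy)) y hy
  rw [inv_mul_cancel_right, hx.2 y hy] at h2
  exact right_eq_add.1 h2

theorem D0_sq {x : G} (hx : x ∈ h.D0') : x * x ∈ KK T A A' U U' w n := by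
  have hxG := (h.mem_D0.1 hx).1
  rw [h.mem_KK]
  refine ⟨mul_mem hxG hxG, fun y hy => comm_of_fix ?_⟩
  have hb := h.D0_b hx hy
  have h1 := h.GB hxG hb
  have h2 : (x * y * x⁻¹ * y⁻¹) * (x * y * x⁻¹ * y⁻¹) = 1 := h.c.sq _ (h.Y_le hb.1)
  calc x * x * y * (x * x)⁻¹ = x * (x * y * x⁻¹ * y⁻¹) * x⁻¹ * (x * y * x⁻¹ * y⁻¹) * y := by group
    _ = (x * y * x⁻¹ * y⁻¹) * (x * y * x⁻¹ * y⁻¹) * y := by rw [fix_of_comm h1]
    _ = y := by rw [h2, one_mul]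

theorem S0_D0 {x : G} (hx : x ∈ S0 T U U') (hD : x ∈ h.D0') : x ∈ KK T A A' U U' w n := by
  obtain ⟨t, ht⟩ := h.exists_par hx
  have h1 := (h.mem_D0.1 hD).2 _ (h.AY (h.b.fA 1))
  rw [ht _ (h.b.fA 1), h.pt_mul (mul_mem (h.c.AU (h.b.eA _)) (h.c.AU (h.b.gA _))) (h.c.AU (h.b.fA 1)),
    h.pt_mul (h.c.AU (h.b.eA _)) (h.c.AU (h.b.gA _)), h.pt_A (h.b.eA _), h.pt_A (h.b.gA _), h.b.p.φ.fπ, h.b.p.φ.eπ,
    (h.b.p.s.r.ker _ (h.b.gA _)).2 (h.b.gU _)] at h1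
  have h2 := congrFun h1 1
  have h3 : t ^ 2 = 0 := by simpa using h2
  have h4 : t = 0 := pow_eq_zero_iff two_ne_zero |>.1 h3
  subst h4
  exact h.par_zero hx ht

/-- `|D0 / KK| ≤ 2` -/
theorem D0_two {x x' : G} (hx : x ∈ h.D0') (hx' : x' ∈ h.D0') (h1 : x ∉ KK T A A' U U' w n)
    (h1' : x' ∉ KK T A A' U U' w n) : x⁻¹ * x' ∈ KK T A A' U U' w n := by
  have hDG : h.D0' ≤ GG T A' U U' w n := fun y hy => (h.mem_D0.1 hy).1
  have key : ∀ x ∈ h.D0', x ∉ KK T A A' U U' w n → ∃ k ∈ KK T A A' U U' w n, ∃ y ∈ S0 T U U', x = k * (w * y) := by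
    intro x hx hxK
    obtain ⟨k, hk, y, hy, rfl⟩ := le_sup_syl hDG h.D0n h.GK h.syl h.ShG' (fun x hx => h.D0_sq hx) hx
    rcases h.Sh_dec hy.1 with h2 | ⟨y0, hy0, rfl⟩
    · exact absurd (mul_mem hk (h.S0_D0 h2 hy.2)) hxK
    · exact ⟨k, hk, y0, hy0, rfl⟩
  obtain ⟨k, hk, y, hy, rfl⟩ := key x hx h1
  obtain ⟨k', hk', y', hy', rfl⟩ := key x' hx' h1'
  have h2 : y⁻¹ * (w⁻¹ * (k⁻¹ * k') * w) * y ∈ KK T A A' U U' w n := by
    have h3 := h.KKn (inv_mem (mul_mem h.wG (h.SG hy))) (mul_mem (inv_mem hk) hk')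
    have e1 : (w * y)⁻¹ * (k⁻¹ * k') * (w * y)⁻¹⁻¹ = y⁻¹ * (w⁻¹ * (k⁻¹ * k') * w) * y := by group
    rwa [e1] at h3
  have e2 : (k * (w * y))⁻¹ * (k' * (w * y')) = y⁻¹ * (w⁻¹ * (k⁻¹ * k') * w) * y * (y⁻¹ * y') := by group
  have hKD : KK T A A' U U' w n ≤ h.D0' := by
    intro c hc
    rw [h.mem_D0]
    refine ⟨hc.1, fun u hu => ?_⟩
    rw [fix_of_comm ((h.mem_KK.1 hc).2 u hu)]
  have h4 : y⁻¹ * y' ∈ h.D0' := by
    have h5 := mul_mem (inv_mem hx) hx'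
    rw [e2] at h5
    have h6 := mul_mem (inv_mem (hKD h2)) h5
    rwa [inv_mul_cancel_left] at h6
  rw [e2]
  exact mul_mem h2 (h.S0_D0 (mul_mem (inv_mem hy) hy') h4)

/-- **(9)** `w` acts on `A` as an element of `A'`. -/
theorem main : ∃ n0 ∈ A', ∀ a ∈ A, w * a * w⁻¹ = n0 * a * n0⁻¹ := by
  obtain ⟨l, hl⟩ := h.exists_l
  obtain ⟨n0, hn0, hI⟩ := h.b.p.s.full l
  refine ⟨n0, hn0, ?_⟩
  have r := h.b.p.s.r
  have hX0 : n0 ∈ X A' n := (le_sup_left : A' ≤ X A' n) hn0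
  have hX0i : n0⁻¹ ∈ X A' n := inv_mem hX0
  have hIi := r.is_inv hI
  -- `v = n0⁻¹ w`
  have hvG : n0⁻¹ * w ∈ GG T A' U U' w n := mul_mem (h.XG hX0i) h.wG
  have hvD : n0⁻¹ * w ∈ h.D0' := by
    rw [h.mem_D0]
    refine ⟨hvG, fun y hy => ?_⟩
    have h1 := h.pt_w hy
    rw [hl] at h1
    have h2 := h.pt_X hX0i hIi (h.wY hy)
    have h3 : pt s n (w * y * w⁻¹) = ap (lo l) (pt s n y) := by
      rw [h1, ap_lo]
      apply ext2
      · simp
      · simp [add_comm]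
    have e1 : n0⁻¹ * w * y * (n0⁻¹ * w)⁻¹ = n0⁻¹ * (w * y * w⁻¹) * n0⁻¹⁻¹ := by group
    rw [e1, h2, h3, ap_inv_ap]
  suffices hK : n0⁻¹ * w ∈ KK T A A' U U' w n by
    intro a ha
    have h1 := fix_of_comm ((h.mem_KK.1 hK).2 a (h.AY ha))
    calc w * a * w⁻¹ = n0 * (n0⁻¹ * w * a * (n0⁻¹ * w)⁻¹) * n0⁻¹ := by group
      _ = _ := by rw [h1]
  by_contra hK
  have hvC : n0⁻¹ * w ∈ CC U U' := mul_mem (inv_mem (h.b.A'C hn0)) h.wC
  obtain ⟨v, hv⟩ : ∃ v, v = n0⁻¹ * w := ⟨_, rfl⟩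
  rw [← hv] at hvG hvD hK hvC
  -- `v` commutes with `x a x⁻¹ a⁻¹`
  have key : ∀ x ∈ X A' n, ∀ a ∈ A, v * (x * a * x⁻¹ * a⁻¹) = x * a * x⁻¹ * a⁻¹ * v := by
    intro x hx a ha
    have hxG := h.XG hx
    have haY := h.AY ha
    have hxa : x * a * x⁻¹ ∈ Y A w := h.XY hx haY
    have h1 : x * v * x⁻¹ ∈ h.D0' := (mem_normalizer_iff.1 (h.D0n hxG) v).1 hvD
    have h2 : x * v * x⁻¹ ∉ KK T A A' U U' w n := fun h3 => hK ((mem_normalizer_iff.1 (h.GK hxG) v).2 h3)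
    have h3 := h.D0_two hvD h1 hK h2
    have h4 := (h.mem_KK.1 h3).2 _ hxa
    have h5 : x * (v * a * v⁻¹) * x⁻¹ = v * (x * a * x⁻¹) * v⁻¹ := by
      have h6 := fix_of_comm h4
      calc x * (v * a * v⁻¹) * x⁻¹ = v * ((v⁻¹ * (x * v * x⁻¹)) * (x * a * x⁻¹) * (v⁻¹ * (x * v * x⁻¹))⁻¹) * v⁻¹ := by
            group
        _ = _ := by rw [h6]
    have hb := h.D0_b hvD haY
    obtain ⟨b, hb'⟩ : ∃ b, b = v * a * v⁻¹ * a⁻¹ := ⟨_, rfl⟩
    rw [← hb'] at hb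
    have h7 : v * a * v⁻¹ = b * a := by rw [hb']; group
    have h8 : v * (x * a * x⁻¹) * v⁻¹ = b * (x * a * x⁻¹) := by
      rw [← h5, h7]
      calc x * (b * a) * x⁻¹ = (x * b * x⁻¹) * (x * a * x⁻¹) := by group
        _ = _ := by rw [fix_of_comm (h.XB hx hb)]
    apply comm_of_fix
    have h9 : b * (x * a * x⁻¹ * a⁻¹) = x * a * x⁻¹ * a⁻¹ * b := h.Yc hb.1 (mul_mem hxa (inv_mem haY))
    calc v * (x * a * x⁻¹ * a⁻¹) * v⁻¹ = (v * (x * a * x⁻¹) * v⁻¹) * (v * a * v⁻¹)⁻¹ := by group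
      _ = b * (x * a * x⁻¹ * a⁻¹) * b⁻¹ := by rw [h8, h7]; group
      _ = _ := by rw [h9]; group
  apply hK
  refine h.mem_KK' hvG (fun a ha => fix_of_comm ?_) fun k hk => h.GB hvG hk
  -- `v` centralises `A`
  have hwm : (wm (1 : F) one_ne_zero)⁻¹ = wm 1 one_ne_zero := by
    have two := r.two
    have h1 : (-1 : F) = 1 := by linear_combination (-1 : F) * two
    rw [inv_eq_iff_mul_eq_one]
    apply ext_ent <;> simp [ent_mul, h1]
  have hni : Is L A U π n⁻¹ (wm 1 one_ne_zero) := by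
    have := r.is_inv h.hn
    rwa [hwm] at this
  have hA : A ≤ centralizer ({v} : Set G) := by
    refine h.b.A_le hni (fun z => ?_) (fun z => ?_) fun u hu => ?_
    · rw [mem_centralizer_iff]
      rintro _ rfl
      exact cc_r hvC (h.b.eU' z)
    · rw [mem_centralizer_iff]
      intro v' hv'
      rw [Set.mem_singleton_iff.1 hv']
      obtain ⟨k, hk, hkI⟩ := h.b.exists_n 1
      have hx : n⁻¹ * k * n ∈ X A' n := by
        have := conj_mem_cj (g := n⁻¹) hk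
        rw [inv_inv] at this
        exact (le_sup_right : cj n⁻¹ A' ≤ X A' n) this
      have h1 := key _ hx _ (h.b.eA z)
      have h2 : n * e z * n⁻¹ ∈ A := r.Vn n h.hn.mem _ (h.b.eA z)
      have h3 := h.b.act_n hkI h2
      have h4 : π (n * e z * n⁻¹) 0 = z := by rw [h.b.pi_n h.hn (h.b.eA z), h.b.p.φ.eπ]; simp
      rw [h4, one_pow, one_mul] at h3
      have h5 : n⁻¹ * k * n * e z * (n⁻¹ * k * n)⁻¹ * (e z)⁻¹ = n⁻¹ * e z * n * g z := by
        have h6 : n⁻¹ * g z * n = g z := fix_of_comm' (h.hn.cen _ (h.b.gU z))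
        calc n⁻¹ * k * n * e z * (n⁻¹ * k * n)⁻¹ * (e z)⁻¹
            = n⁻¹ * (k * (n * e z * n⁻¹) * k⁻¹) * (n * e z * n⁻¹)⁻¹ * n := by group
          _ = n⁻¹ * (e z * g z * (n * e z * n⁻¹)) * (n * e z * n⁻¹)⁻¹ * n := by rw [h3]
          _ = n⁻¹ * e z * n * (n⁻¹ * g z * n) := by group
          _ = _ := by rw [h6]
      rw [h5] at h1
      have h7 := cc_l hvC (h.b.gU z)
      rw [inv_inv]
      have h8 : v * (n⁻¹ * e z * n * g z) = v * (n⁻¹ * e z * n) * g z := by group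
      have h9 : n⁻¹ * e z * n * g z * v = n⁻¹ * e z * n * v * g z := by
        rw [mul_assoc, ← h7, mul_assoc, mul_assoc, mul_assoc, mul_assoc, mul_assoc]
      rw [h8, h9] at h1
      exact mul_right_cancel h1
    · rw [mem_centralizer_iff]
      rintro _ rfl
      exact cc_l hvC hu
  exact mem_centralizer_iff.1 (hA ha) v rfl

end NW

end Cfsg.Agent.Omega.IId.Ns

end
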